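import Cfsg.Agent.G41.PhiB

/-! An invariant linear character of `O(C(t))` is trivial when the Sylow 2-subgroups of the
perfect group `G` are dihedral of order at least 16. -/

set_option autoImplicit false

namespace Cfsg.G41

open Subgroup Cfsg.FT Cfsg.Gag Cfsg.Gag.V Cfsg.GW Cfsg.GW.C1
open scoped ComplexConjugate MonoidAlgebra Pointwise commutatorElement

universe u

namespace Phi

variable {G : Type u} [Group G] {M : Ideal AlgInt} {O U V P H : Subgroup G} {μ ν : G → ℂ}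
  {t v σ τ : G} {e f : (resK M)[G]} {m : ℕ}

theorem chain [Finite G] (h : Lin t U μ) (hM : IsPModular 2 M) (hi : Inv P U μ)
    (hf : PairLE 2 ⊤ V f P e) (ht : t ∈ V) (he : lamF M μ e ≠ 0) : lamF M μ f ≠ 0 := by
  suffices ∀ a : Subgroup G × (resK M)[G], Relation.ReflTransGen
      (fun a b : Subgroup G × (resK M)[G] => NSub 2 ⊤ a.1 a.2 b.1 b.2) a (P, e) → t ∈ a.1 →
      lamF M μ a.2 ≠ 0 from this _ hf ht
  intro a ha
  induction ha using Relation.ReflTransGen.head_induction_on with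
  | refl => exact fun _ => he
  | @head a b h1 h2 ih =>
    exact fun ht => h.step hM (fun g hg => hi g (PairLE.le (Q := b.1) (f := b.2) h2 hg))
      (cent_le_cent1 ht) h1 (ih (h1.le ht))

theorem inverted [Finite G] (hl : Lin v O μ) (hi : Inv H O μ) (hv : ∃ k, orderOf v = 2 ^ k)
    (hH : ∀ y : G, y * v * y⁻¹ = v⁻¹ → y ∈ H) {a b : G} (a2 : a * a = 1) (b2 : b * b = 1)
    (hc : IsConj v (pPart 2 (a * b))) : ∃ x, ∃ s ∈ O, μ s = 1 ∧ a * b = x * (v * s) * x⁻¹ := by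
  obtain ⟨x, s, hs, hx⟩ := exists_conj_eq_mul_regular rfl hc
  have hs' : (s : G) ∈ O := (hl.mem s).2 ⟨s.2, by rwa [orderOf_coe]⟩
  have e1 : (x⁻¹ * a * x) * (v * s) * (x⁻¹ * a * x)⁻¹ = (v * s : G)⁻¹ := by
    rw [show (v * s : G) = x⁻¹ * (a * b) * x by rw [hx]; group, mul_inv_rev (x⁻¹ * _),
      mul_inv_rev (x⁻¹ * _), mul_inv_rev, mul_inv_rev _ (a * b), mul_inv_rev a,
      inv_eq_of_mul_eq_one_right a2, inv_eq_of_mul_eq_one_right b2]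
    simp [mul_assoc, ← mul_assoc a a, a2]
  have e2 := congrArg (pPart 2) e1
  rw [pPart_conj, pPart_inv, pPart_mul_eq_of_regular hv rfl hs] at e2
  have e3 : (x⁻¹ * a * x) * s * (x⁻¹ * a * x)⁻¹ = (s : G)⁻¹ := by
    rw [← conj_mul, e2, (commute_of_mem_centralizer_eq rfl s).eq, mul_inv_rev (s : G)] at e1
    exact mul_left_cancel e1
  exact ⟨x, s, hs', hl.eq_one hs' (e3 ▸ hi _ (hH _ e2) s hs'), hx⟩

variable [Fintype G] {B : Set (IrrCharacter G)}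

theorem below (S : StarSetup 2 M B P e) (h : Lin t U μ) (hi : Inv P U μ) (h0 : lamF M μ e ≠ 0)
    (hVP : V ≤ P) (ht : t ∈ V) {s : P} (hs : (s : G) ∈ V) (hc : V ≤ 𝐂₁[(s : G)])
    (h' : Lin (s : G) O ν) (hi' : Inv V O ν) (ha : ∀ x ∈ U ⊓ 𝐂[V], ν x = μ x) :
    lamF M ν (subIdem M _ (S.below s)) ≠ 0 := by
  have := S.hM.charP
  obtain ⟨f, hf⟩ := exists_pairLE S.isPair hVP
  have hp := hf.isPair_left S.isPair
  refine h'.step S.hM hi' (cent_cycle _).le (((S.below_le s).of_le_of_le S.isPair hf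
    (zpowers_le.2 hs)).nsub hp (norms_cycle hc)) ?_
  rw [lamF_congr (ν := μ) fun x hx => ha x ⟨by_contra fun e => hx (mem_suppGA.1 (h.supp S.hM
    (cent_le_cent1 ht) (isPair_top_iff.1 hp).2) x e), by_contra fun e => hx (mem_suppGA.1 hp.supp x e)⟩]
  exact chain h S.hM hi hf ht h0

theorem core {P : Sylow 2 G} (hG : commutator G = ⊤) (h : IsDih (P : Subgroup G) σ τ m)
    (hm : 4 ≤ m) (hinv : ∀ s, orderOf s = 2 → IsConj (σ ^ m) s) (hμ : Mu (σ ^ m) μ)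
    (hW : ∀ s ∈ (P : Subgroup G), orderOf s = 2 → ∃ y, s = y * σ ^ m * y⁻¹ ∧
      ∀ x ∈ oc (σ ^ m) ⊓ 𝐂₁[s], μ (y⁻¹ * x * y) = μ x) : False := by
  classical
  obtain ⟨M, hM⟩ := exists_isPModular Nat.prime_two
  obtain ⟨B, e, S, h0⟩ := exists_setup hM P hμ.lin.one
  have := hM.charP
  have hc := h.le_centralizer_J
  have hi : Inv P (oc (σ ^ m)) μ := fun g hg => hμ.inv g (hc hg)
  set t : (P : Subgroup G) := ⟨σ ^ m, pow_mem h.mem_σ m⟩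
  have ab : ∀ v ∈ zpowers σ, zpowers σ ≤ 𝐂₁[v] := fun v hv w hw =>
    mem_cent1.2 (congrArg Subtype.val (mul_comm' (⟨w, hw⟩ : zpowers σ) ⟨v, hv⟩))
  have ft : ∀ w : (P : Subgroup G), orderOf (w : G) = 2 →
      PairFuse 2 (P : Subgroup G) e (t : G) w := fun w hw => by
    obtain ⟨y, e1, e2⟩ := hW w w.2 hw
    have c1 : ⟪σ ^ m⟫ ⊔ ⟪(w : G)⟫ ≤ 𝐂₁[(w : G)] :=
      sup_le (zpowers_le.2 (mem_cent1.2 (mem_cent1.1 (hc w.2)).symm)) (zpowers_le.2 (cent1id _))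
    refine fuse_of S e1 hμ.lin (below S hμ.lin hi h0 h.zpowers_le IsDih.J_mem (s := t) IsDih.J_mem
      (ab _ IsDih.J_mem) hμ.lin (fun g hg => hi g (h.zpowers_le hg)) fun _ _ => rfl)
      (below S hμ.lin hi h0 (sup_le (zpowers_le.2 t.2) (zpowers_le.2 w.2))
        (mem_sup_left (mem_zpowers _)) (mem_sup_right (mem_zpowers _)) c1
        (e1 ▸ hμ.lin.conj y : Lin (w : G) _ _) (fun g hg x hx => ?_) fun x hx =>
          e2 x ⟨hx.1, cent_le_cent1 (mem_sup_right (mem_zpowers _)) hx.2⟩)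
    have := c1 hg
    rw [e1, cent1_conj, mem_conj] at this
    simpa [mul_assoc] using hμ.inv _ this _ (mem_conj.1 hx)
  have col : ∀ v ∈ zpowers σ, v ≠ 1 → (∀ χ ∈ B, ∀ x ∈ oc (σ ^ m) ⊓ 𝐂₁[v],
      χ.1 (v * x) = χ.1 v * μ x) ∧ ∑ χ ∈ irrFinset B, χ.1 v * conj (χ.1 v) =
        Nat.card ↥((P : Subgroup G) ⊓ 𝐂₁[v]) ∧ (v = σ ^ m → ∀ χ ∈ B, χ.1 v ≠ 0) ∧
        Lin v (oc (σ ^ m) ⊓ 𝐂₁[v]) μ := fun v hv v1 => by
    set F : (P : Subgroup G) := ⟨v, h.zpowers_le hv⟩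
    have hf := h.centralizer_le P.isPGroup' hv v1
    have hl : Lin (F : G) (oc (σ ^ m) ⊓ 𝐂₁[v]) μ := ⟨fun u => by
      rw [mem_inf, hμ.lin.mem]; exact ⟨fun e => ⟨e.2, e.1.2⟩, fun e => ⟨⟨hf e.1, e.2⟩, e.1⟩⟩,
      hμ.lin.one, fun u hu v hv => hμ.lin.mul u hu.1 v hv.1⟩
    have hi' : Inv 𝐂₁[(F : G)] (oc (σ ^ m) ⊓ 𝐂₁[v]) μ := fun g hg u hu => hμ.inv g (hf hg) u hu.1
    obtain ⟨s, n, C⟩ := exists_col S hl (below S hμ.lin hi h0 h.zpowers_le IsDih.J_mem hv (ab v hv)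
      hl (fun g hg => hi' g (ab v hv hg)) fun _ _ => rfl)
    have fu : ∀ w : (P : Subgroup G), IsConj (F : G) w → PairFuse 2 (P : Subgroup G) e (F : G) w := by
      intro w hw
      by_cases e1 : (w : G) ∈ zpowers σ
      · obtain ⟨g, hg⟩ := isConj_iff.1 hw
        rcases h.conj_eq_or_of_mem (g := g) hv (hg ▸ e1) with e | e <;> rw [← hg]
        · exact e.symm ▸ pairFuse_refl S.isPair F.2
        · exact ((h.τ_conj hv).trans e.symm) ▸ pairFuse_conj S.isPair F.2 h.mem_τ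
      · have e2 := h.orderOf_of_notMem w.2 e1
        rw [show (F : G) = t from h.eq_J hv ((orderOf_eq_of_isConj hw).symm.trans e2)]
        exact ft w e2
    have h1 : ∀ χ ∈ B, χ.1 v = classInner χ.1 s := fun χ hχ => by
      simpa [hμ.lin.one] using C.apply_mul hl hi' fu hχ (one_mem _)
    refine ⟨fun χ hχ x hx => h1 χ hχ ▸ C.apply_mul hl hi' fu hχ hx, ?_, fun e χ hχ =>
      h1 χ hχ ▸ C.ne_of_central hχ (le_cent1.1 (show _ ≤ 𝐂₁[v] from e ▸ hc)), hl⟩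
    have := index_sdprod (subcent_sdprod (A := ⟪v⟫) (dih_sd h)
      (zpowers_le.2 (oc_norm _ (hc F.2))) (zpowers_le.2 (le_normalizer F.2)))
    rw [cent_cycle, inf_eq_right.2 hf] at this
    have e1 := C.self
    rw [(C.inv hi').1, this] at e1
    nth_rw 1 [← C.blk] at e1
    rw [← e1, classInner_blockPart_eq_sum]
    exact Finset.sum_congr rfl fun χ hχ => by
      rw [h1 χ (mem_irrFinset.1 hχ), conj_classInner, conj_classInner, mul_comm]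
  have tJ := col _ IsDih.J_mem (inv_ne_one h.orderOf_J)
  have h1 := no_block h hm hinv hG (irrFinset B) (fun s t hs => ?_)
    (fun ρ s h1 h2 => S.hB.sum_mul_conj_eq_zero hM (not_isConj_pPart_of_regular_singular h1 h2))
    (fun χ hχ a b a2 b2 ho => ?_) fun χ hχ => tJ.2.2.1 rfl χ (mem_irrFinset.1 hχ)
  · obtain ⟨x, hx, hx'⟩ := hμ.ne
    exact hx' (by simpa using (tJ.1 _ (mem_irrFinset.1 h1) x ⟨hx, oc_le _ hx⟩).symm)
  · have hs' : (s : G) ≠ 1 := fun e => hs (Subtype.ext e)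
    have hpe : ∀ y : zpowers σ, ∃ k : ℕ, orderOf (y : G) = 2 ^ k := fun y =>
      exists_orderOf_eq_pow_of_mem P.isPGroup' (h.zpowers_le y.2)
    by_cases hc : IsConj (s : G) t
    · rw [Finset.sum_congr rfl fun χ _ => by rw [← χ.isClassFunction.eq_of_isConj hc],
        (col s s.2 hs').2.1, Nat.card_zpowers, h.ord]
      obtain ⟨g, hg⟩ := isConj_iff.1 hc
      have h1 : t = s ∨ t = s⁻¹ := (h.conj_eq_or_of_mem s.2 (hg ▸ t.2)).imp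
        (fun e => Subtype.ext (hg.symm.trans e)) fun e => Subtype.ext (hg.symm.trans e)
      by_cases h2 : s = s⁻¹
      · have h3 : (s : G) = σ ^ m := h.eq_J s.2 (orderOf_eq_prime (by
          rw [_root_.sq, mul_eq_one_iff_eq_inv]; exact congrArg Subtype.val h2) hs')
        rw [h3, inf_eq_left.2 h.le_centralizer_J, h.card, ← h2, if_pos (h1.elim id (h2 ▸ id))]
        push_cast; ring
      · rw [h.card_inf_centralizer s.2 fun e => h2 (Subtype.ext e)]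
        rcases h1 with rfl | rfl
        · simp [h2]
        · simp [Ne.symm h2]
    · rw [S.hB.sum_mul_conj_eq_zero hM (by
        rw [pPart_eq_self_iff.2 (hpe s), pPart_eq_self_iff.2 (hpe t)]
        exact fun h => hc h.symm), if_neg, if_neg, add_zero, mul_zero]
      · rintro rfl; exact hc (isConj_iff.2 ⟨τ, h.τ_conj s.2⟩)
      · rintro rfl; exact hc (IsConj.refl _)
  · obtain ⟨l, a1, a2', e1⟩ := exists_pow h hinv ho
    have hv : σ ^ l ∈ zpowers σ := pow_mem (mem_zpowers σ) l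
    have v1 : σ ^ l ≠ 1 := pow_ne_one_of_lt_orderOf a1.ne' (h.ord ▸ a2')
    obtain ⟨c1, -, -, hl⟩ := col _ hv v1
    obtain ⟨x, s, hs, e2, e3⟩ := inverted hl (H := 𝐂₁[σ ^ m]) (fun g hg u hu => hμ.inv g hg u hu.1)
      (exists_orderOf_eq_pow_of_mem P.isPGroup' (h.zpowers_le hv)) (fun y hy => by
        obtain ⟨k, hk⟩ := h.J_mem_zpowers P.isPGroup' hv v1
        rw [mem_cent1, ← mul_inv_eq_iff_eq_mul, ← hk]
        beta_reduce
        rw [← conj_zpow, hy, inv_zpow, show (σ ^ l) ^ k = σ ^ m from hk, inv_inv' h.orderOf_J])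
      a2 b2 e1
    rw [← χ.isClassFunction.eq_of_isConj e1, e3, χ.isClassFunction,
      c1 χ (mem_irrFinset.1 hχ) s hs, e2, mul_one]

end Phi

variable {G : Type u} [Group G] [Finite G] {P : Sylow 2 G} {σ τ s x : G} {m : ℕ}

theorem dih_mem_oc (h : IsDih (P : Subgroup G) σ τ m) :
    x ∈ oc (σ ^ m) ↔ x ∈ 𝐂₁[σ ^ m] ∧ ¬ 2 ∣ orderOf x :=
  ⟨fun e => ⟨oc_le _ e, fun e' => Fr.nd2 (oc_odd _) (e'.trans (orderOf_dvd_natCard _ e))⟩, fun e =>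
    (sub_Hall_pcore (pNil_iff.2 h.hasNormalPComplement_centralizer_J) (zpowers_le.2 e.1)).2
      (piSub_compl.2 (by rw [Nat.card_zpowers]; exact e.2)) (mem_zpowers x)⟩

/-- a four-group whose involutions are conjugate is fused in its normalizer -/
theorem dih_fus (h : IsDih (P : Subgroup G) σ τ m) (hm : 2 ≤ m) (hs : s ∈ (P : Subgroup G))
    (hs' : s ∉ zpowers σ) (hc : IsConj (σ ^ m) s) :
    ∃ y, y * σ ^ m * y⁻¹ = s ∧ y * s * y⁻¹ = σ ^ m * s := by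
  obtain ⟨k, rfl⟩ := dih_even h hm
  set t := σ ^ (2 * k) with ht
  have tt : t * t = 1 := inv_sq h.orderOf_J
  have hρ : ∀ r ∈ (P : Subgroup G), r ∉ zpowers σ → σ ^ k * r * (σ ^ k)⁻¹ = t * r := fun r hr hr' => by
    have := h.conj_of_notMem hr hr' (inv_mem (pow_mem (mem_zpowers σ) k))
    rw [inv_inv, mul_inv_eq_iff_eq_mul] at this
    rw [mul_assoc, this, ← mul_assoc, ← pow_add, ← two_mul]
  have ρt : σ ^ k * t * (σ ^ k)⁻¹ = t := by rw [ht, ← pow_add, add_comm, pow_add, mul_inv_cancel_right]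
  have st : s * t = t * s := mem_cent1.1 (h.le_centralizer_J hs)
  obtain ⟨g, hg⟩ := isConj_iff.1 hc
  have h1 : g⁻¹ * t * g ∈ 𝐂₁[t] := by
    rw [mem_cent1]
    rw [← hg] at st
    calc _ = g⁻¹ * (t * (g * t * g⁻¹)) * g := by group
      _ = _ := by rw [← st]; group
  have hS : Syl 2 (P : Subgroup G) 𝐂₁[t] :=
    ⟨h.le_centralizer_J, P.isPGroup', IsDih.not_dvd_relIndex P h.le_centralizer_J⟩
  have o2 : orderOf (g⁻¹ * t * g) = 2 := by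
    simpa using (orderOf_conj' g⁻¹ t).trans h.orderOf_J
  obtain ⟨c, hc, e⟩ := Sylow_Jsub hS (zpowers_le.2 h1) (isPGroup_zpowers_iff.2 ⟨1, o2⟩)
  have h2 : c * (g⁻¹ * t * g) * c⁻¹ ∈ (P : Subgroup G) := e (conj_mem_conj.2 (mem_zpowers _))
  have ct : c * t * c⁻¹ = t := mul_inv_eq_iff_eq_mul.2 (mem_cent1.1 hc)
  have h3 := hρ _ h2 fun e => hs' (by
    have := h.eq_J e ((orderOf_conj' c _).trans o2)
    have := mul_left_cancel (mul_right_cancel (this.trans ct.symm))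
    rw [mul_assoc, inv_mul_eq_iff_eq_mul] at this
    rw [← hg, ← this, mul_inv_cancel_right]
    exact IsDih.J_mem)
  have k1 : (g * c⁻¹ * σ ^ k * c * g⁻¹) * t * (g * c⁻¹ * σ ^ k * c * g⁻¹)⁻¹ = s * t := by
    calc _ = g * c⁻¹ * (σ ^ k * (c * (g⁻¹ * t * g) * c⁻¹) * (σ ^ k)⁻¹) * c * g⁻¹ := by group
      _ = g * c⁻¹ * (c * t * c⁻¹ * (c * (g⁻¹ * t * g) * c⁻¹)) * c * g⁻¹ := by rw [h3, ct]
      _ = _ := by rw [← hg]; group
  have k2 : (g * c⁻¹ * σ ^ k * c * g⁻¹) * s * (g * c⁻¹ * σ ^ k * c * g⁻¹)⁻¹ = s := by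
    calc _ = g * c⁻¹ * (σ ^ k * (c * t * c⁻¹) * (σ ^ k)⁻¹) * c * g⁻¹ := by rw [← hg]; group
      _ = g * c⁻¹ * (c * t * c⁻¹) * c * g⁻¹ := by rw [ct, ρt]
      _ = _ := by rw [← hg]; group
  have cc : ∀ a b x : G, a * b * x * (a * b)⁻¹ = a * (b * x * b⁻¹) * a⁻¹ := fun _ _ _ => by group
  refine ⟨σ ^ k * (g * c⁻¹ * σ ^ k * c * g⁻¹), ?_, ?_⟩
  · rw [cc, k1, ← conj_mul, hρ s hs hs', ρt, mul_assoc, st, ← mul_assoc, tt, one_mul]
  · rw [cc, k2, hρ s hs hs']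

theorem c1a_mu (hG : commutator G = ⊤) (h : IsDih (P : Subgroup G) σ τ m) (hm : 4 ≤ m)
    (hinv : ∀ s, orderOf s = 2 → IsConj (σ ^ m) s) {μ : G → ℂ} (hμ : Mu (σ ^ m) μ)
    (hW : ∀ s ∈ (P : Subgroup G), s ∉ zpowers σ → ∀ y ∈ 𝐍[⟪σ ^ m⟫ ⊔ ⟪s⟫],
      ∀ x ∈ oc (σ ^ m) ⊓ 𝐂₁[s], μ (y⁻¹ * x * y) = μ x) : False := by
  have := Fintype.ofFinite G
  refine Phi.core hG h hm hinv hμ fun s hs h2 => ?_
  by_cases e : s ∈ zpowers σ
  · exact ⟨1, by simpa using h.eq_J e h2, by simp⟩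
  obtain ⟨y, e1, e2⟩ := dih_fus h (by omega) hs e (hinv s h2)
  refine ⟨y, e1.symm, hW s hs e y (mem_normalizer_fintype fun a ha => ?_)⟩
  refine (show ⟪σ ^ m⟫ ⊔ ⟪s⟫ ≤ (⟪σ ^ m⟫ ⊔ ⟪s⟫).comap (MulAut.conj y).toMonoidHom from
    sup_le (zpowers_le.2 ?_) (zpowers_le.2 ?_)) ha
  · change y * σ ^ m * y⁻¹ ∈ ⟪σ ^ m⟫ ⊔ ⟪s⟫
    rw [e1]; exact mem_sup_right (mem_zpowers _)
  · change y * s * y⁻¹ ∈ ⟪σ ^ m⟫ ⊔ ⟪s⟫
    rw [e2]; exact mul_mem_sup (mem_zpowers _) (mem_zpowers _)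

theorem c1a' (hG : commutator G = ⊤) (h : IsDih (P : Subgroup G) σ τ m) (hm : 4 ≤ m)
    (hinv : ∀ s, orderOf s = 2 → IsConj (σ ^ m) s) {N : Subgroup G}
    (h1 : ⁅oc (σ ^ m), 𝐂₁[σ ^ m]⁆ ≤ N) (h2 : ∀ s ∈ (P : Subgroup G), s ∉ zpowers σ →
      ⁅oc (σ ^ m) ⊓ 𝐂₁[s], 𝐍[⟪σ ^ m⟫ ⊔ ⟪s⟫]⁆ ≤ N) : oc (σ ^ m) ≤ N := by
  classical
  by_contra hn
  set t := σ ^ m
  obtain ⟨x, hx, hx'⟩ := SetLike.not_le_iff_exists.1 hn
  obtain ⟨φ, h3, h4⟩ := exists_unitsHom_le_ker_ne_one (N := N.subgroupOf (oc t))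
    (commutator_le.2 fun a _ b _ => h1 (mem_commg a.2 (oc_le _ b.2))) (g := ⟨x, hx⟩) hx'
  have hl : Lin t (oc t) (extendByZero (oc t) fun u => φ u) := ⟨fun _ => dih_mem_oc h,
    by rw [extendByZero_of_mem _ _ (one_mem _)]; exact congrArg _ (map_one φ), fun a ha b hb => by
      rw [extendByZero_of_mem _ _ ha, extendByZero_of_mem _ _ hb,
        extendByZero_of_mem _ _ (mul_mem ha hb), ← Units.val_mul, ← map_mul]; rfl⟩
  have key : ∀ g, ∀ u ∈ oc t, g * u * g⁻¹ ∈ oc t → ⁅u⁻¹, g⁆ ∈ N →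
      extendByZero (oc t) (fun u => (φ u : ℂ)) (g * u * g⁻¹) =
        extendByZero (oc t) (fun u => (φ u : ℂ)) u := fun g u hu h5 h6 => by
    have e : g * u * g⁻¹ = u * ⁅u⁻¹, g⁆ := by rw [commutatorElement_def]; group
    have h7 : ⁅u⁻¹, g⁆ ∈ oc t := (mul_mem_cancel_left hu).1 (e ▸ h5)
    rw [e, hl.mul _ hu _ h7, extendByZero_of_mem _ _ h7, h3 (show (⟨_, h7⟩ : oc t) ∈ _ from h6),
      Units.val_one, mul_one]
  refine c1a_mu hG h hm hinv ⟨hl, fun g hg u hu => key g u hu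
    ((mem_normalizer_iff.1 (oc_norm t hg) u).1 hu) (h1 (mem_commg (inv_mem hu) hg)), x, hx, by
      rw [extendByZero_of_mem _ _ hx]; exact fun e => h4 (Units.ext e)⟩ fun s hs hs' y hy u hu => ?_
  have h5 : u ∈ 𝐂[⟪t⟫ ⊔ ⟪s⟫] := centsC.1 (sup_le (zpowers_le.2 (le_cent1.1 (zpowers_le.2
    (oc_le _ hu.1)))) (zpowers_le.2 (le_cent1.1 (zpowers_le.2 hu.2)))) (mem_zpowers u)
  simpa using key y⁻¹ u hu.1 ((dih_mem_oc h).2 ⟨cent_le_cent1 (mem_sup_left (mem_zpowers _))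
    ((mem_normalizer_iff.1 (norms_cent le_rfl (inv_mem hy)) u).1 h5), by
      rw [orderOf_conj']; exact ((dih_mem_oc h).1 hu.1).2⟩)
    (h2 s hs hs' (mem_commg (inv_mem hu) (inv_mem hy)))

theorem dih_klein {P : Subgroup G} (h : IsDih P σ τ m) (hs : s ∈ P) (hs' : s ∉ zpowers σ) :
    Klein (⟪σ ^ m⟫ ⊔ ⟪s⟫) :=
  klein_pair h.orderOf_J (h.orderOf_of_notMem hs hs') (h.le_centralizer_J hs)
    fun e => hs' (e ▸ IsDih.J_mem)

theorem c1a (hG : commutator G = ⊤) (h : IsDih (P : Subgroup G) σ τ m) (hm : 4 ≤ m)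
    (hinv : ∀ s, orderOf s = 2 → IsConj (σ ^ m) s) {N : Subgroup G}
    (h1 : ⁅oc (σ ^ m), 𝐂₁[σ ^ m]⁆ ≤ N) (h2 : ∀ V : Subgroup G, Klein V → σ ^ m ∈ V → V ≤ P →
      ⁅oc (σ ^ m) ⊓ 𝐂[V], 𝐍[V]⁆ ≤ N) : oc (σ ^ m) ≤ N :=
  c1a' hG h hm hinv h1 fun s hs hs' => by
    have := h2 _ (dih_klein h hs hs') (mem_sup_left (mem_zpowers _))
      (sup_le (zpowers_le.2 (pow_mem h.mem_σ m)) (zpowers_le.2 hs))
    rwa [centY, cent_cycle, cent_cycle, ← inf_assoc, inf_eq_left.2 (oc_le _)] at this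

theorem c1a_hom (hG : commutator G = ⊤) (h : IsDih (P : Subgroup G) σ τ m) (hm : 4 ≤ m)
    (hinv : ∀ s, orderOf s = 2 → IsConj (σ ^ m) s) (φ : 𝐂₁[σ ^ m] →* ℂˣ)
    (h2 : ∀ s ∈ (P : Subgroup G), s ∉ zpowers σ → ∀ y ∈ 𝐍[⟪σ ^ m⟫ ⊔ ⟪s⟫], ∀ x x' : 𝐂₁[σ ^ m],
      x.1 ∈ oc (σ ^ m) ⊓ 𝐂₁[s] → x'.1 = y * x * y⁻¹ → φ x' = φ x) (x : 𝐂₁[σ ^ m])
    (hx : x.1 ∈ oc (σ ^ m)) : φ x = 1 := by
  have hk : ∀ {x : G}, x ∈ φ.ker.map 𝐂₁[σ ^ m].subtype ↔ ∃ hx, φ ⟨x, hx⟩ = 1 := by simp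
  refine (hk.1 (c1a' hG h hm hinv (N := φ.ker.map 𝐂₁[σ ^ m].subtype)
    (commg_le_iff.2 fun a ha b hb => hk.2 ⟨_, (map_commutatorElement φ ⟨a, oc_le _ ha⟩ ⟨b, hb⟩).trans
      (commutatorElement_eq_one_iff_mul_comm.2 (mul_comm _ _))⟩)
    (fun s hs hs' => commg_le_iff.2 fun a ha y hy => ?_) hx)).2
  have h5 : a⁻¹ ∈ 𝐂[⟪σ ^ m⟫ ⊔ ⟪s⟫] := by
    rw [centY, cent_cycle, cent_cycle]; exact inv_mem ⟨oc_le _ ha.1, ha.2⟩
  have h6 := cent_le_cent1 (mem_sup_left (mem_zpowers _))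
    ((mem_normalizer_iff.1 (norms_cent le_rfl hy) _).1 h5)
  have h7 := h2 s hs hs' y hy ⟨a, oc_le _ ha.1⟩⁻¹ ⟨_, h6⟩ (inv_mem ha) rfl
  refine hk.2 ⟨by simpa [mul_assoc] using mul_mem (oc_le _ ha.1) h6, ?_⟩
  rw [← map_one φ, ← mul_inv_cancel (⟨a, oc_le _ ha.1⟩ : 𝐂₁[σ ^ m]), map_mul, ← h7, ← map_mul]
  exact congrArg φ (Subtype.ext (by simp [mul_assoc]))

end Cfsg.G41
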