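import Cfsg.Agent.G41.Ord
import Cfsg.Agent.GW.An
import Cfsg.Agent.GW.Frob
import Cfsg.Agent.Gag.TwoT

/-! Fusion in a group with a dihedral Sylow 2-subgroup of order at least 16. -/

set_option autoImplicit false
set_option linter.unusedSectionVars false

namespace Cfsg.G41

open Subgroup Cfsg.FT Cfsg.Gag Cfsg.GW
open scoped Pointwise

universe u

variable {G : Type u} [Group G] [Finite G] {S M V Q Y : Subgroup G} {σ τ s v g x z : G} {m : ℕ}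

theorem dswap (h : IsDih S σ τ m) (hs : s ∈ S) (hn : s ∉ ⟪σ⟫) : IsDih S σ s m :=
  IsDih.of_card h.pos h.ord h.mem_σ hs (h.mul_self_of_notMem hs hn)
    (h.conj_of_notMem hs hn (mem_zpowers σ)) hn h.card

/-- dihedral Sylow 2-subgroup of order `4 m ≥ 16`, one class of involutions -/
structure DC (S : Subgroup G) (σ τ : G) (m : ℕ) : Prop where
  syl : Syl 2 S ⊤
  dih : IsDih S σ τ m
  hm : 4 ≤ m
  conj : ∀ s, orderOf s = 2 → IsConj (σ ^ m) s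

theorem dc_of_perfect (hG : _root_.commutator G = ⊤) (hS : Syl 2 S ⊤) (h : IsDih S σ τ m)
    (hm : 4 ≤ m) : DC S σ τ m := by
  have k : ∀ s ∈ S, s ∉ ⟪σ⟫ → IsConj (σ ^ m) s := fun s hs hn => by
    obtain ⟨g, hg⟩ := Two.thompson hS h.relIndex hs hn (h.mul_self_of_notMem hs hn) (hG ▸ mem_top s)
    have e : IsConj s (g⁻¹ * s * g) := isConj_iff.2 ⟨g⁻¹, by simp⟩
    rw [← h.eq_J hg (by
      rw [← h.orderOf_of_notMem hs hn]; simpa using (MulAut.conj g⁻¹).orderOf_eq s)]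
    exact e.symm
  refine ⟨hS, h, hm, ?_⟩
  have k1 := k τ h.mem_τ h.notMem
  have k2 := k (σ * τ) (mul_mem h.mem_σ h.mem_τ) (h.mul_τ_notMem (mem_zpowers σ))
  obtain ⟨P, rfl⟩ := syl_top_iff.1 hS
  exact h.isConj_J k1 k2

namespace DC

variable (c : DC S σ τ m)
include c

theorem swap (hs : s ∈ S) (hn : s ∉ ⟪σ⟫) : DC S σ s m :=
  ⟨c.syl, dswap c.dih hs hn, c.hm, c.conj⟩

theorem S2 : IsPGroup 2 S := c.syl.pgroup

theorem ot : orderOf (σ ^ m) = 2 := c.dih.orderOf_J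

theorem t1 : σ ^ m ≠ 1 := inv_ne_one c.ot

theorem tt : σ ^ m * σ ^ m = 1 := inv_sq c.ot

theorem St : S ≤ 𝐂₁[σ ^ m] := c.dih.le_centralizer_J

theorem tS : σ ^ m ∈ S := pow_mem c.dih.mem_σ m

theorem os (hs : s ∈ S) (hn : s ∉ ⟪σ⟫) : orderOf s = 2 := c.dih.orderOf_of_notMem hs hn

theorem mul_out (hs : s ∈ S) (hn : s ∉ ⟪σ⟫) (hx : x ∈ ⟪σ⟫) : x * s ∈ S ∧ x * s ∉ ⟪σ⟫ :=
  ⟨mul_mem (c.dih.zpowers_le hx) hs, fun e => hn ((mul_mem_cancel_left hx).1 e)⟩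

theorem ne_t (hn : s ∉ ⟪σ⟫) : s ≠ σ ^ m := fun e => hn (e ▸ IsDih.J_mem)

theorem out (os : orderOf s = 2) (st : s ≠ σ ^ m) : s ∉ ⟪σ⟫ := fun e => st (c.dih.eq_J e os)

theorem exists_conj (hv : orderOf v = 2) : ∃ g : G, g * σ ^ m * g⁻¹ = v := isConj_iff.1 (c.conj v hv)

theorem pnil (hv : orderOf v = 2) : PNil 2 𝐂₁[v] := by
  obtain ⟨P, rfl⟩ := syl_top_iff.1 c.syl
  exact pNil_iff.2 (c.dih.hasNormalPComplement_centralizer ⟨1, hv⟩ (inv_ne_one hv))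

theorem le_oc (hv : orderOf v = 2) (hY : Y ≤ 𝐂₁[v]) (ho : Odd (Nat.card Y)) : Y ≤ oc v :=
  (sub_Hall_pcore (c.pnil hv) hY).2 (piSub_compl.2 (Fr.nd2 ho))

theorem mem_oc (hv : orderOf v = 2) (hx : x ∈ 𝐂₁[v]) (ho : Odd (orderOf x)) : x ∈ oc v :=
  zpowers_le.1 (c.le_oc hv (zpowers_le.2 hx) (by rwa [Nat.card_zpowers]))

theorem sylM (hM : S ≤ M) : Syl 2 S M := c.syl.subl hM le_top

theorem sup : oc (σ ^ m) ⊔ S = 𝐂₁[σ ^ m] := ((c.pnil c.ot).sdprod (c.sylM c.St)).sup_eq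

/-- an involution of `M` is conjugate into `S` -/
theorem into (hM : S ≤ M) (hQ : Q ≤ M) (h2 : IsPGroup 2 Q) :
    ∃ g ∈ M, ∀ x ∈ Q, g * x * g⁻¹ ∈ S :=
  let ⟨g, hg, e⟩ := Sylow_Jsub (c.sylM hM) hQ h2
  ⟨g, hg, conj_le_iff_forall.1 e⟩

theorem rho : ∃ ρ ∈ ⟪σ⟫, ρ * ρ = σ ^ m ∧ ∀ s ∈ S, s ∉ ⟪σ⟫ → ρ * s * ρ⁻¹ = σ ^ m * s := by
  obtain ⟨P, rfl⟩ := syl_top_iff.1 c.syl
  obtain ⟨k, hk⟩ := dih_even c.dih (by have := c.hm; omega)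
  have e : σ ^ k * σ ^ k = σ ^ m := by rw [← pow_add, hk, two_mul]
  refine ⟨σ ^ k, pow_mem (mem_zpowers σ) k, e, fun s hs hn => ?_⟩
  have h1 := c.dih.conj_of_notMem hs hn (inv_mem (pow_mem (mem_zpowers σ) k))
  rw [inv_inv, mul_inv_eq_iff_eq_mul] at h1
  rw [← e, mul_assoc, h1, mul_assoc]

theorem three_S (hs : s ∈ S) (hn : s ∉ ⟪σ⟫) (hz : z ∈ S) (oz : orderOf z = 2) (h : z ∈ 𝐂₁[s]) :
    z = σ ^ m ∨ z = s ∨ z = σ ^ m * s := by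
  by_cases e : z ∈ ⟪σ⟫
  · exact .inl (c.dih.eq_J e oz)
  have h1 : z * s ∈ ⟪σ⟫ := mul_mem_of_relIndex_le_two c.dih.relIndex.le hz hs e hn
  have ss := inv_sq (c.os hs hn)
  have h2 : z * s * (z * s) = 1 := by
    rw [mul_assoc, ← mul_assoc s, ← mem_cent1.1 h, mul_assoc, ss, mul_one, inv_sq oz]
  by_cases e1 : z * s = 1
  · exact .inr (.inl (mul_right_cancel (e1.trans ss.symm)))
  · have := c.dih.eq_J h1 (orderOf_eq_prime (by rwa [pow_two]) e1)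
    exact .inr (.inr (by rw [← this, mul_assoc, ss, mul_one]))

/-- a four-group contains every involution that centralises it -/
theorem three (hs : s ∈ 𝐂₁[σ ^ m]) (os : orderOf s = 2) (st : s ≠ σ ^ m) (hz : z ∈ 𝐂₁[σ ^ m])
    (oz : orderOf z = 2) (h : z ∈ 𝐂₁[s]) : z = σ ^ m ∨ z = s ∨ z = σ ^ m * s := by
  by_cases e : z = s
  · exact .inr (.inl e)
  obtain ⟨g, hg, k⟩ := c.into c.St (sup_le (zpowers_le.2 hs) (zpowers_le.2 hz))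
    (klein_pair os oz h e).pgroup
  have e1 : g * σ ^ m * g⁻¹ = σ ^ m := by rw [mem_cent1.1 hg, mul_inv_cancel_right]
  have h1 := c.three_S (k s (mem_sup_left (mem_zpowers s)))
    (c.out ((orderOf_conj' g s).trans os) fun e2 => st (by simpa using e2.trans e1.symm))
    (k z (mem_sup_right (mem_zpowers z))) ((orderOf_conj' g z).trans oz)
    (mem_cent1.2 (by rw [conj_mul, conj_mul, mem_cent1.1 h]))
  rw [← e1, conj_mul] at h1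
  simpa using h1

/-- the two classes of non-central involutions of `S` -/
theorem cls (hs : s ∈ S) (hn : s ∉ ⟪σ⟫) :
    ∃ u ∈ ⟪σ⟫, u * τ * u⁻¹ = s ∨ u * (σ * τ) * u⁻¹ = s := by
  obtain ⟨_, ⟨k, rfl⟩, rfl⟩ := c.dih.exists_eq_mul hs hn
  refine ⟨σ ^ (k / 2), zpow_mem (mem_zpowers σ) _, ?_⟩
  rcases Int.emod_two_eq_zero_or_one k with e | e
  · have := c.dih.σ_conj (one_mem _) (k / 2)
    rw [one_mul, mul_one, show 2 * (k / 2) = k by omega] at this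
    exact .inl this
  · have := c.dih.σ_conj (mem_zpowers σ) (k / 2)
    rw [← zpow_add_one, show 2 * (k / 2) + 1 = k by omega] at this
    exact .inr this

/-- no fusion: normal 2-complement -/
theorem nofus (hM : S ≤ M) (h : ∀ s ∈ S, s ∉ ⟪σ⟫ → ∀ g ∈ M, g * σ ^ m * g⁻¹ ≠ s) : PNil 2 M := by
  have key : ∀ Q ≤ S, ∀ x ∈ M ⊓ 𝐍[Q], ¬ 2 ∣ orderOf x → x ∈ 𝐂[Q] := fun Q hQ x hx ho => by
    by_cases ht : σ ^ m ∈ Q
    · refine c.dih.mem_centralizer_of_odd c.S2 hQ hx.2 ho ht c.t1 (mem_cent1.2 ?_)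
      have h1 := hQ ((mem_normalizer_iff.1 hx.2 _).1 ht)
      exact mul_inv_eq_iff_eq_mul.1 (by_contra fun e =>
        h _ h1 (c.out ((orderOf_conj' _ _).trans c.ot) e) x hx.1 rfl)
    have k : ∀ z ∈ Q, z ∈ ⟪σ⟫ → z = 1 := fun z hz e => by_contra fun z1 =>
      ht (zpowers_le.2 hz (c.dih.J_mem_zpowers c.S2 e z1))
    intro z hz
    by_cases z1 : z = 1
    · simp [z1]
    have h1 := (mem_normalizer_iff.1 hx.2 _).1 hz
    have h2 : z ∉ ⟪σ⟫ := fun e => z1 (k z hz e)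
    have h3 := k _ (mul_mem h1 hz) (mul_mem_of_relIndex_le_two c.dih.relIndex.le (hQ h1) (hQ hz)
      (fun e => z1 (by simpa using k _ h1 e)) h2)
    rw [← c.dih.mul_self_of_notMem (hQ hz) h2, mul_left_inj, mul_inv_eq_iff_eq_mul] at h3
    exact h3.symm
  refine Frobenius_normal_complement fun Q hQ h2 _ x hx e => ?_
  obtain ⟨g, hg, k⟩ := Sylow_Jsub (c.sylM hM) hQ h2
  have := key _ k (g * x * g⁻¹) (mem_inf.2 ⟨mul_mem (mul_mem hg hx.1) (inv_mem hg), by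
    rw [norm_conj]; exact conj_mem_conj.2 hx.2⟩) (by rw [orderOf_conj']; exact piElt_compl.1 e)
  rwa [cent_conj, conj_mem_conj] at this

theorem nofus_sup (hM : S ≤ M) (h : ∀ s ∈ S, s ∉ ⟪σ⟫ → ∀ g ∈ M, g * σ ^ m * g⁻¹ ≠ s) :
    od M ⊔ S = M := ((c.nofus hM h).sdprod (c.sylM hM)).sup_eq

/-- fusion in the normaliser of a four-group -/
theorem fus (hs : s ∈ S) (hn : s ∉ ⟪σ⟫) :
    ∃ y : G, y * σ ^ m * y⁻¹ = s ∧ y * s * y⁻¹ = σ ^ m * s := by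
  obtain ⟨g, hg⟩ := c.exists_conj (c.os hs hn)
  obtain ⟨ρ, hρ, -, e⟩ := c.rho
  have o1 : orderOf (g⁻¹ * σ ^ m * g⁻¹⁻¹) = 2 := (orderOf_conj' _ _).trans c.ot
  have h1 : g⁻¹ * σ ^ m * g⁻¹⁻¹ ∈ 𝐂₁[σ ^ m] := by
    have := conj_mem_conj (g := g⁻¹) |>.2 (cent1C.1 (c.St hs))
    rwa [← cent1_conj, ← hg, show g⁻¹ * (g * σ ^ m * g⁻¹) * g⁻¹⁻¹ = σ ^ m by group] at this
  obtain ⟨h, hh, k⟩ := c.into c.St (zpowers_le.2 h1) (inv_pgroup o1)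
  have e1 : h * σ ^ m * h⁻¹ = σ ^ m := by rw [mem_cent1.1 hh, mul_inv_cancel_right]
  have e2 := e _ (k _ (mem_zpowers _)) (c.out ((orderOf_conj' _ _).trans o1) fun e2 =>
    c.ne_t hn (by
      have e3 : g⁻¹ * σ ^ m * g⁻¹⁻¹ = σ ^ m := by simpa using e2.trans e1.symm
      rw [← hg]; nth_rw 1 [← e3]; group))
  have e3 := e s hs hn
  have e4 : ρ * σ ^ m * ρ⁻¹ = σ ^ m := by
    rw [mem_cent1.1 (c.St (c.dih.zpowers_le hρ)), mul_inv_cancel_right]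
  have ts := mem_cent1.1 (c.St hs)
  have tt := c.tt
  generalize σ ^ m = t at *
  have e5 : ρ⁻¹ * (t * s) * ρ = s := by rw [← e3]; group
  have e6 : h⁻¹ * t * h = t := by nth_rw 1 [← e1]; group
  refine ⟨ρ⁻¹ * (g * h⁻¹ * ρ * h * g⁻¹), ?_, ?_⟩
  · calc _ = ρ⁻¹ * (g * h⁻¹ * (ρ * (h * (g⁻¹ * t * g⁻¹⁻¹) * h⁻¹) * ρ⁻¹) * h * g⁻¹) * ρ := by group
      _ = ρ⁻¹ * (g * (h⁻¹ * t * h) * g⁻¹ * t) * ρ := by rw [e2]; group
      _ = s := by rw [e6, hg, ts, e5]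
  · calc _ = ρ⁻¹ * (g * h⁻¹ * (ρ * (h * (g⁻¹ * s * g) * h⁻¹) * ρ⁻¹) * h * g⁻¹) * ρ := by group
      _ = ρ⁻¹ * s * ρ := by
        rw [show g⁻¹ * s * g = t by rw [← hg]; group, e1, e4, mul_assoc g, mul_assoc g, e6, hg]
      _ = t * (ρ⁻¹ * (t * s) * ρ) := by
        rw [show t * (ρ⁻¹ * (t * s) * ρ) = ρ⁻¹ * ((ρ * t * ρ⁻¹) * t * s) * ρ by group, e4, tt,
          one_mul]
      _ = t * s := by rw [e5]

end DC

end Cfsg.G41
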