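import Cfsg.Agent.G41.XB
import Cfsg.Agent.G41.DihG

/-!
# S4841, `p = 3`: the piece `StX1`
-/

set_option autoImplicit false

namespace Cfsg.G41

open Subgroup Cfsg.FT Cfsg.Gag Cfsg.GW
open scoped Pointwise

universe u

/-- the Sylow 3-subgroup over a 3-subgroup -/
abbrev lift3 {K G : Type u} [Group K] [Group G] (π : K →* G) (Q : Subgroup G) : Subgroup K :=
  core {3} (Q.comap π)

namespace Set3

variable {V : Type} [AddCommGroup V] [Module (ZMod 3) V] [Finite V] {H : Type u} [Group H]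
  [Finite H] {ρ : H →* Module.End (ZMod 3) V} {K : Subgroup H} {G : Type u} [Group G] [Finite G]
  {π : K →* G} {S : Subgroup G} {σ τ : G} {m : ℕ} (c : Set3 ρ K π S σ τ m)
include c

omit [Finite V] [Finite H] [Finite G] in
theorem ker_sq {z : K} (hz : π z = 1) : (z : H) * z = 1 := congrArg Subtype.val ((c.ker z).1 hz)

omit [Finite V] [Finite H] [Finite G] in
theorem ker_pm {z : K} (hz : π z = 1) : ρ z = 1 ∨ ρ z = -1 := by
  by_cases h : (z : H) = 1
  · exact Or.inl (by rw [h, map_one])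
  · exact Or.inr (c.tr.free.invol (by decide) (c.ker_sq hz) h)

omit [Finite V] [Finite H] [Finite G] in
theorem ker_comm {z : K} (hz : π z = 1) (g : H) : g * z = z * g :=
  c.tr.free.invol_comm c.tr.inj (by decide) (c.ker_sq hz) g

omit [Finite V] [Finite H] [Finite G] in
theorem ker_comm' {z : K} (hz : π z = 1) (g : K) : g * z = z * g := Subtype.ext (c.ker_comm hz g)

omit [Finite G] in
theorem cyc (r : ℕ) (hr : r.Prime) (h2 : r ≠ 2) (h3 : r ≠ 3) (R : Subgroup G)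
    (hR : IsPGroup r R) : IsCyclic R := by
  haveI : Fact r.Prime := ⟨hr⟩
  haveI := c.tr.nt
  obtain ⟨P, hP⟩ := hR.exists_le_sylow
  obtain ⟨P', rfl⟩ := Sylow.mapSurjective_surjective c.surj r P
  haveI := (c.tr.free.sub K).cyclic_of_pgroup h2 h3 P'.isPGroup'
  haveI : IsCyclic ((P' : Subgroup K).map π) :=
    isCyclic_of_surjective _ (π.subgroupMap_surjective (P' : Subgroup K))
  exact Subgroup.isCyclic_of_le (H' := (P' : Subgroup K).map π) hP

omit [Finite V] [Finite H] [Finite G] in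
theorem perfect : _root_.commutator G = ⊤ := by
  haveI := c.simple
  refine (IsSimpleGroup.eq_bot_or_eq_top_of_normal _ inferInstance).resolve_left fun h => c.ns ?_
  exact ⟨⟨1, by rw [derivedSeries_one, h]⟩⟩

omit [Finite V] [Finite H] in
theorem dc (hm : 4 ≤ m) : DC S σ τ m := dc_of_perfect c.perfect c.syl c.dih hm

omit [Finite V] [Finite H] [Finite G] in
theorem four_dvd (hm : 4 ≤ m) : 4 ∣ m := by
  obtain ⟨k, hk⟩ := IsPGroup.iff_orderOf.1 c.syl.pgroup ⟨σ, c.dih.mem_σ⟩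
  rw [Subgroup.orderOf_mk, c.dih.ord] at hk
  obtain _ | _ | _ | k := k
  · omega
  · omega
  · omega
  · exact ⟨2 ^ k, by rw [pow_succ, pow_succ, pow_succ] at hk; omega⟩

omit [Finite V] [Finite H] in
theorem exists_r (hm : 4 ≤ m) : ∃ (x : G) (w r j : K), x ∈ ⁅S, S⁆ ∧ x ∈ ⟪σ⟫ ∧ x * x = σ ^ m ∧
    π w = σ ∧ π r = x ∧ π j = τ ∧ w * r = r * w ∧ ρ r ^ 4 = -1 ∧ j * r * j⁻¹ = r⁻¹ := by
  obtain ⟨a, rfl⟩ := c.four_dvd hm
  obtain ⟨w, hw⟩ := c.surj σ
  obtain ⟨j, hj⟩ := c.surj τ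
  refine ⟨σ ^ (2 * a), w, w ^ (2 * a), j, ?_, pow_mem (mem_zpowers σ) _, ?_, hw, ?_, hj, ?_, ?_, ?_⟩
  · rw [pow_mul]
    refine pow_mem ?_ _
    have := commutator_mem_commutator c.dih.mem_σ c.dih.mem_τ
    rwa [commutatorElement_def, mul_assoc, mul_assoc, ← mul_assoc τ,
      c.dih.τ_conj (inv_mem (mem_zpowers σ)), inv_inv, ← sq] at this
  · rw [← pow_add]; congr 1; omega
  · rw [map_pow, hw]
  · exact (Commute.self_pow w _)
  · rw [← map_pow, ← Subgroup.coe_pow, ← pow_mul]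
    have h1 : π (w ^ (2 * a * 4)) = 1 := by
      rw [map_pow, hw, show 2 * a * 4 = 2 * (4 * a) by omega, ← c.dih.ord, pow_orderOf_eq_one]
    refine (c.ker_pm h1).resolve_left fun h => (c.dc hm).t1 ?_
    have h2 : w ^ (2 * a * 4) = 1 := Subtype.ext (c.tr.inj (by rw [h, OneMemClass.coe_one, map_one]))
    rw [← hw, ← map_pow, c.ker, ← pow_add, ← h2]
    congr 1; omega
  · have h1 : π (j * w * j⁻¹ * w) = 1 := by
      rw [map_mul, map_mul, map_mul, map_inv, hw, hj, c.dih.rel, inv_mul_cancel]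
    have h2 := (c.ker _).1 h1
    have h3 := c.ker_comm' h1 w⁻¹
    set z := j * w * j⁻¹ * w with hz
    have h4 : j * w * j⁻¹ = z * w⁻¹ := by rw [hz, mul_inv_cancel_right]
    have h5 : (z * w⁻¹) ^ 2 = w⁻¹ ^ 2 := by
      rw [sq, sq, mul_assoc, ← mul_assoc w⁻¹, h3, ← mul_assoc, ← mul_assoc, h2, one_mul]
    rw [← conj_pow, h4, pow_mul, h5, ← pow_mul, inv_pow]

omit [Finite V] [Finite H] in
theorem nil_comap {Q : Subgroup G} (hQ : IsPGroup 3 Q) : Group.IsNilpotent (Q.comap π) := by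
  haveI := hQ.isNilpotent
  refine Subgroup.isNilpotent_of_ker_le_center (π.subgroupComap Q) fun z hz => ?_
  exact mem_center_iff.2 fun g => Subtype.ext (c.ker_comm' (congrArg Subtype.val hz) g)

omit [Finite V] in
theorem mem_lift3 {Q : Subgroup G} (hQ : IsPGroup 3 Q) {k : K} (hk : π k ∈ Q)
    (h3 : ∃ a, orderOf k = 3 ^ a) : k ∈ lift3 π Q :=
  (mem_Hall_pcore (nilpotent_pcore_Hall _ (c.nil_comap hQ)) hk).2 (piElt_singleton.2 h3)

omit [Finite V] in
theorem lift3_map {Q : Subgroup G} (hQ : IsPGroup 3 Q) : (lift3 π Q).map π = Q := by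
  have h := (Hall_pcore_map (nilpotent_pcore_Hall {3} (c.nil_comap hQ)) π).2
  rw [map_comap_eq_self_of_surjective c.surj, pcore_pgroup_id (piSub_singleton.2 hQ)] at h
  exact h.symm

omit [Finite V] [Finite H] [Finite G] c in
theorem norm_lift3 {Q : Subgroup G} {k : K} (hk : π k ∈ 𝐍[Q]) : k ∈ 𝐍[lift3 π Q] :=
  norms_pcore {3} (comap_norms π (le_refl 𝐍[Q])) hk

omit [Finite V] in
/-- an element over `Q` acts as `±1` on the fixed points of the lift -/
theorem pm_of_mem {Q : Subgroup G} (hQ : IsPGroup 3 Q) {k : K} (hk : π k ∈ Q) :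
    ∃ δ : Module.End (ZMod 3) V, (δ = 1 ∨ δ = -1) ∧
      ∀ u ∈ fixS (ρ.comp K.subtype) (lift3 π Q), ρ k u = δ u := by
  rw [← c.lift3_map hQ] at hk
  obtain ⟨e, he, hek⟩ := hk
  have h1 : π (k * e⁻¹) = 1 := by rw [map_mul, map_inv, hek, mul_inv_cancel]
  refine ⟨ρ (k * e⁻¹ : K), c.ker_pm h1, fun u hu => ?_⟩
  rw [Subgroup.coe_mul, rho_mul]
  exact congrArg _ (hu _ (inv_mem he)).symm

end Set3

theorem three_end {V : Type} [AddCommGroup V] [Module (ZMod 3) V] :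
    (3 : Module.End (ZMod 3) V) = 0 := by
  rw [← map_ofNat (algebraMap (ZMod 3) (Module.End (ZMod 3) V)) 3]
  exact (congrArg _ (show (3 : ZMod 3) = 0 from rfl)).trans (map_zero _)

theorem two_inj {V : Type} [AddCommGroup V] [Module (ZMod 3) V] {v : V} (h : v + v = 0) :
    v = 0 := by
  have h3 : (3 : Module.End (ZMod 3) V) v = 0 := by rw [three_end]; rfl
  rw [show (3 : Module.End (ZMod 3) V) = 1 + 1 + 1 by norm_num] at h3
  simpa [h] using h3

theorem sf_agree {V : Type} [AddCommGroup V] [Module (ZMod 3) V] {a b : Module.End (ZMod 3) V}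
    {W : Submodule (ZMod 3) V} (hb : ∀ u ∈ W, b u ∈ W) (h : ∀ u ∈ W, a u = b u) {u : V}
    (hu : u ∈ W) : sf a u = sf b u := by
  simp only [sf, pow_three, LinearMap.add_apply, Module.End.mul_apply]
  rw [h u hu, h _ (hb u hu), h _ (hb _ (hb u hu))]

/-- an invariant non-zero subspace contains an eigenvector -/
theorem exists_plus {V : Type} [AddCommGroup V] [Module (ZMod 3) V] {s J : Module.End (ZMod 3) V}
    {W : Submodule (ZMod 3) V} (hs : s * s = 1) (hJ : J * s = -s * J) (hJ0 : ∀ v, J v = 0 → v = 0)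
    (h1 : ∀ u ∈ W, s u ∈ W) (h2 : ∀ u ∈ W, J u ∈ W) {w : V} (hw : w ∈ W) (h0 : w ≠ 0) :
    ∃ v ∈ W, v ≠ 0 ∧ s v = v := by
  by_cases h : w + s w = 0
  · refine ⟨J w, h2 w hw, fun e => h0 (hJ0 w e), ?_⟩
    have h3 := congrArg (fun f : Module.End (ZMod 3) V => f w) hJ
    simp only [Module.End.mul_apply, LinearMap.neg_apply] at h3
    rw [eq_neg_of_add_eq_zero_right h, map_neg] at h3
    exact (neg_inj.1 h3).symm
  · refine ⟨w + s w, add_mem hw (h1 w hw), h, ?_⟩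
    rw [map_add, ← Module.End.mul_apply, hs, add_comm]; rfl

theorem rho_inv_eq {V : Type} [AddCommGroup V] [Module (ZMod 3) V] {H : Type u} [Group H]
    {ρ : H →* Module.End (ZMod 3) V} {r : H} (h : ρ r ^ 4 = -1) : ρ r⁻¹ = -ρ r ^ 3 := by
  have : ρ r⁻¹ * ρ r ^ 4 = ρ r ^ 3 := by
    rw [pow_succ', ← mul_assoc, ← map_mul, inv_mul_cancel, map_one, one_mul]
  rw [← this, h]; simp

theorem sf_inv {V : Type} [AddCommGroup V] [Module (ZMod 3) V] {H : Type u} [Group H]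
    {ρ : H →* Module.End (ZMod 3) V} {r : H} (h : ρ r ^ 4 = -1) : sf (ρ r⁻¹) = -sf (ρ r) := by
  rw [rho_inv_eq h, sf_neg, sf_cube h]

theorem stX1 : StX1.{u} := by
  intro V _ _ _ H _ _ ρ K G _ _ π S σ τ m c hm P hP hSP hod
  haveI := c.tr.nt
  haveI := c.cmp.normal
  obtain ⟨x, w, r, j, hxS, hxσ, hxx, -, hr, hj, -, hr4, hjr⟩ := c.exists_r hm
  have hxS' : x ∈ S := commutator_le_self S hxS
  -- `[O, x] ≤ P`
  have hON : od 𝐍[P] ⊴ 𝐍[P] := pcore_normal _ _
  obtain ⟨Y, hY, -, hSY⟩ := hall_cent c.cyc (od_odd 𝐍[P]) c.syl.pgroup (hSP.trans hON.2)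
  have hOP : ⁅od 𝐍[P], ⟪x⟫⁆ ≤ P := by
    obtain ⟨k, hk⟩ := IsPGroup.iff_card.1 (c.syl.pgroup.to_le (zpowers_le.2 hxS'))
    refine (coprime_comm_pcore (π := {3}) ((zpowers_le.2 hxS').trans (hSP.trans hON.2)) ?_
      (od_sol _) hY (le_centralizer_iff.1 ((zpowers_le.2 hxS).trans hSY))).trans ?_
    · rw [hk]; exact (Nat.coprime_two_right.2 (od_odd _)).pow_right k
    · exact (hON.core_le _).trans (normal_Sylow_pcore (hP.subl (normG P) le_top)
        ⟨normG P, le_rfl⟩).le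
  set E := lift3 π P with hE
  set W := fixS (ρ.comp K.subtype) E with hW
  have hWn : ∀ k : K, π k ∈ S → ∀ u ∈ W, ρ k u ∈ W := fun k hk u hu =>
    fixS_norm (ρ := ρ.comp K.subtype) (Set3.norm_lift3 (hSP hk)) hu
  have hWr : ∀ u ∈ W, ρ r u ∈ W := hWn r (hr ▸ hxS')
  have hWj : ∀ u ∈ W, ρ j u ∈ W := hWn j (hj ▸ c.dih.mem_τ)
  have hWs : ∀ u ∈ W, sf (ρ r) u ∈ W := fun u hu => add_mem (hWr u hu) (by
    rw [pow_three]; exact hWr _ (hWr _ (hWr u hu)))
  have hJ : ρ j * sf (ρ r) = -sf (ρ r) * ρ j := by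
    rw [← sf_inv hr4]
    refine sf_conj ?_
    rw [← map_mul, ← map_mul, ← Subgroup.coe_inv, ← hjr]; simp
  obtain ⟨w0, hw0, h0⟩ := exists_fixS (ρ := ρ.comp K.subtype) (pcore_pgroup' 3 (P.comap π))
  obtain ⟨v, hv, hv0, hsv⟩ := exists_plus (sf_sq hr4 three_end) hJ
    (fun v e => by_contra fun h => rho_ne ρ _ h e) hWs hWj hw0 h0
  have hsj : sf (ρ r) (ρ j v) = -ρ j v := by
    have h3 := congrArg (fun f : Module.End (ZMod 3) V => f v) hJ
    simp only [Module.End.mul_apply, LinearMap.neg_apply] at h3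
    rw [hsv] at h3
    rw [eq_neg_iff_add_eq_zero, add_comm, ← eq_neg_iff_add_eq_zero]; exact h3
  have hsu : sf (ρ r) (v + ρ j v) = v - ρ j v := by rw [map_add, hsv, hsj, sub_eq_add_neg]
  have hu : v + ρ j v ∈ W := add_mem hv (hWj v hv)
  have hu0 : v + ρ j v ≠ 0 := fun e => hv0 (two_inj (by
    rw [e, map_zero, eq_comm, sub_eq_zero] at hsu
    rwa [← hsu] at e))
  obtain ⟨h, hh⟩ := c.tr.trans v _ hv0 hu0
  -- stabilisers
  have hst : ∀ u ∈ W, u ≠ 0 → ∀ k : K, k ∈ E ↔ ρ k u = u := fun u hu hu0 k => by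
    refine ⟨fun hk => hu k hk, fun hk => c.mem_lift3 hP.pgroup ?_ ((c.tr.free.sub K) k u hu0 hk)⟩
    have h1 : (stb (ρ.comp K.subtype) u).map π = P :=
      hP.eq_of_le (((c.tr.free.sub K).stb_pgroup hu0).map π)
        ((c.lift3_map hP.pgroup).ge.trans (map_mono fun e he => hu e he)) le_top
    exact h1 ▸ mem_map_of_mem π hk
  let α : MulAut K := MulAut.conjNormal h
  have hα : ∀ k : K, ρ (α k) * ρ h = ρ h * ρ k := fun k => by
    rw [← map_mul, ← map_mul]; simp [α]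
  have hαE : ∀ k : K, α k ∈ E ↔ k ∈ E := fun k => by
    rw [hst _ hu hu0, hst _ hv hv0, ← hh, ← Module.End.mul_apply, hα, Module.End.mul_apply]
    exact ⟨fun e => by simpa only [rho_inv_self] using congrArg (ρ h⁻¹) e, fun e => by rw [e]⟩
  have hrE : r ∈ 𝐍[E] := Set3.norm_lift3 (hSP (hr ▸ hxS'))
  have hr'E : α r ∈ 𝐍[E] := mem_normalizer_iff.2 fun e => by
    obtain ⟨e, rfl⟩ := α.surjective e
    rw [← map_inv, ← map_mul, ← map_mul, hαE, hαE]
    exact mem_normalizer_iff.1 hrE e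
  have hx' : π (α r) ∈ 𝐍[P] := by
    rw [← c.lift3_map hP.pgroup]
    exact le_normalizer_map π (mem_map_of_mem π hr'E)
  have hr'4 : ρ (α r) ^ 4 = -1 := by
    have : ρ (α (r ^ 4)) * ρ h = -1 * ρ h := by
      rw [hα, Subgroup.coe_pow, map_pow, hr4]; simp
    rw [← map_pow, ← Subgroup.coe_pow, ← map_pow]
    have h2 := congrArg (· * ρ h⁻¹) this
    simpa only [mul_assoc, ← map_mul, mul_inv_cancel, mul_one, map_one] using h2
  have hne : (-1 : Module.End (ZMod 3) V) ≠ 1 := fun e => hv0 (two_inj (by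
    have := congrArg (fun f : Module.End (ZMod 3) V => f v) e
    simp only [LinearMap.neg_apply, Module.End.one_apply] at this
    exact neg_eq_iff_add_eq_zero.1 this))
  have ho4 : orderOf (π (α r)) = 4 := by
    refine orderOf_eq_prime_pow (p := 2) (n := 1) (fun e => hne ?_) ?_
    · rw [← map_pow, c.ker, ← pow_add] at e
      rw [← hr'4, ← map_pow, ← Subgroup.coe_pow]
      exact (congrArg (fun k : K => ρ k) e).trans (map_one ρ)
    · rw [← map_pow, c.ker]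
      refine Subtype.ext (c.tr.inj ?_)
      rw [Subgroup.coe_mul, map_mul, Subgroup.coe_pow, map_pow]
      change ρ (α r) ^ 4 * ρ (α r) ^ 4 = ρ 1
      rw [hr'4, map_one]; simp
  obtain ⟨n, hn, hnS⟩ := (c.dc hm).into hSP (zpowers_le.2 hx')
    (piElt_singleton_iff_pgroup.1 (piElt_singleton.2 ⟨2, ho4⟩))
  obtain ⟨s, hs, o, ho, rfl⟩ := (mulEq_of_sup (hSP.trans hON.2) hod).symm.exists_mul hn
  have hy : o * π (α r) * o⁻¹ ∈ S := by
    have := mul_mem (mul_mem (inv_mem hs) (hnS _ (mem_zpowers _))) hs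
    convert this using 1; group
  have hy4 : orderOf (o * π (α r) * o⁻¹) = 4 := by
    rw [← ho4]; exact (orderOf_eq_of_isConj (isConj_iff.2 ⟨o, rfl⟩))
  -- `α r = y k` with `y = r^{±1}` and `π k ∈ P`
  have key : ∀ y : K, π y ∈ ⟪x⟫ → o * π (α r) * o⁻¹ = π y → (∀ u ∈ W, ρ y u ∈ W) →
      sf (ρ (α r)) (v + ρ j v) = sf (ρ y) (v + ρ j v) ∨
      sf (ρ (α r)) (v + ρ j v) = -sf (ρ y) (v + ρ j v) := fun y hyx e hyW => by
    have h1 : π (y⁻¹ * α r) ∈ P := by
      have h2 := inv_mem (hOP (commutator_mem_commutator (inv_mem ho) (inv_mem hyx)))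
      convert h2 using 1
      rw [map_mul, map_inv, show π (α r) = o⁻¹ * π y * o by rw [← e]; group, commutatorElement_def]
      group
    obtain ⟨δ, hδ, hd⟩ := c.pm_of_mem hP.pgroup h1
    have h3 : ∀ u ∈ W, ρ (α r) u = ρ y (δ u) := fun u hu => by
      rw [← hd u hu, ← rho_mul]; simp
    rcases hδ with rfl | rfl
    · exact Or.inl (sf_agree hyW h3 hu)
    · refine Or.inr ?_
      rw [← LinearMap.neg_apply, ← sf_neg]
      exact sf_agree (fun u hu => neg_mem (hyW u hu)) (fun u hu => by simpa using h3 u hu) hu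
  have hfix : sf (ρ (α r)) (v + ρ j v) = v + ρ j v := by
    rw [← hh, ← Module.End.mul_apply, ← sf_conj (hα r).symm, Module.End.mul_apply, hsv]
  have fin : sf (ρ (α r)) (v + ρ j v) = sf (ρ r) (v + ρ j v) ∨
      sf (ρ (α r)) (v + ρ j v) = -sf (ρ r) (v + ρ j v) := by
    rcases ord4 c.dih hxσ hxx hy hy4 with e | e
    · exact key r (hr ▸ mem_zpowers _) (e.trans hr.symm) hWr
    · have := key r⁻¹ (by rw [map_inv, hr]; exact inv_mem (mem_zpowers _))
        (by rw [e, map_inv, hr]) (hWn _ (by rw [map_inv, hr]; exact inv_mem hxS'))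
      rw [Subgroup.coe_inv, sf_inv hr4, LinearMap.neg_apply, neg_neg] at this
      exact this.symm
  rw [hfix, hsu] at fin
  rcases fin with e | e
  · exact rho_ne ρ j hv0 (two_inj (by rw [← sub_eq_zero.2 e]; abel))
  · exact hv0 (two_inj (by rw [← sub_eq_zero.2 e]; abel))

end Cfsg.G41
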