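import Cfsg.Agent.G41.CaseB
import Cfsg.Agent.G41.Phi
import Cfsg.Agent.G41.X1

/-! S4841, `p = 3`: piece `StB3`. -/

set_option autoImplicit false
set_option linter.style.haveILetI false

namespace Cfsg.G41

open Subgroup Cfsg.FT Cfsg.Gag Cfsg.GW
open scoped Pointwise

universe u

theorem caseB {G : Type u} [Group G] [Finite G] [IsSimpleGroup G] {S : Subgroup G} {σ τ : G}
    {m : ℕ} (hG : _root_.commutator G = ⊤) (c : BC S σ τ m) : IsL2 G := by
  refine stBSW G _ _ _ (c.bswh ?_)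
  obtain ⟨P, rfl⟩ := syl_top_iff.1 c.syl
  exact c1a hG c.dih c.hm c.conj (c.commF c.ot) fun V hV ht hS =>
    (commG1P'.2 (c.normV hV ht hS)).le.trans bot_le

section
variable {V : Type} [AddCommGroup V] [Module (ZMod 3) V] [Finite V] {H : Type u} [Group H]
  [Finite H] {ρ : H →* Module.End (ZMod 3) V} {K : Subgroup H} {G : Type u} [Group G] [Finite G]
  {π : K →* G} {S : Subgroup G} {σ τ : G} {m : ℕ}

/-- (O): subgroups of order prime to `6` are cyclic -/
theorem Set3.cyclic (h : Set3 ρ K π S σ τ m) (Y : Subgroup G) (ho : Odd (Nat.card Y))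
    (h3 : ¬ 3 ∣ Nat.card Y) : IsCyclic Y := by
  haveI := h.tr.nt
  have hk : IsPGroup 2 π.ker := fun z => ⟨1, Subtype.ext (by
    simpa [pow_two] using (h.ker z).1 z.2)⟩
  have e : (Y.comap π).map π = Y := map_comap_eq_self_of_surjective h.surj Y
  have hs : Group.IsSolvable (Y.comap π) := by
    haveI := pgroup_sol hk
    haveI : Group.IsSolvable Y := feit_thompson ho
    exact solvable_of_ker_le_range (inclusion (π.ker_le_comap Y)) (π.subgroupComap Y)
      fun z hz => ⟨⟨z, congrArg Subtype.val hz⟩, rfl⟩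
  obtain ⟨C, hC⟩ := Hall_exists {2}ᶜ hs
  have h1 := pHall_id (hC.map π) (by rw [e]; exact piSub_compl.2 (Fr.nd2 ho))
  rw [← e, ← h1]
  refine cyclic_map π ((h.tr.free.sub K).cyclic_of_perfect h.cmp.perfect (piSub_compl.1 hC.pi)
    fun h4 => h3 ?_)
  have h5 : InjM π C := injM_iff.2 (by
    rw [inf_comm]; exact odd_inf_two (Fr.odd_nd2 (piSub_compl.1 hC.pi)) hk)
  rwa [← e, ← h1, h5.card_map le_rfl]

end

theorem stB3 : StB3.{u} := by
  intro V _ _ _ H _ _ ρ K G _ _ π S σ τ m h hm h3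
  haveI := h.simple
  exact caseB h.perfect ⟨h.dc hm, h.cyclic, h3 _ (pcore_pgroup' _ _)
    ((pcore_sub _ _).trans (oc_le _)) (norms_pcore _ (oc_norm _))⟩

end Cfsg.G41
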