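import Cfsg.Agent.FT.Base.PGrp
import Cfsg.Agent.Blk.OlssonGrp

/-! `2`-groups with a unique involution. -/

set_option autoImplicit false

namespace Cfsg.G41

universe u

variable {G : Type u} [Group G] [Finite G]

/-- generalized quaternion data -/
structure IsQuat (T : Subgroup G) (z a x : G) : Prop where
  aT : a ∈ T
  xT : x ∈ T
  four : 4 ∣ orderOf a
  inv : x * a * x⁻¹ = a⁻¹
  sq : x * x = z
  za : z ∈ Subgroup.zpowers a
  notMem : x ∉ Subgroup.zpowers a
  cases : ∀ y ∈ T, y ∈ Subgroup.zpowers a ∨ y * x ∈ Subgroup.zpowers a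

theorem mem_sq_of_not_gen {a b : G} (h2 : IsPGroup 2 (Subgroup.zpowers a))
    (hb : b ∈ Subgroup.zpowers a) (h : a ∉ Subgroup.zpowers b) : ∃ k : ℤ, b = a ^ (2 * k) := by
  obtain ⟨n, rfl⟩ := mem_powers_iff_mem_zpowers.2 hb
  obtain ⟨e, he⟩ := IsPGroup.iff_card.1 h2
  rw [Nat.card_zpowers] at he
  rcases Nat.even_or_odd n with ⟨k, rfl⟩ | ho
  · exact ⟨k, by
      simp only; rw [← zpow_natCast]; congr 1; push_cast; ring⟩
  · exact absurd (mem_zpowers_pow_iff.2 (he ▸ Nat.Coprime.pow_right e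
      (Nat.coprime_two_right.2 ho))) h

theorem quat_or_cyclic {T : Subgroup G} (hT : IsPGroup 2 T) {z : G}
    (hz : ∀ y ∈ T, y * y = 1 → y = 1 ∨ y = z) : IsCyclic T ∨ ∃ a x, IsQuat T z a x := by
  obtain ⟨A, hA, -⟩ := FT.exists_SCN_ge hT.isNilpotent (FT.normal1 T) FT.abelian_bot
  have hA2 : IsPGroup 2 A := hT.to_le hA.1
  have hAc : IsCyclic A := by
    let _ : CommGroup A := { (inferInstance : Group A) with mul_comm := (FT.SCN_abelian hA).1.1 }
    refine isCyclic_of_unique_invol hA2 fun a b ha hb a1 b1 => Subtype.ext ?_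
    rw [(hz a (hA.1 a.2) (congrArg Subtype.val ha)).resolve_left fun e => a1 (Subtype.ext e),
      (hz b (hA.1 b.2) (congrArg Subtype.val hb)).resolve_left fun e => b1 (Subtype.ext e)]
  obtain ⟨a, rfl⟩ := (Subgroup.isCyclic_iff_exists_zpowers_eq_top A).1 hAc
  have hC : ∀ y ∈ T, Commute y a → y ∈ Subgroup.zpowers a := fun y hy h =>
    hA.2.2.le ⟨hy, fun _ ⟨k, hk⟩ => hk ▸ (h.zpow_right k).symm.eq⟩
  have hN : ∀ y ∈ T, ∀ b ∈ Subgroup.zpowers a, y * b * y⁻¹ ∈ Subgroup.zpowers a :=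
    fun y hy b hb => (Subgroup.mem_normalizer_iff.1 (hA.2.1 hy) b).1 hb
  have aT : a ∈ T := hA.1 (Subgroup.mem_zpowers a)
  by_cases hTA : T ≤ Subgroup.zpowers a
  · exact .inl (le_antisymm hTA hA.1 ▸ hAc)
  right
  obtain ⟨x0, hx0, hx0A⟩ := SetLike.not_le_iff_exists.1 hTA
  have four : 4 ∣ orderOf a := by
    obtain ⟨e, he⟩ := IsPGroup.iff_card.1 hA2
    rw [Nat.card_zpowers] at he
    by_contra h4
    have h2 : a * a = 1 := by
      rw [← sq, ← orderOf_dvd_iff_pow_eq_one, he]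
      rcases e with _ | _ | e
      · simp
      · simp
      · exact absurd (he ▸ pow_dvd_pow 2 (by omega : 2 ≤ e + 1 + 1)) h4
    have h3 : x0 * a * x0⁻¹ * (x0 * a * x0⁻¹) = 1 := by
      calc _ = x0 * (a * a) * x0⁻¹ := by group
        _ = 1 := by rw [h2]; group
    refine hx0A (hC _ hx0 ?_)
    rcases hz a aT h2 with e | e
    · rw [e]; exact Commute.one_right _
    · rcases hz _ (hA.1 (hN _ hx0 a (Subgroup.mem_zpowers a))) h3 with e' | e'
      · rw [show a = 1 by simpa using e']; exact Commute.one_right _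
      · exact mul_inv_eq_iff_eq_mul.1 (e'.trans e.symm)
  have za : z ∈ Subgroup.zpowers a := by
    obtain ⟨u, hu, ho⟩ := exists_orderOf_eq_prime_of_dvd_card (p := 2) (H := Subgroup.zpowers a)
      (by rw [Nat.card_zpowers]; exact dvd_trans (by norm_num) four)
    rcases hz u (hA.1 hu) (by rw [← sq, ← ho, pow_orderOf_eq_one]) with e | e
    · rw [e, orderOf_one] at ho; omega
    · exact e ▸ hu
  have step : ∀ y ∈ T, y ∉ Subgroup.zpowers a → y * y ∈ Subgroup.zpowers a →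
      y * a * y⁻¹ = a⁻¹ := by
    intro y hy hyA hyy
    have hφ := hN y hy a (Subgroup.mem_zpowers a)
    have hca : Commute (y * a * y⁻¹) a := by
      obtain ⟨k, hk⟩ := hφ
      rw [← hk]; exact (Commute.refl a).zpow_left k
    have hc : y * a * y⁻¹ * a ∈ Subgroup.zpowers a := mul_mem hφ (Subgroup.mem_zpowers a)
    have hno : y * y ∉ Subgroup.zpowers (y * a * y⁻¹ * a) := by
      rintro ⟨k, hk⟩
      simp only at hk
      rw [hca.mul_zpow, conj_zpow] at hk
      have h1 : a ^ k * y⁻¹ * (a ^ k * y⁻¹) = 1 := by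
        calc _ = y⁻¹ * (y * a ^ k * y⁻¹ * a ^ k) * y⁻¹ := by group
          _ = 1 := by rw [hk]; group
      have h2 : a ^ k * y⁻¹ ∈ Subgroup.zpowers a := by
        rcases hz _ (mul_mem (zpow_mem aT k) (inv_mem hy)) h1 with e | e <;> rw [e]
        · exact one_mem _
        · exact za
      exact hyA (inv_mem_iff.1 ((mul_mem_cancel_left (Subgroup.zpow_mem_zpowers a k)).1 h2))
    have h3 : y * a * y⁻¹ * a ∈ Subgroup.zpowers (y * y) :=
      ((FT.cyclic_pgroup_le_total hAc hA2 (Subgroup.zpowers_le.2 hyy)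
        (Subgroup.zpowers_le.2 hc)).resolve_left
        fun h => hno (h (Subgroup.mem_zpowers _))) (Subgroup.mem_zpowers _)
    obtain ⟨m, hm⟩ := mem_sq_of_not_gen (hA2.to_le (Subgroup.zpowers_le.2 hyy)) h3 hno
    obtain ⟨j, hj⟩ := mem_sq_of_not_gen hA2 hyy fun ⟨k, hk⟩ => hyA (hC y hy (by
      rw [← hk]; exact ((Commute.refl y).mul_right (Commute.refl y)).zpow_right k))
    have hyc : Commute y ((y * y) ^ m) :=
      ((Commute.refl y).mul_right (Commute.refl y)).zpow_right m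
    have hac : Commute a ((y * y) ^ m) := by
      rw [hj, ← zpow_mul]; exact (Commute.refl a).zpow_right _
    have h4 : y * (a * ((y * y) ^ m)⁻¹) * y⁻¹ = (a * ((y * y) ^ m)⁻¹)⁻¹ := by
      have h5 : y * a * y⁻¹ = (y * y) ^ m * (y * y) ^ m * a⁻¹ := by
        rw [← zpow_add, ← two_mul, ← hm]; group
      calc _ = y * a * y⁻¹ * (y * ((y * y) ^ m)⁻¹ * y⁻¹) := by group
        _ = (y * y) ^ m * ((y * y) ^ m * a⁻¹) * ((y * y) ^ m)⁻¹ := by
          rw [h5, hyc.inv_right.eq]; group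
        _ = _ := by rw [hac.symm.inv_right.eq]; group
    have h6 : a ∈ Subgroup.zpowers (a * ((y * y) ^ m)⁻¹) := by
      by_contra h
      obtain ⟨l, hl⟩ := mem_sq_of_not_gen hA2
        (mul_mem (Subgroup.mem_zpowers a) (inv_mem (zpow_mem hyy m))) h
      rw [hj, ← zpow_mul] at hl
      have h7 : a ^ (2 * l + 2 * j * m - 1) = 1 := by
        rw [zpow_sub, zpow_add, ← hl]; group
      have h8 := (Int.natCast_dvd_natCast.2 four).trans (orderOf_dvd_iff_zpow_eq_one.2 h7)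
      rw [mul_assoc] at h8
      omega
    obtain ⟨k, hk⟩ := h6
    simp only at hk
    rw [← hk, ← conj_zpow, h4, inv_zpow]
  have all : ∀ n : ℕ, ∀ y ∈ T, y ∉ Subgroup.zpowers a → y ^ 2 ^ n ∈ Subgroup.zpowers a →
      y * a * y⁻¹ = a⁻¹ := by
    intro n
    induction n with
    | zero => intro y _ h1 h2; exact absurd (by simpa using h2) h1
    | succ n ih =>
      intro y hy h1 h2
      by_cases h3 : y * y ∈ Subgroup.zpowers a
      · exact step y hy h1 h3
      exfalso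
      have h4 := ih _ (mul_mem hy hy) h3 (by rwa [← sq, ← pow_mul, ← pow_succ'])
      obtain ⟨k, hk⟩ := hN y hy a (Subgroup.mem_zpowers a)
      simp only at hk
      have h5 : a ^ (k * k + 1) = 1 := by
        rw [zpow_add, zpow_mul, hk, conj_zpow, hk, zpow_one, ← eq_inv_iff_mul_eq_one, ← h4]; group
      have h6 := (Int.natCast_dvd_natCast.2 four).trans (orderOf_dvd_iff_zpow_eq_one.2 h5)
      rcases Int.even_or_odd' k with ⟨l, rfl | rfl⟩
      · rw [show 2 * l * (2 * l) + 1 = 4 * (l * l) + 1 by ring] at h6; omega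
      · rw [show (2 * l + 1) * (2 * l + 1) + 1 = 4 * (l * l + l) + 2 by ring] at h6; omega
  have inv : ∀ y ∈ T, y ∉ Subgroup.zpowers a → y * a * y⁻¹ = a⁻¹ := fun y hy h => by
    obtain ⟨n, hn⟩ := hT ⟨y, hy⟩
    exact all n y hy h (by rw [show y ^ 2 ^ n = 1 from congrArg Subtype.val hn]; exact one_mem _)
  have cases : ∀ y ∈ T, y ∈ Subgroup.zpowers a ∨ y * x0 ∈ Subgroup.zpowers a := fun y hy => by
    by_cases h : y ∈ Subgroup.zpowers a
    · exact .inl h
    refine .inr (hC _ (mul_mem hy hx0) (mul_inv_eq_iff_eq_mul.1 ?_))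
    calc _ = y * (x0 * a * x0⁻¹) * y⁻¹ := by group
      _ = (y * a * y⁻¹)⁻¹ := by rw [inv x0 hx0 hx0A]; group
      _ = a := by rw [inv y hy h, inv_inv]
  refine ⟨a, x0, aT, hx0, four, inv x0 hx0 hx0A, ?_, za, hx0A, cases⟩
  obtain ⟨k, hk⟩ := (cases x0 hx0).resolve_left hx0A
  simp only at hk
  have h1 : x0 * x0 * (x0 * x0) = 1 := by
    have h2 : x0 * (x0 * x0) * x0⁻¹ = (x0 * x0)⁻¹ := by
      rw [← hk, ← conj_zpow, inv x0 hx0 hx0A, inv_zpow]
    rw [← eq_inv_iff_mul_eq_one, ← h2]; group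
  rcases hz _ (mul_mem hx0 hx0) h1 with e | e
  · rcases hz _ hx0 e with e' | e'
    · exact absurd (e' ▸ one_mem _) hx0A
    · exact absurd (e' ▸ za) hx0A
  · exact e

omit [Finite G] in
theorem IsQuat.zz {T : Subgroup G} {z a x : G} (h : IsQuat T z a x) : z * z = 1 := by
  obtain ⟨k, hk⟩ := h.za
  simp only at hk
  have h1 : x * z * x⁻¹ = z⁻¹ := by rw [← hk, ← conj_zpow, h.inv, inv_zpow]
  rw [← eq_inv_iff_mul_eq_one, ← h1, ← h.sq]; group

omit [Finite G] in
theorem IsQuat.sq_of_comm {T : Subgroup G} {z a x : G} (h : IsQuat T z a x) {y : G} (hy : y ∈ T)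
    (ha : Commute y a) (hx : Commute y x) : y * y = 1 := by
  rcases h.cases y hy with ⟨k, hk⟩ | ⟨k, hk⟩ <;> simp only at hk
  · have h1 : x * y * x⁻¹ = y⁻¹ := by rw [← hk, ← conj_zpow, h.inv, inv_zpow]
    rw [← eq_inv_iff_mul_eq_one, ← h1, ← hx.eq]; group
  · have h1 : Commute x a := by
      have h2 : Commute (y * x) a := hk ▸ (Commute.refl a).zpow_left k
      simpa using ha.inv_left.mul_left h2
    have h2 : a ^ 2 = 1 := by
      rw [pow_two, ← eq_inv_iff_mul_eq_one, ← h.inv, h1.eq]; group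
    have := h.four.trans (orderOf_dvd_of_pow_eq_one h2)
    omega

end Cfsg.G41
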