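import Cfsg.Agent.G41.Defs
import Cfsg.Agent.G41.Quat
import Cfsg.Agent.S4840
import Cfsg.Agent.CT.Burnside
import Cfsg.Agent.FT.Main

/-! The component of a non-solvable transitive linear group (`StStar`, `StCmp`, `StDih`). -/

set_option autoImplicit false

namespace Cfsg.G41

open Cfsg.FT Cfsg.Gag Cfsg.GW

universe u

variable {p : ℕ} [hp : Fact p.Prime] {V : Type} [AddCommGroup V] [Module (ZMod p) V] [Finite V]
  {H : Type u} [Group H] [Finite H] {ρ : H →* Module.End (ZMod p) V}

omit [Finite H] in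
/-- a `p`-subgroup fixes a non-zero vector -/
theorem exists_fixed_vec [Nontrivial V] (ρ : H →* Module.End (ZMod p) V) {Q : Subgroup H}
    (hQ : IsPGroup p Q) : ∃ v : V, v ≠ 0 ∧ ∀ g ∈ Q, ρ g v = v := by
  let _ : MulAction Q V := MulAction.compHom V (ρ.comp Q.subtype)
  have hd : p ∣ Nat.card V := by
    rw [Pass.card_eq_pow (p := p) V]
    exact dvd_pow_self p Module.finrank_pos.ne'
  obtain ⟨v, hv, h0⟩ := hQ.exists_fixed_point_of_prime_dvd_card_of_fixed_point V hd
    (a := 0) fun g => map_zero (ρ g)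
  exact ⟨v, fun e => h0 e.symm, fun g hg => hv ⟨g, hg⟩⟩

theorem stStar : StStar.{u} := by
  intro p _ V _ _ _ H _ _ ρ K T hK
  have := T.nt
  refine ⟨T.inj.comp K.subtype_injective, T.free.sub K, T.nt, fun v hv => ?_⟩
  obtain ⟨P⟩ : Nonempty (Sylow p K) := inferInstance
  obtain ⟨w, hw, h⟩ := exists_fixed_vec (ρ.comp K.subtype) P.2
  obtain ⟨g, rfl⟩ := T.trans w v hw hv
  refine ⟨(MulAut.conjNormal g : MulAut K) • P, ?_⟩
  rintro _ ⟨y, hy, rfl⟩
  change ρ (g * y * g⁻¹) (ρ g w) = ρ g w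
  rw [← Module.End.mul_apply, ← map_mul, inv_mul_cancel_right, map_mul, Module.End.mul_apply]
  exact congrArg _ (h y hy)

omit [Finite V] [Finite H] in
theorem Star.eq_bot (T : Star ρ) {Q : Subgroup H} [Q.Normal] (hQ : IsPGroup p Q) : Q = ⊥ := by
  refine eq_bot_iff.2 fun g hg => T.inj ?_
  ext v
  rw [map_one]
  by_cases hv : v = 0
  · rw [hv, map_zero, map_zero]
  · obtain ⟨P, hP⟩ := T.syl v hv
    exact hP g (IsPGroup.le_sylow_of_normal hQ P hg)

omit hp in
theorem eq_top_of_two_primes (hL : commutator H = ⊤) {C : Subgroup H} [C.Normal] {a b : ℕ}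
    (ha : a.Prime) (hb : b.Prime)
    (h : ∀ s : ℕ, s.Prime → s ≠ a → s ≠ b → ∀ g : H, (∃ k, g ^ s ^ k = 1) → g ∈ C) : C = ⊤ := by
  have hs : Group.IsSolvable (H ⧸ C) := isSolvable_of_forall_prime_dvd ha hb fun s hs hd => by
    by_contra hn
    have := Fact.mk hs
    obtain ⟨S⟩ : Nonempty (Sylow s H) := inferInstance
    refine S.not_dvd_index (hd.trans (Subgroup.index_dvd_of_le fun g hg =>
      h s hs (fun e => hn (.inl e)) (fun e => hn (.inr e)) g ?_))
    obtain ⟨k, hk⟩ := S.2 ⟨g, hg⟩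
    exact ⟨k, congrArg Subtype.val hk⟩
  have h1 : commutator (H ⧸ C) = ⊤ := by
    rw [commutator_def, ← Subgroup.map_top_of_surjective _ (QuotientGroup.mk'_surjective C),
      ← Subgroup.map_commutator, ← commutator_def, hL]
  rcases subsingleton_or_nontrivial (H ⧸ C) with h2 | h2
  · exact QuotientGroup.subgroup_eq_top_of_subsingleton C h2
  · exact absurd h1 (Group.IsSolvable.commutator_lt_top_of_nontrivial (H ⧸ C)).ne

omit hp [Finite H] in
theorem not_dvd_orderOf {r s k : ℕ} (hr : r.Prime) (hs : s.Prime) (h : s ≠ r) {g : H}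
    (hg : g ^ s ^ k = 1) : ¬ r ∣ orderOf g := fun hd =>
  h ((Nat.prime_dvd_prime_iff_eq hr hs).1
    (hr.dvd_of_dvd_pow (hd.trans (orderOf_dvd_of_pow_eq_one hg)))).symm

/-- normal `r`-subgroups of a perfect group with `(*)` are central -/
theorem Star.pgroup_le_center (T : Star ρ) (hL : commutator H = ⊤) {r : ℕ} [hr : Fact r.Prime]
    {Q : Subgroup H} [Q.Normal] (hQ : IsPGroup r Q) : Q ≤ Subgroup.center H := by
  have := T.nt
  by_cases hrp : r = p
  · subst hrp; rw [T.eq_bot hQ]; exact bot_le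
  suffices h : Subgroup.centralizer (Q : Set H) = ⊤ from fun x hx =>
    Subgroup.mem_center_iff.2 fun g => ((h ▸ Subgroup.mem_top g :
      g ∈ Subgroup.centralizer (Q : Set H)) x hx).symm
  rcases centralized_or_isQ8Data hQ (fun B hB hc => T.free.cyclic_of_comm (fun h => by
    obtain ⟨k, hk⟩ := IsPGroup.iff_card.1 (hQ.to_le hB)
    exact hrp ((Nat.prime_dvd_prime_iff_eq hp.out hr.out).1
      (hp.out.dvd_of_dvd_pow (hk ▸ h))).symm) hc) with h | ⟨rfl, z, i, j, h⟩
  · exact eq_top_of_two_primes hL hr.out hr.out fun s hs h1 _ g ⟨k, hk⟩ =>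
      h g (hL ▸ Subgroup.mem_top g) (not_dvd_orderOf hr.out hs h1 hk)
  refine eq_top_of_two_primes hL Nat.prime_two Nat.prime_three fun s hs h2 h3 g ⟨k, hk⟩ => ?_
  classical
  have := Agent.S4840.q8_normal h
  have key : ∀ a c : ℕ, 0 < c → c < 4 → ((g ^ a * i * (g ^ a)⁻¹ : H) : H ⧸ Subgroup.zpowers z) =
      (g ^ (a + c) * i * (g ^ (a + c))⁻¹ : H) → g ∈ Subgroup.centralizer (Q : Set H) := by
    intro a c c0 c4 e
    have h1 : (i : H ⧸ Subgroup.zpowers z) = (g ^ c * i * (g ^ c)⁻¹ : H) := by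
      simp only [pow_add, QuotientGroup.mk_mul, QuotientGroup.mk_inv, mul_inv_rev, mul_assoc,
        mul_right_inj] at e ⊢
      simpa only [← mul_assoc, mul_left_inj] using e
    have h4 := Agent.S4840.q8_fix h hQ h.i_mem h.i_sq (fun hd => not_dvd_orderOf Nat.prime_two hs
      h2 hk (hd.trans (orderOf_pow_dvd c))) h1
    refine Subgroup.zpowers_le.2 h4 (mem_zpowers_pow_iff.2 ?_)
    refine Nat.Coprime.coprime_dvd_right (orderOf_dvd_of_pow_eq_one hk)
      (Nat.Coprime.pow_right k ((Nat.coprime_comm.1 ((Nat.Prime.coprime_iff_not_dvd hs).2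
        (Nat.not_dvd_of_pos_of_lt c0 ?_)))))
    have := hs.two_le
    have h5 : s ≠ 4 := by rintro rfl; exact absurd hs (by decide)
    omega
  obtain ⟨a, ha, b, hb, hab, e⟩ := Finset.exists_ne_map_eq_of_card_lt_of_maps_to
    (s := Finset.range 4) (t := {(i : H ⧸ Subgroup.zpowers z), (j : H ⧸ Subgroup.zpowers z),
      ((i * j : H) : H ⧸ Subgroup.zpowers z)})
    (lt_of_le_of_lt Finset.card_le_three (by simp))
    (f := fun a => ((g ^ a * i * (g ^ a)⁻¹ : H) : H ⧸ Subgroup.zpowers z)) fun a _ => by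
      rcases Agent.S4840.q8_cases h (Subgroup.Normal.conj_mem inferInstance i h.i_mem (g ^ a))
        (Agent.S4840.q8_conj_sq h h.i_sq (g ^ a)) with e | e | e <;> simp only [← e] <;> simp
  rw [Finset.mem_range] at ha hb
  rcases lt_or_gt_of_ne hab with hl | hl
  · obtain ⟨c, rfl⟩ := Nat.exists_eq_add_of_le hl.le
    exact key a c (by omega) (by omega) e
  · obtain ⟨c, rfl⟩ := Nat.exists_eq_add_of_le hl.le
    exact key b c (by omega) (by omega) e.symm

theorem Star.sol_le_center (T : Star ρ) (hL : commutator H = ⊤) {N : Subgroup H} [N.Normal]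
    (hN : Group.IsSolvable N) : N ≤ Subgroup.center H := by
  have hF : fittingSubgroup H ≤ Subgroup.center H := by
    rw [fittingSubgroup_eq_iSup_pCore]
    refine iSup_le fun r => ?_
    have := Fact.mk r.2
    exact T.pgroup_le_center hL (isPGroup_pCore r H)
  exact (le_fittingSubgroup_of_le_centralizer hN fun n _ x hx =>
    (Subgroup.mem_center_iff.1 (hF hx) n).symm).trans hF

omit [Finite V] [Finite H] in
theorem PFree.exists_invol (hf : PFree ρ) (inj : Function.Injective ρ) (h2 : p ≠ 2) :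
    ∃ z : H, ∀ y : H, y * y = 1 → y = 1 ∨ y = z := by
  by_cases h : ∃ z : H, z * z = 1 ∧ z ≠ 1
  · obtain ⟨z, hz, z1⟩ := h
    exact ⟨z, fun y hy => (eq_or_ne y 1).imp_right fun y1 => hf.invol_eq inj h2 hy y1 hz z1⟩
  · exact ⟨1, fun y hy => .inl (by by_contra y1; exact h ⟨y, hy, y1⟩)⟩

omit [Finite V] in
theorem PFree.quat (hf : PFree ρ) (inj : Function.Injective ρ) (h2 : p ≠ 2)
    (hL : commutator H = ⊤) (hd : 2 ∣ Nat.card H) (S : Sylow 2 H) :
    ∃ z a x, IsQuat (S : Subgroup H) z a x ∧ ∀ y : H, y * y = 1 → y = 1 ∨ y = z := by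
  obtain ⟨z, hz⟩ := hf.exists_invol inj h2
  rcases quat_or_cyclic S.2 (fun y _ => hz y) with h | ⟨a, x, h⟩
  · exact absurd (hasNormalPComplement_of_isCyclic_of_coprime S h (by simp))
      (PFree.not_nil_of_perfect hL Nat.prime_two hd)
  · exact ⟨z, a, x, h, hz⟩

theorem Star.center_sq (T : Star ρ) (hL : commutator H = ⊤) {z : H} (hz : z ∈ Subgroup.center H) :
    z * z = 1 ∧ (p = 2 → z = 1) := by
  have := T.nt
  have hn : ∀ x ∈ Subgroup.center H, (Subgroup.zpowers x).Normal := fun x hx =>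
    ⟨fun n hn g => by
      rw [Subgroup.mem_center_iff.1 (Subgroup.zpowers_le.2 hx hn) g, mul_inv_cancel_right]
      exact hn⟩
  have h2 : IsPGroup 2 (Subgroup.zpowers z) := by
    refine IsPGroup.of_card (n := (orderOf z).primeFactorsList.length) ?_
    rw [Nat.card_zpowers]
    refine Nat.eq_prime_pow_of_unique_prime_dvd (orderOf_pos z).ne' fun {r} hr hd => ?_
    by_contra r2
    have := Fact.mk hr
    obtain ⟨x, hx, hxo⟩ := exists_orderOf_eq_prime_of_dvd_card (p := r) (H := Subgroup.zpowers z)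
      (by rwa [Nat.card_zpowers])
    have x1 : x ≠ 1 := fun e => hr.one_lt.ne' (by rw [← hxo, e, orderOf_one])
    have hxc := Subgroup.zpowers_le.2 hz hx
    have hP : IsPGroup r (Subgroup.zpowers x) :=
      IsPGroup.of_card (n := 1) (by rw [Nat.card_zpowers, pow_one, hxo])
    by_cases rp : r = p
    · subst rp
      have := hn x hxc
      exact x1 (Subgroup.zpowers_eq_bot.1 (T.eq_bot hP))
    obtain ⟨R, hR⟩ := hP.exists_le_sylow
    have hRc : IsCyclic R := T.free.cyclic_of_pgroup r2 rp R.2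
    refine PFree.not_nil_of_perfect hL hr (hxo ▸ orderOf_dvd_natCard x)
      (hasNormalPComplement_of_normalizer_le_centralizer R fun g hg => ?_)
    exact mem_centralizer_of_cyclic_of_fixed R.2 hRc le_rfl (fun h => R.not_dvd_index (h.trans
      ((Subgroup.relIndex_dvd_of_le_left _ (Subgroup.le_centralizer_iff_isMulCommutative.2
        inferInstance)).trans (Subgroup.relIndex_dvd_index_of_le Subgroup.le_normalizer)))) hg
      (hR (Subgroup.mem_zpowers x)) x1
      (by rw [Subgroup.mem_center_iff.1 hxc g, mul_inv_cancel_right])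
  by_cases p2 : p = 2
  · subst p2
    have := hn z hz
    have h := Subgroup.zpowers_eq_bot.1 (T.eq_bot h2)
    exact ⟨by rw [h, mul_one], fun _ => h⟩
  refine ⟨?_, fun h => absurd h p2⟩
  by_cases z1 : z = 1
  · rw [z1, mul_one]
  obtain ⟨S, hS⟩ := h2.exists_le_sylow
  obtain ⟨_, a, x, h, -⟩ := T.free.quat T.inj p2 hL ((dvd_card_of_isPGroup_of_ne_bot h2
    (mt Subgroup.zpowers_eq_bot.1 z1)).trans (Subgroup.card_subgroup_dvd_card _)) S
  exact h.sq_of_comm (hS (Subgroup.mem_zpowers z)) (Subgroup.mem_center_iff.1 hz a).symm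
    (Subgroup.mem_center_iff.1 hz x).symm

omit hp [Finite H] in
theorem sol_of_sol_quot_center (h : Group.IsSolvable (H ⧸ Subgroup.center H)) :
    Group.IsSolvable H :=
  have : Group.IsSolvable (Subgroup.center H) := Group.isSolvable_of_comm fun a b =>
    Subtype.ext (Subgroup.mem_center_iff.1 b.2 a)
  Group.isSolvable_of_ker_le_range (Subgroup.center H).subtype
    (QuotientGroup.mk' (Subgroup.center H))
    (by rw [QuotientGroup.ker_mk', Subgroup.range_subtype])

theorem stCmp : StCmp.{u} := by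
  intro p _ V _ _ _ H _ _ ρ T
  have := T.nt
  obtain ⟨K, ⟨hKn, hKs⟩, hmin⟩ := (Set.toFinite
    {K : Subgroup H | K.Normal ∧ ¬ Group.IsSolvable K}).exists_minimal
    ⟨⊤, inferInstance, fun h => T.ns (Group.isSolvable_of_surjective
      (f := (⊤ : Subgroup H).subtype) fun x => ⟨⟨x, trivial⟩, rfl⟩)⟩
  have S := stStar p V H ρ K T hKn
  have hL : commutator K = ⊤ := by
    have h1 : ¬ Group.IsSolvable (⁅K, K⁆ : Subgroup H) := fun h => hKs <| by
      rw [← Subgroup.map_subtype_commutator] at h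
      have h2 : Group.IsSolvable (commutator K) := Group.isSolvable_of_isSolvable_injective
        (f := ((commutator K).equivMapOfInjective _ K.subtype_injective).toMonoidHom)
        (MulEquiv.injective _)
      exact Group.isSolvable_of_ker_le_range (commutator K).subtype (Abelianization.of)
        (by rw [Abelianization.ker_of, Subgroup.range_subtype])
    have h2 := hmin ⟨inferInstance, h1⟩ (Subgroup.commutator_le_left K K)
    refine Subgroup.map_injective K.subtype_injective ?_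
    rw [Subgroup.map_subtype_commutator, ← MonoidHom.range_eq_map, Subgroup.range_subtype]
    exact le_antisymm (Subgroup.commutator_le_left K K) h2
  have key : ∀ N : Subgroup K, N.Normal → N ≤ Subgroup.center K ∨ N = ⊤ := by
    intro N hN
    by_cases hs : Group.IsSolvable N
    · exact .inl (S.sol_le_center hL hs)
    right
    obtain ⟨r, hr, hd, rp, r2⟩ : ∃ r : ℕ, r.Prime ∧ r ∣ Nat.card N ∧ r ≠ p ∧ r ≠ 2 := by
      by_contra h
      exact hs (isSolvable_of_forall_prime_dvd (Fact.out : p.Prime) Nat.prime_two fun r hr hd => by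
        by_contra h'
        exact h ⟨r, hr, hd, fun e => h' (.inl e), fun e => h' (.inr e)⟩)
    have := Fact.mk hr
    obtain ⟨x, hx, hxo⟩ := exists_orderOf_eq_prime_of_dvd_card hd
    have x1 : x ≠ 1 := fun e => hr.one_lt.ne' (by rw [← hxo, e, orderOf_one])
    set X := Subgroup.normalClosure ({(x : H)} : Set H) with hX
    have hXN : X ≤ N.map K.subtype := by
      refine (Subgroup.closure_le _).2 fun y hy => ?_
      obtain ⟨_, rfl, hc⟩ := Group.mem_conjugatesOfSet_iff.1 hy
      obtain ⟨g, rfl⟩ := isConj_iff.1 hc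
      have hyK : g * x * g⁻¹ ∈ K := hKn.conj_mem _ x.2 g
      have e1 : ∀ y : K, orderOf y = r → IsPGroup r (Subgroup.zpowers y) := fun y hy =>
        IsPGroup.of_card (n := 1) (by rw [Nat.card_zpowers, pow_one, hy])
      have ho : orderOf (⟨_, hyK⟩ : K) = r := by
        rw [← Subgroup.orderOf_coe, ← hxo, ← Subgroup.orderOf_coe]
        exact (MulAut.conj g).orderOf_eq (x : H)
      obtain ⟨R, hR⟩ := (e1 x hxo).exists_le_sylow
      obtain ⟨R', hR'⟩ := (e1 _ ho).exists_le_sylow
      obtain ⟨c, rfl⟩ := MulAction.exists_smul_eq K R' R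
      have h1 : c * ⟨_, hyK⟩ * c⁻¹ ∈ Subgroup.zpowers x :=
        mem_zpowers_of_pow_prime_eq_one (c • R').2 (S.free.cyclic_of_pgroup r2 rp (c • R').2)
          (hR (Subgroup.mem_zpowers x)) x1 ⟨_, hR' (Subgroup.mem_zpowers _), rfl⟩
          (by rw [conj_pow, ← ho, pow_orderOf_eq_one]; simp)
      have h2 := hN.mem_comm (Subgroup.zpowers_le.2 hx h1)
      rw [inv_mul_cancel_left] at h2
      exact ⟨_, h2, rfl⟩
    have hXK : X ≤ K := hXN.trans (Subgroup.map_subtype_le N)
    have hXs : ¬ Group.IsSolvable X := fun h => by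
      have h1 : Group.IsSolvable (X.subgroupOf K) := Group.isSolvable_of_isSolvable_injective
        (f := (Subgroup.subgroupOfEquivOfLe hXK).toMonoidHom) (MulEquiv.injective _)
      have h2 := (S.center_sq hL (S.sol_le_center hL h1 (x := x)
        (Subgroup.subset_normalClosure (Set.mem_singleton _)))).1
      exact r2 ((Nat.prime_dvd_prime_iff_eq hr Nat.prime_two).1
        (hxo ▸ orderOf_dvd_of_pow_eq_one (by rw [sq, h2])))
    have h3 := (hmin ⟨inferInstance, hXs⟩ hXK).trans hXN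
    refine eq_top_iff.2 fun y _ => ?_
    obtain ⟨w, hw, e⟩ := h3 y.2
    exact (Subtype.ext e : w = y) ▸ hw
  have hq : ¬ Group.IsSolvable (K ⧸ Subgroup.center K) := mt sol_of_sol_quot_center hKs
  refine ⟨K, ⟨hKn, hL, ?_, hKs, fun z hz => (S.center_sq hL hz).1⟩, fun p2 => ?_⟩
  · have : Nontrivial (K ⧸ Subgroup.center K) := by
      by_contra h
      have := not_nontrivial_iff_subsingleton.1 h
      exact hq inferInstance
    refine ⟨fun M hM => ?_⟩
    rw [← Subgroup.map_comap_eq_self_of_surjective (QuotientGroup.mk'_surjective _) M]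
    rcases key (M.comap (QuotientGroup.mk' _)) inferInstance with h | h
    · exact .inl ((Subgroup.map_eq_bot_iff _).2 (by rwa [QuotientGroup.ker_mk']))
    · exact .inr (by rw [h, Subgroup.map_top_of_surjective _ (QuotientGroup.mk'_surjective _)])
  · have : Nontrivial K := by
      by_contra h
      have := not_nontrivial_iff_subsingleton.1 h
      exact hKs inferInstance
    exact ⟨fun M hM => (key M hM).imp_left fun h =>
      eq_bot_iff.2 fun z hz => (S.center_sq hL (h hz)).2 p2⟩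

theorem stDih : StDih.{u} := by
  intro V _ _ _ H _ _ ρ K T C
  have S := stStar 3 V H ρ K T C.normal
  have h32 : (3 : ℕ) ≠ 2 := by decide
  have hd : 2 ∣ Nat.card K := by
    by_contra h
    exact C.ns (FTthm.out K (Nat.odd_iff.2 (Nat.two_dvd_ne_zero.1 h)))
  obtain ⟨P⟩ : Nonempty (Sylow 2 K) := inferInstance
  obtain ⟨z, a, x, h, hz⟩ := S.free.quat S.inj h32 C.perfect hd P
  set π := QuotientGroup.mk' (Subgroup.center K) with hπ
  have surj : Function.Surjective π := QuotientGroup.mk'_surjective _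
  have ker : ∀ y : K, π y = 1 ↔ y * y = 1 := fun y =>
    (QuotientGroup.eq_one_iff y).trans ⟨C.sq y, S.free.invol_center S.inj h32⟩
  obtain ⟨m, hm⟩ := h.four
  have m0 : 0 < m := Nat.pos_of_ne_zero fun e => (orderOf_pos a).ne' (by rw [hm, e])
  have ho : orderOf (π a) = 2 * m := by
    have key : ∀ n, orderOf (π a) ∣ n ↔ 2 * m ∣ n := fun n => by
      rw [orderOf_dvd_iff_pow_eq_one, ← map_pow, ker, ← pow_add, ← orderOf_dvd_iff_pow_eq_one, hm,
        ← two_mul, show 4 * m = 2 * (2 * m) by ring, Nat.mul_dvd_mul_iff_left two_pos]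
    exact Nat.dvd_antisymm ((key _).2 dvd_rfl) ((key _).1 dvd_rfl)
  have hD : IsDih ((P : Subgroup K).map π) (π a) (π x) m := by
    refine ⟨m0, ho, ⟨a, h.aT, rfl⟩, ⟨x, h.xT, rfl⟩, ?_, ?_, ?_, ?_⟩
    · rw [← map_mul, ker, h.sq, h.zz]
    · rw [← map_inv, ← map_mul, ← map_mul, h.inv, map_inv]
    · rintro ⟨k, hk⟩
      simp only at hk
      have h1 : π (x⁻¹ * a ^ k) = 1 := by rw [map_mul, map_inv, map_zpow, hk, inv_mul_cancel]
      have h2 : x⁻¹ * a ^ k ∈ Subgroup.zpowers a := by
        rcases hz _ ((ker _).1 h1) with e | e <;> rw [e]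
        · exact one_mem _
        · exact h.za
      exact h.notMem (inv_mem_iff.1
        ((mul_mem_cancel_right (Subgroup.zpow_mem_zpowers a k)).1 h2))
    · rintro _ ⟨y, hy, rfl⟩
      rw [← map_mul, ← MonoidHom.map_zpowers]
      exact (h.cases y hy).imp (Subgroup.mem_map_of_mem π) (Subgroup.mem_map_of_mem π)
  refine ⟨_, _, _, m, ⟨T, C, surj, ker, C.simple, mt sol_of_sol_quot_center C.ns,
    syl_top_iff.2 ⟨P.mapSurjective surj, rfl⟩, hD⟩, ?_⟩
  obtain ⟨e, he⟩ : ∃ e, m = 2 ^ e := by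
    obtain ⟨k, hk⟩ := IsPGroup.iff_card.1 (P.2.to_le (Subgroup.zpowers_le.2 h.aT))
    rw [Nat.card_zpowers, hm] at hk
    obtain ⟨e, -, he⟩ := (Nat.dvd_prime_pow Nat.prime_two).1 (hk ▸ dvd_mul_left m 4)
    exact ⟨e, he⟩
  rcases e with _ | _ | e
  · obtain rfl : m = 1 := he
    refine .inl ⟨hD.card, fun t ht => ?_⟩
    by_cases h1 : t ∈ Subgroup.zpowers (π a)
    · rw [← sq, ← orderOf_dvd_iff_pow_eq_one]
      exact (orderOf_dvd_of_mem_zpowers h1).trans ho.dvd
    · exact hD.mul_self_of_notMem ht h1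
  · obtain rfl : m = 2 := he
    refine .inr (.inl ⟨π a, π x, ho, hD.orderOf_of_notMem hD.mem_τ hD.notMem, hD.rel,
      le_antisymm (fun y hy => ?_) (sup_le hD.zpowers_le (Subgroup.zpowers_le.2 hD.mem_τ)),
      hD.card⟩)
    by_cases h1 : y ∈ Subgroup.zpowers (π a)
    · exact Subgroup.mem_sup_left h1
    · obtain ⟨s, hs, rfl⟩ := hD.exists_eq_mul hy h1
      exact Subgroup.mul_mem_sup hs (Subgroup.mem_zpowers _)
  · refine .inr (.inr ?_)
    rw [he, pow_add, pow_add]
    have := Nat.one_le_two_pow (n := e)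
    omega

end Cfsg.G41
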