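import Cfsg.Agent.G41.Q1
import Cfsg.Agent.G41.Struct
import Cfsg.Agent.GW.L2Aut

/-! The endgame in natural characteristic. -/

set_option autoImplicit false

namespace Cfsg.G41

open Subgroup Module Qd
open scoped MatrixGroups

universe u

theorem card_ne_zero_add (M : Type*) [Zero M] [Finite M] :
    Nat.card {v : M // v ≠ 0} + 1 = Nat.card M := by
  classical
  have := Fintype.ofFinite M
  rw [Nat.card_eq_fintype_card, Nat.card_eq_fintype_card, Fintype.card_subtype_compl,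
    Fintype.card_subtype_eq, Nat.sub_add_cancel (Fintype.card_pos_iff.2 ⟨0⟩)]

section
variable {p : ℕ} [hp : Fact p.Prime] {V : Type} [AddCommGroup V] [Module (ZMod p) V] [Finite V]
  {H : Type u} [Group H] [Finite H] {ρ : H →* Module.End (ZMod p) V}

/-- a TI Sylow subgroup of order `r` with at most `r + 1` conjugates and a large `p'`-element in
its normaliser gives a spread -/
theorem spr_of_ti (T : Tr ρ) {K : Subgroup H} [K.Normal] {E : Subgroup K} (pE : IsPGroup p E)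
    (E1 : E ≠ ⊥) (ti : ∀ P : Subgroup K, IsPGroup p P → ∀ x ∈ P, x ∈ E → x ≠ 1 → P ≤ E)
    {ι : Type*} [Finite ι] (g : ι → K) (hι : Nat.card ι ≤ Nat.card E + 1)
    (cov : ∀ x : K, x ^ p = 1 → ∃ i, g i * x * (g i)⁻¹ ∈ E) {y : K}
    (hy : y ∈ normalizer (E : Set K)) (cop : ¬ p ∣ orderOf y)
    (big : ∀ w, 0 < w → orderOf y ∣ p ^ w - 1 → Nat.card E ≤ p ^ w) :
    ∃ W, Spr ρ W (E.map K.subtype) := by
  haveI := T.nt
  have S := stStar p V H ρ K T inferInstance
  set σ := ρ.comp K.subtype with hσ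
  obtain ⟨x, hx⟩ := exists_prime_orderOf_dvd_card' (G := E) p (by
    rcases pE.card_eq_or_dvd with h | h
    · exact absurd (eq_bot_of_card_eq _ h) E1
    · exact h)
  have xE := x.2
  rw [← orderOf_coe] at hx
  generalize (x : K) = x at xE hx
  have x1 : x ≠ 1 := fun e => hp.out.one_lt.ne (by rw [← hx, e, orderOf_one])
  have xp : x ^ p = 1 := orderOf_dvd_iff_pow_eq_one.1 hx.dvd
  have st : ∀ e ∈ E, e ≠ 1 → ∀ v, v ≠ 0 → σ e v = v → stab σ v = E := by
    intro e he e1 v hv h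
    have h1 := ti _ (stab_pgroup S.free hv) e h he e1
    obtain ⟨P, hP⟩ := S.syl v hv
    have h2 : (P : Subgroup K) ≤ stab σ v := hP
    exact le_antisymm h1 ((P.is_maximal' pE (h2.trans h1)).le.trans h2)
  have fix : ∀ e ∈ E, ∀ w ∈ ax σ x, σ e w = w := fun e he w hw => by
    by_cases w0 : w = 0
    · rw [w0, map_zero]
    · exact (st x xE x1 w w0 ((mem_ax σ).1 hw)).ge he
  have reg : ∀ e ∈ E, e ≠ 1 → ∀ v, σ e v = v → v ∈ ax σ x := fun e he e1 v h => by
    by_cases v0 : v = 0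
    · rw [v0]; exact zero_mem _
    · exact (mem_ax σ).2 ((st e he e1 v v0 h).ge xE)
  have c1 : Nat.card {v : V // v ≠ 0} ≤ Nat.card (ι × {w : ax σ x // w ≠ 0}) := by
    refine Nat.card_le_card_of_surjective (fun z => ⟨σ (g z.1)⁻¹ z.2.1,
      rho_ne σ _ fun e => z.2.2 (Subtype.ext e)⟩) fun v => ?_
    obtain ⟨P, hP⟩ := S.syl v v.2
    obtain ⟨Q, hQ⟩ := pE.exists_le_sylow
    obtain ⟨k, hk⟩ := MulAction.exists_smul_eq K Q P
    have h1 : k * x * k⁻¹ ∈ (P : Subgroup K) := by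
      rw [← hk]
      exact smul_mem_pointwise_smul _ (MulAut.conj k) _ (hQ xE)
    obtain ⟨i, hi⟩ := cov (k * x * k⁻¹) (by rw [conj_pow, xp]; group)
    refine ⟨⟨i, ⟨σ (g i) v, reg _ hi (by simpa using x1) _ ?_⟩,
      fun e => rho_ne σ _ v.2 (congrArg Subtype.val e)⟩, Subtype.ext (rho_inv_self σ _ _)⟩
    rw [rho_mul, rho_inv_self, rho_mul, hP _ h1]
  have c2 : Nat.card (ax σ x) ^ 2 ≤ Nat.card V :=
    sq_card_le (u := (x : H)) T.free (pCore_bot T.inj T.trans) fun e => x1 (Subtype.ext e)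
  have yW : y ∈ nrm σ (ax σ x) := fun w hw =>
    reg _ ((mem_normalizer_iff.1 hy x).1 xE) (by simpa using x1) _ (by
      rw [rho_mul, rho_inv_self, rho_mul, (mem_ax σ).1 hw])
  have dv : ∀ U : Submodule (ZMod p) V, y ∈ nrm σ U →
      orderOf y ∣ p ^ finrank (ZMod p) U - 1 := fun U hU => by
    have := S.free.card_dvd (K := zpowers y) (by rwa [Nat.card_zpowers]) U
      fun k hk => zpowers_le.2 hU hk
    rwa [Nat.card_zpowers, Module.natCard_eq_pow_finrank (K := ZMod p) (V := U),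
      Nat.card_zmod] at this
  have cU : ∀ U : Submodule (ZMod p) V, Nat.card U = p ^ finrank (ZMod p) U := fun U => by
    rw [Module.natCard_eq_pow_finrank (K := ZMod p) (V := U), Nat.card_zmod]
  obtain ⟨w₀, w0, hw₀⟩ := exists_fixed_vec σ pE
  have w0W : w₀ ∈ ax σ x := (mem_ax σ).2 (hw₀ x xE)
  haveI : Nontrivial (ax σ x) := ⟨⟨⟨w₀, w0W⟩, 0, fun e => w0 (congrArg Subtype.val e)⟩⟩
  have c3 := big _ finrank_pos (dv _ yW)
  rw [← cU] at c3
  have c4 := card_ne_zero_add V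
  have c5 := card_ne_zero_add (ax σ x)
  have c6 : 1 < Nat.card (ax σ x) := Finite.one_lt_card
  rw [Nat.card_prod] at c1
  have c7 := c1.trans (Nat.mul_le_mul_right _ hι)
  have cE : Nat.card E = Nat.card (ax σ x) := by
    refine le_antisymm c3 ?_
    rw [← c5] at c2 c6 ⊢
    generalize Nat.card {w : ax σ x // w ≠ 0} = n at *
    nlinarith
  have cV : Nat.card V = Nat.card (ax σ x) ^ 2 := by
    refine le_antisymm ?_ c2
    rw [cE] at c7
    rw [← c5] at c7 ⊢
    generalize Nat.card {w : ax σ x // w ≠ 0} = n at *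
    nlinarith
  have hne : ∃ v, v ∉ ax σ x := by
    by_contra h
    push Not at h
    rw [Submodule.eq_top_iff'.2 h, Nat.card_congr Submodule.topEquiv.toEquiv] at cV c6
    nlinarith
  have com : ∀ e ∈ E, ∀ v, σ e v - v ∈ ax σ x := by
    let W₁ : Submodule (ZMod p) V := ⨅ e : E, (ax σ x).comap (σ e - 1)
    have mW : ∀ v, v ∈ W₁ ↔ ∀ e ∈ E, σ e v - v ∈ ax σ x := fun v => by simp [W₁]
    have le : ax σ x ≤ W₁ := fun w hw => (mW w).2 fun e he => by
      rw [fix e he w hw, sub_self]; exact zero_mem _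
    have lt : ax σ x < W₁ := by
      obtain ⟨v, hv⟩ := hne
      let τ := Representation.quotient (σ.comp E.subtype) (ax σ x) fun e w hw => by
        change σ e w ∈ ax σ x
        rwa [fix e e.2 w hw]
      haveI : Finite (V ⧸ ax σ x) := Finite.of_surjective _ (Submodule.Quotient.mk_surjective _)
      obtain ⟨z, -, z0, hz⟩ := exists_fixed (ρ := τ) (K := ⊤) (U := ⊤) (pE.to_subgroup ⊤)
        (fun _ _ _ _ => trivial) ⟨Submodule.Quotient.mk v, trivial,
          fun e => hv ((Submodule.Quotient.mk_eq_zero _).1 e)⟩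
      obtain ⟨z, rfl⟩ := Submodule.Quotient.mk_surjective _ z
      refine lt_of_le_of_ne le fun e => z0 ((Submodule.Quotient.mk_eq_zero _).2 ?_)
      rw [e, mW]
      exact fun k hk => (Submodule.Quotient.eq _).1 (hz ⟨k, hk⟩ trivial)
    have y1 : y ∈ nrm σ W₁ := fun v hv => (mW _).2 fun e he => by
      have := yW _ ((mW v).1 hv _ ((mem_normalizer_iff''.1 hy e).1 he))
      rwa [map_sub, rho_mul, rho_mul, rho_self_inv] at this
    obtain ⟨b, hb⟩ := Nat.exists_eq_add_of_lt (Submodule.finrank_lt_finrank_of_lt lt)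
    have d1 := (Nat.modEq_iff_dvd' (Nat.one_le_pow _ _ hp.out.pos)).2 (dv _ yW)
    have d2 := (Nat.modEq_iff_dvd' (Nat.one_le_pow _ _ hp.out.pos)).2 (dv _ y1)
    rw [hb, add_assoc, pow_add] at d2
    have d3 := d2.trans (d1.symm.mul_right _)
    rw [one_mul] at d3
    have d4 := big _ b.succ_pos ((Nat.modEq_iff_dvd' (Nat.one_le_pow _ _ hp.out.pos)).1 d3)
    have : W₁ = ⊤ := by
      refine (Submodule.eq_of_le_of_finrank_le le_top ?_)
      refine (Nat.pow_le_pow_iff_right hp.out.one_lt).1 ?_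
      rw [← cU, Nat.card_congr Submodule.topEquiv.toEquiv, cV, hb, add_assoc, pow_add, ← cU, sq]
      exact Nat.mul_le_mul_left _ (cE ▸ d4)
    exact fun e he v => (mW v).1 (this ▸ trivial) e he
  refine ⟨ax σ x, T.inj, ?_, ?_, ?_, ?_, cV, fun k w hw w0 h w' hw' => ?_, ?_⟩
  · rintro _ ⟨e, he, rfl⟩; exact fix e he
  · rintro _ ⟨e, he, rfl⟩; exact com e he
  · rintro _ ⟨e, he, rfl⟩ v h
    exact or_iff_not_imp_left.2 fun e1 => reg e he (fun e2 => e1 (by simp [e2])) v h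
  · rw [← cE, card_map_of_injective K.subtype_injective]
  · have hm : k⁻¹ * x * k ∈ K := Normal.conj_mem' inferInstance _ x.2 k
    have h1 : (⟨_, hm⟩ : K) ∈ E := (st x xE x1 w w0 ((mem_ax σ).1 hw)).le (by
      change ρ (k⁻¹ * x * k) w = w
      rw [rho_mul, rho_mul, show ρ x (ρ k w) = ρ k w from (mem_ax σ).1 h, rho_inv_self])
    have h2 : ρ (k⁻¹ * x * k) w' = w' := fix _ h1 w' hw'
    rw [rho_mul, rho_mul] at h2
    refine (mem_ax σ).2 ?_
    have := congrArg (ρ k) h2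
    rwa [rho_self_inv] at this
  · obtain ⟨v, hv⟩ := hne
    obtain ⟨k, hk⟩ := T.trans w₀ v w0 fun e => hv (e ▸ zero_mem _)
    exact ⟨k, w₀, w0W, hk ▸ hv⟩

end

theorem mk_eq_one {F : Type*} [Field F] (A : SL(2, F)) :
    QuotientGroup.mk' (center SL(2, F)) A = 1 ↔ A = 1 ∨ A = -1 := by
  rw [QuotientGroup.mk'_apply, QuotientGroup.eq_one_iff, Matrix.SpecialLinearGroup.mem_center_iff]
  refine ⟨fun ⟨r, hr, e⟩ => ?_, ?_⟩
  · rw [Fintype.card_fin, sq, mul_self_eq_one_iff] at hr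
    rcases hr with rfl | rfl
    · exact Or.inl (Subtype.ext (by simpa using e.symm))
    · exact Or.inr (Subtype.ext (e.symm.trans (by rw [map_neg]; simp)))
  · rintro (rfl | rfl)
    · exact ⟨1, by simp, by simp⟩
    · exact ⟨-1, by simp, by rw [map_neg]; simp⟩

open Cfsg.GW.L2 in
theorem stE3 : StE3.{u} := by
  intro V _ _ _ H _ _ ρ K F _ _ _ Tρ C ⟨e⟩
  classical
  haveI := C.normal
  let π := QuotientGroup.mk' (center SL(2, F))
  have hk : ∀ A, π A = 1 ↔ A = 1 ∨ A = -1 := mk_eq_one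
  have sπ : Function.Surjective π := QuotientGroup.mk'_surjective _
  let ψ : K →* SL(2, F) ⧸ center SL(2, F) := e.toMonoidHom.comp (QuotientGroup.mk' _)
  have sψ : Function.Surjective ψ := e.surjective.comp (QuotientGroup.mk'_surjective _)
  have kψ : ∀ z, ψ z = 1 → z ∈ center K := fun z h =>
    (QuotientGroup.eq_one_iff z).1 (e.map_eq_one_iff.1 h)
  clear_value π ψ
  have h3 : (3 : F) = 0 := by exact_mod_cast CharP.cast_eq_zero F 3
  have h2 : (2 : F) ≠ 0 := fun h => one_ne_zero (α := F) (by linear_combination h3 - h)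
  have up : ∀ {x : K} {k : ℕ} (l : ℕ), x ^ 3 ^ k = 1 → x ^ 3 ^ (k + l) = 1 := fun l h => by
    rw [pow_add, pow_mul, h, one_pow]
  have inj3 : ∀ x x' : K, (∃ k, x ^ 3 ^ k = 1) → (∃ k, x' ^ 3 ^ k = 1) → ψ x = ψ x' → x = x' := by
    rintro x x' ⟨k, h⟩ ⟨l, h'⟩ e
    have hz := kψ (x * x'⁻¹) (by rw [map_mul, map_inv, e, mul_inv_cancel])
    have h1 : (x * x'⁻¹ * x') ^ 3 ^ (k + l) = 1 := by rw [inv_mul_cancel_right]; exact up l h
    rw [Commute.mul_pow (mem_center_iff.1 hz x').symm, add_comm, up k h', mul_one] at h1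
    obtain ⟨j, hj⟩ : Odd (3 ^ (l + k)) := Odd.pow (by decide)
    rw [hj, pow_succ, pow_mul, sq, C.sq _ hz, one_pow, one_mul, mul_inv_eq_one] at h1
    exact h1
  have cj : ∀ x y : K, (∃ k, y ^ 3 ^ k = 1) → ∃ k, (x * y * x⁻¹) ^ 3 ^ k = 1 :=
    fun x y ⟨k, h⟩ => ⟨k, by rw [conj_pow, h]; group⟩
  let E : Subgroup K :=
    { carrier := {x | (∃ k, x ^ 3 ^ k = 1) ∧ ∃ a, ψ x = π (U a)}
      one_mem' := ⟨⟨0, by simp⟩, 0, by rw [U_zero, map_one, map_one]⟩
      mul_mem' := by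
        rintro x y ⟨⟨k, hx⟩, a, ha⟩ ⟨⟨l, hy⟩, b, hb⟩
        have : x * y * x⁻¹ = y := inj3 _ _ (cj x y ⟨l, hy⟩) ⟨l, hy⟩ (by
          rw [map_mul, map_mul, map_inv, ha, hb, mul_inv_eq_iff_eq_mul, ← map_mul, ← map_mul,
            U_add, U_add, add_comm])
        refine ⟨⟨k + l, ?_⟩, a + b, by rw [map_mul, ha, hb, ← map_mul, U_add]⟩
        rw [Commute.mul_pow (mul_inv_eq_iff_eq_mul.1 this), up l hx, add_comm, up k hy, mul_one]
      inv_mem' := by
        rintro x ⟨⟨k, hx⟩, a, ha⟩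
        exact ⟨⟨k, by rw [inv_pow, hx, inv_one]⟩, -a, by rw [map_inv, ha, ← map_inv, U_inv]⟩ }
  have mE : ∀ x, x ∈ E ↔ (∃ k, x ^ 3 ^ k = 1) ∧ ∃ a, ψ x = π (U a) := fun x => Iff.rfl
  have pE : IsPGroup 3 E := fun x => x.2.1.imp fun k h => Subtype.ext h
  have lift : ∀ a, ∃ x ∈ E, ψ x = π (U a) := fun a => by
    obtain ⟨y, hy⟩ := sψ (π (U a))
    have h1 : ψ (y ^ 4) = π (U a) := by
      rw [map_pow, hy, ← map_pow, U_pow]; congr 2; linear_combination a * h3
    refine ⟨y ^ 4, ⟨⟨1, ?_⟩, a, h1⟩, h1⟩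
    have := C.sq _ (kψ (y ^ 3) (by
      rw [map_pow, hy, ← map_pow, U_pow, Nat.cast_ofNat, h3, zero_mul, U_zero, map_one]))
    rw [← pow_add] at this
    rw [← pow_mul, show 4 * 3 ^ 1 = (3 + 3) * 2 from rfl, pow_mul, this, one_pow]
  have cE : Nat.card E = Fintype.card F := by
    rw [← Nat.card_eq_fintype_card]
    refine Nat.card_eq_of_bijective (fun x : E => x.2.2.choose) ⟨fun x y h => ?_, fun a => ?_⟩
    · refine Subtype.ext (inj3 _ _ x.2.1 y.2.1 ?_)
      rw [x.2.2.choose_spec, y.2.2.choose_spec]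
      exact congrArg (fun a => π (U a)) h
    · obtain ⟨x, hx, h⟩ := lift a
      exact ⟨⟨x, hx⟩, U_inj hk h2 (hx.2.choose_spec.symm.trans h)⟩
  have nz : ∀ x : K, (∃ k, x ^ 3 ^ k = 1) → x ≠ 1 → ∀ a, ψ x = π (U a) → a ≠ 0 :=
    fun x hx x1 a ha a0 => x1 (inj3 _ _ hx ⟨0, by simp⟩ (by rw [ha, a0, U_zero, map_one, map_one]))
  have cm : ∀ x y : K, y * x = x * y → ∀ a, a ≠ 0 → ψ x = π (U a) → ∃ b, ψ y = π (U b) :=
    fun x y h a a0 ha => by
      obtain ⟨B, hB⟩ := sπ (ψ y)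
      rw [← hB]
      exact comm_U hk h2 a0 (by rw [hB, ← ha, ← map_mul, ← map_mul, h])
  choose L hL using sψ
  obtain ⟨ζ, hζ⟩ := IsCyclic.exists_ofOrder_eq_natCard (α := Fˣ)
  let D : Fˣ →* SL(2, F) := MonoidHom.mk' (fun a => mobMk (a : F) 0 0 ((a⁻¹ : Fˣ) : F) (by simp))
    fun a b => by simp [ext2, mul2, mul_comm]
  have hD : ∀ a : F, D ζ * U a * (D ζ)⁻¹ = U ((ζ : F) ^ 2 * a) := fun a => by
    rw [mul_inv_eq_iff_eq_mul]
    simp [D, ext2, mul2, U, sq, mul_right_comm _ a]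
  obtain ⟨n, -, hn⟩ := FiniteField.card F 3
  have hr : Fintype.card F - 1 = orderOf ζ := by rw [hζ, Nat.card_units, Nat.card_eq_fintype_card]
  obtain ⟨W, hW⟩ := spr_of_ti Tρ pE (fun h => by
      have := Fintype.one_lt_card (α := F)
      rw [← cE, h, card_bot] at this; omega)
    (fun P hP x hx xE x1 y hy => by
      have p3 : ∀ y ∈ P, ∃ k, y ^ 3 ^ k = 1 := fun y hy =>
        (hP ⟨y, hy⟩).imp fun k h => congrArg Subtype.val h
      haveI : Nontrivial P := ⟨⟨⟨x, hx⟩, 1, fun e => x1 (congrArg Subtype.val e)⟩⟩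
      obtain ⟨⟨z, hz⟩, z1⟩ := (nontrivial_iff_exists_ne 1).1 hP.center_nontrivial
      have hc : ∀ y ∈ P, y * z = z * y := fun y hy =>
        congrArg Subtype.val (mem_center_iff.1 hz ⟨y, hy⟩)
      obtain ⟨a, ha⟩ := xE.2
      obtain ⟨b, hb⟩ := cm x z (hc x hx).symm a (nz x xE.1 x1 a ha) ha
      exact ⟨p3 y hy, cm z y (hc y hy) b (nz z (p3 z z.2)
        (fun e => z1 (Subtype.ext (Subtype.ext e))) b hb) hb⟩)
    (fun i : Option F => i.elim 1 fun s => L (π (T F * U s)))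
    (by rw [Finite.card_option, cE, Nat.card_eq_fintype_card])
    (fun x hx => by
      obtain ⟨B, hB⟩ := sπ (ψ x)
      obtain ⟨B', h1, h2⟩ := unip hk (p := 3) (B := B) (by decide) (by rw [hB, ← map_pow, hx, map_one])
      have x3 : ∃ k, x ^ 3 ^ k = 1 := ⟨1, hx⟩
      by_cases h0 : B' 1 0 = 0
      · exact ⟨none, cj _ _ x3, _, by simpa [← hB, ← h1] using congrArg π (eq_U h2 h0)⟩
      · obtain ⟨s, hs⟩ := conj_Lo h2 h0
        refine ⟨some s, cj _ _ x3, -B' 1 0, ?_⟩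
        rw [← T_Lo, ← hs]
        simp only [Option.elim, map_mul, map_inv, hL, ← hB, ← h1]
        group)
    (y := L (π (D ζ))) (mem_normalizer_fintype fun x hx => by
      obtain ⟨a, ha⟩ := hx.2
      exact ⟨cj _ _ hx.1, _, by
        rw [map_mul, map_mul, map_inv, hL, ha, ← map_mul, ← map_inv, ← map_mul, hD]⟩)
    (fun hd => by
      have h1 := C.sq _ (kψ (L (π (D ζ)) ^ orderOf ζ) (by
        rw [map_pow, hL, ← map_pow, ← map_pow, pow_orderOf_eq_one, map_one, map_one]))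
      rw [← pow_add, ← orderOf_dvd_iff_pow_eq_one, ← hr, hn] at h1
      have h4 : 3 ∣ 3 ^ (n : ℕ) := dvd_pow_self 3 n.ne_zero
      have h5 := hd.trans h1
      have h6 : 0 < 3 ^ (n : ℕ) := by positivity
      omega)
    (fun w w0 hd => by
      have h1 : π (D (ζ ^ orderOf (L (π (D ζ))))) = 1 := by
        rw [map_pow, map_pow, ← hL (π (D ζ)), ← map_pow, hL, pow_orderOf_eq_one, map_one]
      generalize hm : orderOf (L (π (D ζ))) = m at *
      have m0 : 0 < m := hm ▸ orderOf_pos _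
      have h4 : ζ ^ (m * 2) = 1 := by
        rw [pow_mul]
        generalize ζ ^ m = a at h1
        apply Units.ext
        rcases (hk _).1 h1 with h | h
        · have : (a : F) = 1 := (ext2.1 h).1
          simp [this]
        · have : (a : F) = -1 := (ext2.1 h).1.trans (by simp [neg2])
          simp [this]
      have h5 := Nat.le_of_dvd (by omega) (orderOf_dvd_of_pow_eq_one h4)
      have h7 : 1 < 3 ^ w := Nat.one_lt_pow w0.ne' (by norm_num)
      have h6 := Nat.le_of_dvd (by omega) hd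
      rw [← hr, hn] at h5
      rw [cE, hn]
      refine Nat.pow_le_pow_right (by norm_num) (Nat.lt_succ_iff.1
        ((Nat.pow_lt_pow_iff_right (by norm_num : 1 < 3)).1 ?_))
      rw [pow_succ]
      omega)
  exact c1_of_spr' hW Tρ.free (by norm_num)

end Cfsg.G41
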