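import Cfsg.Agent.G41.Gam
import Cfsg.Agent.G41.Struct

/-! S4841, `p = 3`: `A₇` does not occur. -/

set_option autoImplicit false
set_option linter.style.haveILetI false

namespace Cfsg.G41

open Subgroup Module

universe u

theorem stE7 : StE7.{u} := by
  rintro V _ _ _ H _ _ ρ K T hK ⟨e⟩
  haveI := hK.normal
  haveI := T.nt
  have h1 : Nat.card (K ⧸ center K) = 2520 := by
    rw [Nat.card_congr e.toEquiv, nat_card_alternatingGroup, Nat.card_fin]; rfl
  have h2 := card_eq_card_quotient_mul_card_subgroup (center K)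
  obtain ⟨k, hk⟩ := IsPGroup.iff_card.1 (show IsPGroup 2 (center K) from fun z =>
    ⟨1, Subtype.ext (by simpa [pow_two] using hK.sq z z.2)⟩)
  rw [h1, hk] at h2
  have cV : Nat.card V = 3 ^ finrank (ZMod 3) V := by
    rw [Module.natCard_eq_pow_finrank (K := ZMod 3), Nat.card_zmod]
  have key : ∀ s : ℕ, s.Prime → s ≠ 3 → s ∣ 2520 → s ∣ 3 ^ finrank (ZMod 3) V - 1 := by
    intro s hs s3 hd
    haveI := Fact.mk hs
    obtain ⟨x, hx⟩ := exists_prime_orderOf_dvd_card' (G := K) s (h2 ▸ hd.mul_right _)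
    have := (T.free.sub K).card_dvd (K := zpowers x) (by
      rw [Nat.card_zpowers, hx]
      exact fun h => s3 ((Nat.prime_dvd_prime_iff_eq Nat.prime_three hs).1 h).symm) ⊤
      fun _ _ _ _ => trivial
    rwa [Nat.card_zpowers, hx, Nat.card_congr Submodule.topEquiv.toEquiv, cV] at this
  have n0 : 0 < finrank (ZMod 3) V := finrank_pos
  have h12 : 12 ∣ finrank (ZMod 3) V := by
    have h5 := key 5 (by norm_num) (by norm_num) (by norm_num)
    have h7 := key 7 (by norm_num) (by norm_num) (by norm_num)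
    generalize finrank (ZMod 3) V = n at h5 h7
    have e1 : 3 ^ n ≡ 3 ^ (n % 12) [MOD 35] := by
      conv_lhs => rw [← Nat.div_add_mod n 12, pow_add, pow_mul]
      simpa using ((show 3 ^ 12 ≡ 1 [MOD 35] by decide).pow (n / 12)).mul_right (3 ^ (n % 12))
    have e2 : 1 ≡ 3 ^ n [MOD 35] := (Nat.modEq_iff_dvd' (Nat.one_le_pow _ _ (by norm_num))).2
      (Nat.Coprime.mul_dvd_of_dvd_of_dvd (by norm_num : Nat.Coprime 5 7) h5 h7)
    have e3 := e2.trans e1
    have : n % 12 < 12 := Nat.mod_lt _ (by norm_num)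
    apply Nat.dvd_of_mod_eq_zero
    generalize n % 12 = r at e3 this
    interval_cases r <;> first | rfl | exact absurd e3 (by decide)
  obtain ⟨s, -, hs, s1, s2, -, s3, -⟩ := T.zsig le_rfl (by omega)
  have h4 := T.zsig_dvd hs s1 s2 (K := K) (h2 ▸ Dvd.dvd.mul_right (by norm_num) _)
  have h5 := Nat.le_of_dvd (by have := hs.two_le; omega) (h12.trans s3)
  rw [h2, show 2520 = 2 ^ 3 * 3 ^ 2 * 5 * 7 by norm_num] at h4
  simp only [hs.dvd_mul] at h4
  rcases h4 with (((h | h) | h) | h) | h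
  all_goals first
    | have := Nat.le_of_dvd (by norm_num) (hs.dvd_of_dvd_pow h); omega
    | have := Nat.le_of_dvd (by norm_num) h; omega

end Cfsg.G41
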