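import Cfsg.Agent.G41.P2MXa

/-! `p = 2`: the section `N(D) / D` of a maximal Sylow intersection (`StMX`). -/

set_option autoImplicit false

namespace Cfsg.G41.P2.MX

open Subgroup
open scoped commutatorElement Pointwise

universe u

variable {V : Type} [AddCommGroup V] [Module (ZMod 2) V] [Finite V] {L : Type u} [Group L]
  [Finite L] {ρ : L →* Module.End (ZMod 2) V} {S : Sylow 2 L} {D : Subgroup L}

abbrev Nn (D : Subgroup L) : Subgroup L := normalizer (D : Set L)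
abbrev Kn (ρ : L →* Module.End (ZMod 2) V) (D : Subgroup L) : Subgroup (Nn D) :=
  (res ρ (Nn D) (fx ρ D) (normalizer_le_st D)).ker
abbrev sg (ρ : L →* Module.End (ZMod 2) V) (D : Subgroup L) :
    Nn D ⧸ Kn ρ D →* Module.End (ZMod 2) (fx ρ D) :=
  sec ρ (Nn D) (fx ρ D) (normalizer_le_st D)
abbrev pr (ρ : L →* Module.End (ZMod 2) V) (D : Subgroup L) : Nn D →* Nn D ⧸ Kn ρ D :=
  QuotientGroup.mk' _

omit [Finite V] [Finite L] in
theorem pr_surj : Function.Surjective (pr ρ D) := QuotientGroup.mk'_surjective _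

omit [Finite V] [Finite L] in
theorem sg_pr (n : Nn D) (y : fx ρ D) : (sg ρ D (pr ρ D n) y : V) = ρ n y := rfl

omit [Finite L] in
theorem pr_one (T : Star ρ) (h : MaxI S D) (n : Nn D) : pr ρ D n = 1 ↔ (n : L) ∈ D :=
  (sec_eq_one _).trans (by rw [pw_eq T h])

omit [Finite L] in
theorem Y_ne (T : Star ρ) (h : MaxI S D) : fx ρ D ≠ ⊥ :=
  have := T.nt
  fx_ne_bot (pgrp h)

theorem star_sg (T : Star ρ) (h : MaxI S D) : Star (sg ρ D) :=
  sec_star _ T.free (Y_ne T h) fun y hy y0 => by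
    obtain ⟨P, hP⟩ := stab_syl T y0
    obtain ⟨n, hn, rfl⟩ := conj h P fun d hd => (hP d).2 (hy d hd)
    obtain ⟨Q, hQ⟩ := exists_syl h
    refine ⟨(⟨n, hn⟩ : Nn D) • Q, fun g hg => (hP g).1 (mem_smul.2 ?_)⟩
    have h1 := mem_smul.1 hg
    rwa [hQ] at h1

theorem base_sg (T : Star ρ) (B : Base ρ) (h : MaxI S D) : Base (sg ρ D) :=
  sec_base _ T.free (Y_ne T h) B.cyc ((star_sg T h).eq_bot (isPGroup_pCore 2 _))

theorem exists_sb (T : Star ρ) (h : MaxI S D) : ∃ Sb : Sylow 2 (Nn D ⧸ Kn ρ D),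
    ∀ n : Nn D, pr ρ D n ∈ (Sb : Subgroup _) ↔ (n : L) ∈ (S : Subgroup L) := by
  obtain ⟨Q, hQ⟩ := exists_syl h
  refine ⟨Q.mapSurjective pr_surj, fun n => ⟨?_, fun hn => ⟨n, by rwa [hQ], rfl⟩⟩⟩
  rintro ⟨q, hq, e⟩
  rw [hQ] at hq
  have h1 : ((q⁻¹ * n : Nn D) : L) ∈ D := (pr_one T h _).1 (by rw [map_mul, map_inv, e, inv_mul_cancel])
  have h2 : (q : L) ∈ (S : Subgroup L) := hq
  simpa using mul_mem h2 (le h h1)

theorem conj_one {G : Type*} [Group G] (a x : G) : x⁻¹ * a * x = 1 ↔ a = 1 := by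
  rw [mul_assoc, inv_mul_eq_one, right_eq_mul]

variable {Sb : Sylow 2 (Nn D ⧸ Kn ρ D)}

theorem ti_sg (T : Star ρ) (h : MaxI S D)
    (hSb : ∀ n : Nn D, pr ρ D n ∈ (Sb : Subgroup _) ↔ (n : L) ∈ (S : Subgroup L)) :
    TI (Nn D ⧸ Kn ρ D) := by
  have key : ∀ x : Nn D ⧸ Kn ρ D, x • Sb ≠ Sb → ∀ a ∈ (Sb : Subgroup _),
      a ∈ ((x • Sb : Sylow 2 _) : Subgroup (Nn D ⧸ Kn ρ D)) → a = 1 := by
    intro x hx a h1 h2
    obtain ⟨x, rfl⟩ := pr_surj x
    obtain ⟨a, rfl⟩ := pr_surj a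
    by_contra a1
    have h3 : ∀ n : Nn D, pr ρ D n ∈ ((pr ρ D x • Sb : Sylow 2 _) : Subgroup (Nn D ⧸ Kn ρ D)) ↔
        (n : L) ∈ (((x : L) • S : Sylow 2 L) : Subgroup L) := fun n => by
      rw [mem_smul, mem_smul, ← map_inv, ← map_mul, ← map_mul, hSb]; rfl
    have h4 : (x : L) • S = S := eq_of_mem h (fun d hd => mem_smul.2 (le h (by
      simpa using (mem_normalizer_iff.1 (inv_mem x.2) d).1 hd))) ((hSb a).1 h1) ((h3 a).1 h2)
      (mt (pr_one T h a).2 a1)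
    refine hx (Sylow.ext (Subgroup.ext fun n => ?_))
    obtain ⟨n, rfl⟩ := pr_surj n
    rw [h3, h4, hSb]
  intro P Q hPQ
  obtain ⟨x, rfl⟩ := MulAction.exists_smul_eq (Nn D ⧸ Kn ρ D) Sb P
  obtain ⟨y, rfl⟩ := MulAction.exists_smul_eq (Nn D ⧸ Kn ρ D) Sb Q
  refine eq_bot_iff.2 fun a ha => ?_
  have h1 := key (x⁻¹ * y) (fun e => hPQ (by
    rw [mul_smul, inv_smul_eq_iff] at e; exact e.symm))
    _ (mem_smul.1 ha.1) (mem_smul.2 (by simpa [mul_assoc] using mem_smul.1 ha.2))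
  exact mem_bot.2 ((conj_one a x).1 h1)

theorem sb_ne (T : Star ρ) (h : MaxI S D)
    (hSb : ∀ n : Nn D, pr ρ D n ∈ (Sb : Subgroup _) ↔ (n : L) ∈ (S : Subgroup L)) :
    (Sb : Subgroup (Nn D ⧸ Kn ρ D)) ≠ ⊥ := fun e => by
  obtain ⟨u, h1, h2, h3⟩ := exists_norm h (le h)
  exact h3 ((pr_one T h ⟨u, h2⟩).1 (mem_bot.1 (e ▸ (hSb ⟨u, h2⟩).2 h1)))

omit [Finite V] in
theorem mem_wb (T : Star ρ) (h : MaxI S D)
    (hSb : ∀ n : Nn D, pr ρ D n ∈ (Sb : Subgroup _) ↔ (n : L) ∈ (S : Subgroup L)) (y : fx ρ D) :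
    y ∈ fx (sg ρ D) Sb ↔ (y : V) ∈ fx ρ S := by
  refine ⟨fun hy => ?_, fun hy a ha => ?_⟩
  · obtain ⟨u, h1, h2, h3⟩ := exists_norm h (le h)
    exact fix T h h1 h3 y.2 (congrArg Subtype.val (hy _ ((hSb ⟨u, h2⟩).2 h1)))
  · obtain ⟨a, rfl⟩ := pr_surj a
    exact Subtype.ext (hy _ ((hSb a).1 ha))

omit [Finite V] in
theorem card_wb (T : Star ρ) (h : MaxI S D)
    (hSb : ∀ n : Nn D, pr ρ D n ∈ (Sb : Subgroup _) ↔ (n : L) ∈ (S : Subgroup L)) :
    Nat.card (fx (sg ρ D) Sb) = Nat.card (fx ρ S) := by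
  rw [show fx (sg ρ D) Sb = (fx ρ S).comap (fx ρ D).subtype from Submodule.ext (mem_wb T h hSb)]
  exact Nat.card_congr (Submodule.comapSubtypeEquivOfLe (fx_anti (le h))).toEquiv

theorem mem_stb (T : Star ρ) (h : MaxI S D)
    (hSb : ∀ n : Nn D, pr ρ D n ∈ (Sb : Subgroup _) ↔ (n : L) ∈ (S : Subgroup L)) (n : Nn D) :
    pr ρ D n ∈ st (sg ρ D) (fx (sg ρ D) Sb) ↔
      (n : L) ∈ normalizer ((S : Subgroup L) : Set L) := by
  rw [← st_fx_syl T S]
  refine ⟨fun hn => mem_st_of_le fun w hw => ?_, fun hn y => ?_⟩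
  · exact (mem_wb T h hSb _).1 ((hn ⟨w, fx_anti (le h) hw⟩).2 ((mem_wb T h hSb _).2 hw))
  · rw [mem_wb T h hSb, mem_wb T h hSb]; exact hn y

omit [Finite V] in
theorem el_of_invol (hp : pw (sg ρ D) (fx (sg ρ D) Sb) = Sb) {j : Nn D ⧸ Kn ρ D} (j1 : j ≠ 1)
    (hj : j * j = 1) : El (sg ρ D) (fx (sg ρ D) Sb) j := by
  have h1 : IsPGroup 2 (zpowers j) := IsPGroup.of_card (n := 1) (by
    rw [Nat.card_zpowers, pow_one]; exact orderOf_eq_prime (by rw [sq, hj]) j1)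
  obtain ⟨P, hP⟩ := h1.exists_le_sylow
  obtain ⟨x, rfl⟩ := MulAction.exists_smul_eq (Nn D ⧸ Kn ρ D) Sb P
  exact ⟨_, hp.ge <| mem_smul.1 (hP (mem_zpowers j)), mt (conj_one j x).1 j1,
    isConj_iff.2 ⟨x, by group⟩⟩

omit [Finite L] in
theorem card_sb (T : Star ρ) (h : MaxI S D)
    (hSb : ∀ n : Nn D, pr ρ D n ∈ (Sb : Subgroup _) ↔ (n : L) ∈ (S : Subgroup L)) :
    D.relIndex ((S : Subgroup L) ⊓ normalizer (D : Set L)) = Nat.card Sb := by
  have h1 : (Sb : Subgroup (Nn D ⧸ Kn ρ D)) = ((S : Subgroup L).subgroupOf (Nn D)).map (pr ρ D) :=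
    Subgroup.ext fun x => by
      obtain ⟨x, rfl⟩ := pr_surj x
      exact ⟨fun hx => ⟨x, (hSb x).1 hx, rfl⟩, fun ⟨y, hy, e⟩ => e ▸ (hSb y).2 hy⟩
  have h2 : (pr ρ D).ker = D.subgroupOf (Nn D) := Subgroup.ext (pr_one T h)
  change _ = Nat.card (Sb : Subgroup (Nn D ⧸ Kn ρ D))
  rw [h1, ← relIndex_ker, h2, ← inf_subgroupOf_right (S : Subgroup L),
    relIndex_subgroupOf inf_le_right]

omit [Finite V] in
theorem conj_mem_zpowers {G : Type u} [Group G] [Finite G] {r : ℕ} [hr : Fact r.Prime]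
    (hc : ∀ P : Sylow r G, IsCyclic P) {x y : G} (hx : orderOf x = r) (hy : orderOf y = r) :
    ∃ c, c * y * c⁻¹ ∈ zpowers x := by
  have e1 : ∀ y : G, orderOf y = r → IsPGroup r (zpowers y) := fun y hy =>
    IsPGroup.of_card (n := 1) (by rw [Nat.card_zpowers, pow_one, hy])
  obtain ⟨R, hR⟩ := (e1 x hx).exists_le_sylow
  obtain ⟨R', hR'⟩ := (e1 y hy).exists_le_sylow
  obtain ⟨c, rfl⟩ := MulAction.exists_smul_eq G R' R
  exact ⟨c, mem_zpowers_of_pow_prime_eq_one (c • R').2 (hc _) (hR (mem_zpowers x))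
    (fun e => hr.out.one_lt.ne' (by rw [← hx, e, orderOf_one])) ⟨_, hR' (mem_zpowers _), rfl⟩
    (by rw [conj_pow, ← hy, pow_orderOf_eq_one]; simp)⟩

omit [Finite L] in
/-- transitivity of `N(S) ∩ N(D)` on `W#` -/
theorem norm_le_sup (T : Star ρ) {A : Subgroup L} (hA : A ≤ normalizer ((S : Subgroup L) : Set L))
    (hi : (S : Subgroup L).relIndex A = Nat.card (fx ρ S) - 1) :
    normalizer ((S : Subgroup L) : Set L) ≤ (S : Subgroup L) ⊔ A := by
  intro g hg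
  obtain ⟨w, hw, w0⟩ := exists_fx T S
  let _ : MulAction A V := MulAction.compHom V (ρ.comp A.subtype)
  have h1 : MulAction.stabilizer A w = (S : Subgroup L).subgroupOf A := Subgroup.ext fun a =>
    ⟨fun e => mem_of_fix T hw w0 e, fun e => hw _ e⟩
  have h2 : MulAction.orbit A w = (fx ρ S : Set V) \ {0} := by
    refine Set.eq_of_subset_of_ncard_le ?_ ?_
    · rintro _ ⟨a, rfl⟩
      exact ⟨(normalizer_le_st _ (hA a.2) w).2 hw, rho_ne ρ a w0⟩
    · rw [← MulAction.index_stabilizer, h1, Set.ncard_sdiff_singleton_of_mem (zero_mem _)]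
      exact hi.ge
  obtain ⟨a, ha⟩ : ρ g w ∈ MulAction.orbit A w :=
    h2 ▸ ⟨(normalizer_le_st _ hg w).2 hw, rho_ne ρ g w0⟩
  have h3 : (a : L)⁻¹ * g ∈ (S : Subgroup L) := mem_of_fix T hw w0 (by
    rw [rho_mul, ← ha]; exact rho_inv_self ρ a w)
  simpa using mul_mem (mem_sup_right a.2) (mem_sup_left h3 : _ ∈ (S : Subgroup L) ⊔ A)

theorem loc (hSP : StSP.{u}) (hTI : StTI.{u}) (T : Star ρ) (B : Base ρ) (h : MaxI S D) :
    Loc ρ S D := by
  obtain ⟨Sb, hSb⟩ := exists_sb T h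
  have Bs := base_sg T B h
  obtain ⟨hsp, hpw, hst, hty⟩ := hTI _ _ (sg ρ D) Sb (star_sg T h) Bs (ti_sg T h hSb)
    (sb_ne T h hSb)
  obtain ⟨s1, s2, s3, -⟩ := hSP _ _ (sg ρ D) _ hsp
  have cW := card_wb T h hSb
  have hmem : ∀ u (hu : u ∈ (S : Subgroup L) ⊓ normalizer (D : Set L)),
      pr ρ D ⟨u, hu.2⟩ ∈ pw (sg ρ D) (fx (sg ρ D) Sb) := fun u hu => hpw.ge ((hSb ⟨u, hu.2⟩).2 hu.1)
  have hel : ∀ s (hs : s ∈ normalizer (D : Set L)), s ∉ D → s * s ∈ D →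
      El (sg ρ D) (fx (sg ρ D) Sb) (pr ρ D ⟨s, hs⟩) := fun s hs h1 h2 =>
    el_of_invol hpw (mt (pr_one T h _).1 h1) (by rw [← map_mul]; exact (pr_one T h _).2 h2)
  have hcom : ∀ x (hx : x ∈ normalizer (D : Set L)) s (hs : s ∈ normalizer (D : Set L)),
      ⁅x, s⁆ ∈ D → Commute (pr ρ D ⟨x, hx⟩) (pr ρ D ⟨s, hs⟩) := fun x hx s hs h1 => by
    rw [← commutatorElement_eq_one_iff_commute, ← map_commutatorElement]
    exact (pr_one T h _).2 h1
  have hodd : ∀ x (hx : x ∈ normalizer (D : Set L)), Odd (orderOf x) → x ≠ 1 →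
      pr ρ D ⟨x, hx⟩ ≠ 1 := fun x hx ho x1 e => by
    obtain ⟨k, hk⟩ := pgrp h ⟨x, (pr_one T h _).1 e⟩
    exact x1 (orderOf_eq_one_iff.1 (Nat.eq_one_of_dvd_coprimes
      (Nat.Coprime.pow_left k (Nat.coprime_two_left.2 ho))
      (orderOf_dvd_of_pow_eq_one (congrArg Subtype.val hk)) dvd_rfl))
  have idx : (normalizer ((S : Subgroup L) : Set L)).relIndex (normalizer (D : Set L)) =
      Nat.card (fx ρ S) + 1 := by
    rw [← cW, ← s1, ← index_comap_of_surjective _ (pr_surj (ρ := ρ) (D := D))]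
    exact congrArg index (Subgroup.ext fun n => (mem_stb T h hSb n).symm)
  have himg : ∀ C : Subgroup L, normalizer (D : Set L) ≤ normalizer (C : Set L) →
      ((C.subgroupOf (Nn D)).map (pr ρ D)).Normal := fun C hC =>
    Normal.map (H := C.subgroupOf (Nn D))
      ⟨fun c hc n => (mem_normalizer_iff.1 (hC n.2) c).1 hc⟩ _ pr_surj
  have hsup : ∀ (C : Subgroup L) (n : Nn D), pr ρ D n ∈ (C.subgroupOf (Nn D)).map (pr ρ D) →
      (n : L) ∈ C ⊔ D := by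
    rintro C n ⟨c, hc, e⟩
    have h1 : ((c⁻¹ * n : Nn D) : L) ∈ D :=
      (pr_one T h _).1 (by rw [map_mul, map_inv, e, inv_mul_cancel])
    have h2 : (c : L) ∈ C := hc
    simpa using mul_mem_sup h2 h1
  refine ⟨cW ▸ hsp.cV, pw_eq T h, st_eq T h, syl h, conj h, idx, fun u hu => ?_,
    fun u hu huD y hy e => fix T h hu huD hy e, fun u hu y hy => ?_, fun u hu huD w hw => ?_,
    fun x hx ho x1 s hs s1 s2 s3' s' hs' s4 s5 => ?_, ?_, fun h3 => ?_⟩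
  · have h1 := Bs.sq_one hsp.cV (hmem u hu)
    rw [← map_mul] at h1
    exact (pr_one T h _).1 h1
  · exact (mem_wb T h hSb _).1 (Bs.sub_mem hsp.cV (hmem u hu) ⟨y, hy⟩)
  · obtain ⟨y, hy⟩ := Bs.onto hsp.cV (hmem u hu) (mt (pr_one T h _).1 huD)
      ((mem_wb T h hSb ⟨w, fx_anti (le h) hw⟩).2 hw)
    exact ⟨y, y.2, congrArg Subtype.val hy⟩
  · by_contra s6
    refine s3 (pr ρ D ⟨x, hx⟩) _ _ (ho.of_dvd_nat ((orderOf_map_dvd _ _).trans
      (orderOf_coe (⟨x, hx⟩ : Nn D)).symm.dvd)) (hodd x hx ho x1) (hel s hs s1 s2) ?_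
      (hel s' hs' s6 s4) (hcom x hx s' hs' s5)
    have h1 : pr ρ D ⟨s, hs⟩ * pr ρ D ⟨s, hs⟩ = 1 := by
      rw [← map_mul]; exact (pr_one T h _).2 s2
    have h2 : pr ρ D (⟨s, hs⟩ * ⟨x, hx⟩ * ⟨s, hs⟩⁻¹ * ⟨x, hx⟩) = 1 := (pr_one T h _).2 s3'
    rw [map_mul, map_mul, map_mul, map_inv, inv_eq_of_mul_eq_one_right h1] at h2
    exact eq_inv_of_mul_eq_one_left h2
  · have cS := card_sb T h hSb
    rcases hty with h2 | ⟨h2, h4, h5, h6, h7⟩
    · exact .inl (cS.trans h2)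
    rw [cW] at h2
    have hD : D ≤ (S : Subgroup L) ⊓ normalizer (D : Set L) := le_inf (le h) le_normalizer
    have hi : (S : Subgroup L).relIndex
        (normalizer ((S : Subgroup L) : Set L) ⊓ normalizer (D : Set L)) =
        Nat.card (fx ρ S) - 1 := by
      have a1 : D.relIndex (normalizer (D : Set L)) = Nat.card (Nn D ⧸ Kn ρ D) :=
        congrArg index (Subgroup.ext fun n => by
          rw [mem_subgroupOf, ← pr_one T h n]; exact QuotientGroup.eq_one_iff n)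
      have a2 := relIndex_mul_relIndex D _ _ hD
        (inf_le_inf_right (normalizer (D : Set L)) (le_normalizer (H := (S : Subgroup L))))
      have a3 := relIndex_mul_relIndex D _ _ (hD.trans (inf_le_inf_right (normalizer (D : Set L))
        (le_normalizer (H := (S : Subgroup L))))) inf_le_right
      rw [← a2, a1, h6, inf_relIndex_right, idx, cS, h2, mul_comm (_ + 1),
        Nat.mul_left_inj (Nat.succ_ne_zero _), Nat.mul_right_inj Nat.card_pos.ne'] at a3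
      rw [← a3, ← inf_relIndex_right (S : Subgroup L), ← inf_assoc, inf_eq_left.2 le_normalizer]
    refine .inr ⟨cS.trans h2, h2 ▸ h4, fun s hs s1 s' hs' s2 => ?_,
      hi ▸ relIndex_dvd_card _ _,
      (norm_le_sup T inf_le_left hi).trans (sup_le_sup_left inf_le_right _), fun C h8 h9 => ?_⟩
    · obtain ⟨y, hy, e⟩ := h5 _ ((hSb ⟨s, hs.2⟩).2 hs.1) (mt (pr_one T h _).1 s1) _
        ((hSb ⟨s', hs'.2⟩).2 hs'.1) (mt (pr_one T h _).1 s2)
      obtain ⟨y, rfl⟩ := pr_surj y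
      refine ⟨y, ⟨(mem_stb T h hSb y).1 (hst.ge hy), y.2⟩,
        (pr_one T h (y * ⟨s, hs.2⟩ * y⁻¹ * ⟨s', hs'.2⟩⁻¹)).1 ?_⟩
      rw [map_mul, map_mul, map_mul, map_inv, map_inv, e, mul_inv_cancel]
    · rcases h7 _ (himg C h9) with e | e
      · exact .inl fun c hc => (pr_one T h ⟨c, h8 hc⟩).1 (mem_bot.1 (e.le ⟨⟨c, h8 hc⟩, hc, rfl⟩))
      · exact .inr (le_antisymm (sup_le h8 le_normalizer)
          fun n hn => hsup C ⟨n, hn⟩ (e.ge (mem_top _)))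
  · have : Fact (Nat.Prime 3) := ⟨Nat.prime_three⟩
    obtain ⟨d, hd, ho⟩ := exists_orderOf_eq_prime_of_dvd_card (p := 3)
      (H := normalizer (D : Set L)) (h3.trans (idx ▸ relIndex_dvd_card _ _))
    have d1 : d ≠ 1 := fun e => by rw [e, orderOf_one] at ho; omega
    have ho' : orderOf (pr ρ D ⟨d, hd⟩) = 3 := orderOf_eq_prime (by
      rw [← map_pow, show (⟨d, hd⟩ : Nn D) ^ 3 = 1 from Subtype.ext (ho ▸ pow_orderOf_eq_one d),
        map_one]) (hodd d hd (ho ▸ by decide) d1)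
    refine ⟨d, hd, ho, fun s hs h1 h2 => ?_, fun C h8 h9 ⟨s, hs, h1, h2⟩ => ?_⟩
    · by_contra h4
      obtain ⟨t, ht, t1, hc⟩ := hel s hs h4 h1
      obtain ⟨g, hg⟩ := isConj_iff.1 hc
      have h5 : g⁻¹ * pr ρ D ⟨d, hd⟩ * g ∈ st (sg ρ D) (fx (sg ρ D) Sb) :=
        Bs.mem_st_of_comm hsp.cV ht t1 (by
          have h6 := (hcom d hd s hs h2).eq
          rw [← hg] at h6
          calc _ = g⁻¹ * (pr ρ D ⟨d, hd⟩ * (g * t * g⁻¹)) * g := by group
            _ = _ := by rw [h6]; group)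
      have h6 : Nat.card (zpowers (g⁻¹ * pr ρ D ⟨d, hd⟩ * g)) = 3 := by
        rw [Nat.card_zpowers, ← ho']
        simpa using (MulAut.conj g⁻¹).orderOf_eq (pr ρ D ⟨d, hd⟩)
      have h7 := Bs.free.card_dvd (K := zpowers (g⁻¹ * pr ρ D ⟨d, hd⟩ * g)) (by rw [h6]; decide)
        (fx (sg ρ D) Sb) fun k hk u hu => (zpowers_le.2 h5 hk u).2 hu
      rw [h6, cW] at h7
      have h8 : 0 < Nat.card (fx ρ S) := Nat.card_pos
      omega
    · refine hsup C ⟨d, hd⟩ ?_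
      have hn := himg C h9
      set Cb := (C.subgroupOf (Nn D)).map (pr ρ D) with hCb
      obtain ⟨t, ht, t1, hc⟩ := hel s (h8 hs) h1 h2
      have htC : t ∈ Cb := by
        obtain ⟨g, hg⟩ := isConj_iff.1 hc.symm
        exact hg ▸ hn.conj_mem _ ⟨⟨s, h8 hs⟩, hs, rfl⟩ g
      have htop : Cb ⊔ st (sg ρ D) (fx (sg ρ D) Sb) = ⊤ := eq_top_iff.2 fun g _ => by
        by_cases hg : g ∈ st (sg ρ D) (fx (sg ρ D) Sb)
        · exact mem_sup_right hg
        obtain ⟨-, j, hj, hc, e⟩ := s2 g hg t ht t1 t ht t1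
        have hjC : j ∈ Cb := (closure_le _).2 (by
          rintro _ (rfl | rfl)
          · exact htC
          · exact hn.conj_mem _ htC g) hj
        have hjj : j * j = 1 := by
          obtain ⟨c, rfl⟩ := isConj_iff.1 hc
          calc _ = c * (t * t) * c⁻¹ := by group
            _ = 1 := by rw [Bs.sq_one hsp.cV ht]; group
        have h4 : j⁻¹ * g ∈ st (sg ρ D) (fx (sg ρ D) Sb) := Bs.mem_st_of_comm hsp.cV ht t1 (by
          calc _ = j⁻¹ * (g * t * g⁻¹) * g := by group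
            _ = _ := by rw [← e, inv_eq_of_mul_eq_one_right hjj, ← mul_assoc, ← mul_assoc, hjj,
              one_mul, mul_assoc])
        simpa using mul_mem_sup hjC h4
      have h5 : 3 ∣ Nat.card Cb := by
        refine h3.trans ?_
        rw [← cW, ← s1]
        have a1 := (st (sg ρ D) (fx (sg ρ D) Sb)).card_mul_index
        have a2 := Cb.card_mul_index
        rw [← relIndex_top_right (H := Cb), ← htop, relIndex_sup_left] at a2
        obtain ⟨k, hk⟩ := relIndex_dvd_card Cb (st (sg ρ D) (fx (sg ρ D) Sb))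
        have a3 : 0 < Cb.relIndex (st (sg ρ D) (fx (sg ρ D) Sb)) :=
          Nat.pos_of_ne_zero fun e => Nat.card_pos.ne' (by rw [hk, e, zero_mul])
        refine ⟨k, Nat.eq_of_mul_eq_mul_right a3 ?_⟩
        rw [a2, ← a1, hk]; ring
      obtain ⟨e, he, hoe⟩ := exists_orderOf_eq_prime_of_dvd_card h5
      obtain ⟨c, hc⟩ := conj_mem_zpowers (fun P => Bs.cyc _ (by
        obtain ⟨k, hk⟩ := IsPGroup.iff_card.1 P.2
        exact hk ▸ Odd.pow (by decide))) hoe ho'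
      have h6 := hn.mem_comm (zpowers_le.2 he hc)
      rwa [inv_mul_cancel_left] at h6

end Cfsg.G41.P2.MX

namespace Cfsg.G41.P2

universe u

theorem stMX (hSP : StSP.{u}) (hTI : StTI.{u}) : StMX.{u} := fun _ _ _ _ _ _ _ _ _ T B hS =>
  ⟨fun _ h => MX.loc hSP hTI T B h, MX.exists_normal T hS, MX.exists_max⟩

end Cfsg.G41.P2
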