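import Cfsg.Agent.G41.P2Basic
import Cfsg.Agent.G41.Struct
import Cfsg.Agent.G41.Quad

/-! `p = 2`: maximal Sylow intersections, elementary part. -/

set_option autoImplicit false

namespace Cfsg.G41.P2.MX

open Subgroup
open scoped commutatorElement Pointwise

universe u

variable {V : Type} [AddCommGroup V] [Module (ZMod 2) V] [Finite V] {L : Type u} [Group L]
  [Finite L] {ρ : L →* Module.End (ZMod 2) V} {S : Sylow 2 L} {D : Subgroup L}

omit [Finite V] [Finite L] in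
theorem stab_syl (T : Star ρ) {v : V} (hv : v ≠ 0) :
    ∃ P : Sylow 2 L, ∀ g, g ∈ (P : Subgroup L) ↔ ρ g v = v := by
  obtain ⟨P, hP⟩ := T.syl v hv
  have h := P.3 (Qd.stab_pgroup T.free hv) fun g hg => (Qd.mem_stab ρ).2 (hP g hg)
  exact ⟨P, fun g => by rw [← Qd.mem_stab ρ, h]⟩

omit [Finite V] [Finite L] in
theorem mem_of_fix (T : Star ρ) {P : Sylow 2 L} {w : V} (hw : w ∈ fx ρ P) (w0 : w ≠ 0) {g : L}
    (h : ρ g w = w) : g ∈ (P : Subgroup L) := by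
  have h1 := P.3 (Qd.stab_pgroup T.free w0) fun g hg => (Qd.mem_stab ρ).2 (hw g hg)
  rw [← h1]; exact (Qd.mem_stab ρ).2 h

omit [Finite L] in
theorem exists_fx (T : Star ρ) (P : Sylow 2 L) : ∃ w ∈ fx ρ P, w ≠ 0 := by
  have := T.nt
  obtain ⟨w, w0, h⟩ := exists_fixed_vec ρ P.2
  exact ⟨w, h, w0⟩

omit [Finite L] in
theorem pw_fx_syl (T : Star ρ) (P : Sylow 2 L) : pw ρ (fx ρ P) = P := by
  obtain ⟨w, hw, w0⟩ := exists_fx T P
  exact le_antisymm (fun g hg => mem_of_fix T hw w0 (hg w hw)) fun g hg u hu => hu g hg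

omit [Finite V] [Finite L] in
theorem norm_le_st (A : Subgroup L) : normalizer (A : Set L) ≤ st ρ (fx ρ A) := by
  have key : ∀ g ∈ normalizer (A : Set L), ∀ v ∈ fx ρ A, ρ g v ∈ fx ρ A := fun g hg v hv a ha => by
    rw [← rho_mul, show a * g = g * (g⁻¹ * a * g⁻¹⁻¹) by group, rho_mul,
      hv _ ((mem_normalizer_iff.1 (inv_mem hg) a).1 ha)]
  exact fun g hg v => ⟨fun h => by simpa only [rho_inv_self] using key _ (inv_mem hg) _ h,
    key g hg v⟩

omit [Finite V] [Finite L] in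
theorem st_le_norm (U : Submodule (ZMod 2) V) : st ρ U ≤ normalizer (pw ρ U : Set L) := by
  have key : ∀ g ∈ st ρ U, ∀ t ∈ pw ρ U, g * t * g⁻¹ ∈ pw ρ U := fun g hg t ht u hu => by
    rw [rho_mul, rho_mul, ht _ (((st ρ U).inv_mem hg u).2 hu), rho_self_inv]
  exact fun g hg => mem_normalizer_iff.2 fun t => ⟨key g hg t, fun h => by
    simpa [mul_assoc] using key _ (inv_mem hg) _ h⟩

omit [Finite L] in
theorem st_fx_syl (T : Star ρ) (P : Sylow 2 L) :
    st ρ (fx ρ P) = normalizer ((P : Subgroup L) : Set L) :=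
  le_antisymm (by simpa only [pw_fx_syl T P] using st_le_norm (ρ := ρ) (fx ρ P)) (norm_le_st _)

omit [Finite L] in
theorem le (h : MaxI S D) : D ≤ S := by
  obtain ⟨P, -, rfl⟩ := h.ex; exact inf_le_left

omit [Finite L] in
theorem pgrp (h : MaxI S D) : IsPGroup 2 D := S.2.to_le (le h)

omit [Finite L] in
theorem eq_of_mem (h : MaxI S D) {P : Sylow 2 L} (hP : D ≤ P) {u : L} (h1 : u ∈ (S : Subgroup L))
    (h2 : u ∈ (P : Subgroup L)) (h3 : u ∉ D) : P = S := by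
  by_contra hn
  exact h3 (h.max P hn hP ⟨h1, h2⟩)

theorem exists_norm (h : MaxI S D) {P : Sylow 2 L} (hP : D ≤ P) :
    ∃ u ∈ (P : Subgroup L), u ∈ normalizer (D : Set L) ∧ u ∉ D := by
  have hne : D ≠ P := by
    obtain ⟨P', hP', rfl⟩ := h.ex
    intro e
    exact hP' (Sylow.ext ((P.3 P'.2 (e ▸ inf_le_right)).trans
      (P.3 S.2 (e ▸ inf_le_left)).symm))
  have := P.2.isNilpotent
  obtain ⟨u, hu, hn⟩ := SetLike.exists_of_lt (Group.normalizerCondition_of_isNilpotent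
    (D.subgroupOf P) (lt_top_iff_ne_top.2 fun e => hne (le_antisymm hP (subgroupOf_eq_top.1 e))))
  refine ⟨u, u.2, mem_normalizer_fintype fun d hd => ?_, hn⟩
  exact (mem_normalizer_iff.1 hu ⟨d, hP hd⟩).1 hd

omit [Finite L] in
theorem pw_eq (T : Star ρ) (h : MaxI S D) : pw ρ (fx ρ D) = D := by
  refine le_antisymm ?_ fun g hg u hu => hu g hg
  obtain ⟨P, -, rfl⟩ := h.ex
  refine le_inf ?_ ?_
  · conv_rhs => rw [← pw_fx_syl T S]
    exact fun g hg u hu => hg u fun a ha => hu a ha.1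
  · conv_rhs => rw [← pw_fx_syl T P]
    exact fun g hg u hu => hg u fun a ha => hu a ha.2

omit [Finite L] in
theorem st_eq (T : Star ρ) (h : MaxI S D) : st ρ (fx ρ D) = normalizer (D : Set L) :=
  le_antisymm (by simpa only [pw_eq T h] using st_le_norm (ρ := ρ) (fx ρ D)) (norm_le_st _)

/-- `N_S(D)` as a Sylow subgroup of `N(D)` -/
theorem exists_syl (h : MaxI S D) : ∃ Q : Sylow 2 (normalizer (D : Set L)),
    (Q : Subgroup _) = (S : Subgroup L).subgroupOf (normalizer (D : Set L)) := by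
  obtain ⟨Q, hQ⟩ := (S.2.comap_subtype (K := normalizer (D : Set L))).exists_le_sylow
  obtain ⟨P, hP⟩ := (Q.2.map (normalizer (D : Set L)).subtype).exists_le_sylow
  obtain ⟨u, h1, h2, h3⟩ := exists_norm h (le h)
  have h4 : P = S := eq_of_mem h
    (fun d hd => hP ⟨⟨d, le_normalizer hd⟩, hQ (le h hd), rfl⟩) h1 (hP ⟨⟨u, h2⟩, hQ h1, rfl⟩) h3
  exact ⟨Q, le_antisymm (fun x hx => h4 ▸ hP ⟨x, hx, rfl⟩) hQ⟩

theorem syl (h : MaxI S D) (R : Subgroup L) (hR : IsPGroup 2 R) (hN : R ≤ normalizer (D : Set L)) :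
    ∃ n ∈ normalizer (D : Set L), ∀ r ∈ R, n * r * n⁻¹ ∈ (S : Subgroup L) := by
  obtain ⟨Q, hQ⟩ := exists_syl h
  obtain ⟨Q', hQ'⟩ := (hR.comap_subtype (K := normalizer (D : Set L))).exists_le_sylow
  obtain ⟨n, rfl⟩ := MulAction.exists_smul_eq (normalizer (D : Set L)) Q' Q
  refine ⟨n, n.2, fun r hr => ?_⟩
  have h1 : n * ⟨r, hN hr⟩ * n⁻¹ ∈ ((n • Q' : Sylow 2 _) : Subgroup (normalizer (D : Set L))) :=
    ⟨_, hQ' hr, rfl⟩
  rwa [hQ] at h1

omit [Finite L] in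
theorem mem_smul {n x : L} {P : Sylow 2 L} :
    x ∈ ((n • P : Sylow 2 L) : Subgroup L) ↔ n⁻¹ * x * n ∈ (P : Subgroup L) := by
  rw [Sylow.coe_subgroup_smul, mem_pointwise_smul_iff_inv_smul_mem]
  simp

theorem conj (h : MaxI S D) (P : Sylow 2 L) (hP : D ≤ P) :
    ∃ n ∈ normalizer (D : Set L), n • S = P := by
  obtain ⟨n, hn, h1⟩ := syl h ((P : Subgroup L) ⊓ normalizer (D : Set L)) (P.2.to_le inf_le_left)
    inf_le_right
  obtain ⟨u, h2, h3, h4⟩ := exists_norm h hP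
  have h5 : n • P = S := eq_of_mem h
    (fun d hd => mem_smul.2 (hP (by simpa using (mem_normalizer_iff.1 (inv_mem hn) d).1 hd)))
    (h1 u ⟨h2, h3⟩) (mem_smul.2 (by simpa [mul_assoc] using h2))
    (fun e => h4 ((mem_normalizer_iff.1 hn u).2 e))
  exact ⟨n⁻¹, inv_mem hn, by rw [← h5, inv_smul_smul]⟩

omit [Finite V] [Finite L] in
theorem fix (T : Star ρ) (h : MaxI S D) {u : L} (hu : u ∈ (S : Subgroup L)) (huD : u ∉ D) {y : V}
    (hy : y ∈ fx ρ D) (e : ρ u y = y) : y ∈ fx ρ S := by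
  by_cases y0 : y = 0
  · rw [y0]; exact zero_mem _
  obtain ⟨P, hP⟩ := stab_syl T y0
  obtain rfl := eq_of_mem h (fun d hd => (hP d).2 (hy d hd)) hu ((hP u).2 e) huD
  exact fun a ha => (hP a).1 ha

theorem exists_max (P : Sylow 2 L) (hP : P ≠ S) : ∃ D, MaxI S D ∧ (S : Subgroup L) ⊓ P ≤ D := by
  obtain ⟨D, h1, ⟨P', h2, rfl⟩, h3⟩ := (Set.toFinite
    {D : Subgroup L | ∃ P : Sylow 2 L, P ≠ S ∧ D = (S : Subgroup L) ⊓ P}).exists_le_maximal
    (a := (S : Subgroup L) ⊓ P) ⟨P, hP, rfl⟩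
  exact ⟨_, ⟨⟨P', h2, rfl⟩, fun Q hQ hle => h3 ⟨Q, hQ, rfl⟩ (le_inf inf_le_left hle)⟩, h1⟩

theorem exists_normal (T : Star ρ) (hS : (S : Subgroup L) ≠ ⊥) :
    ∃ D, MaxI S D ∧ (S : Subgroup L) ≤ normalizer (D : Set L) := by
  set W := fx ρ (S : Subgroup L) with hW
  have hle : ∀ s : (S : Subgroup L), W ≤ W.comap (ρ s) := fun s w hw => by
    rw [Submodule.mem_comap, hw s s.2]; exact hw
  let τ : (S : Subgroup L) →* Module.End (ZMod 2) (V ⧸ W) :=
    { toFun s := W.mapQ W (ρ s) (hle s)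
      map_one' := by ext; simp
      map_mul' a b := by ext; simp }
  have : Nontrivial (V ⧸ W) := Submodule.Quotient.nontrivial_iff.2 fun e => hS <|
    eq_bot_iff.2 fun g hg => T.inj (LinearMap.ext fun v => by
      rw [map_one]; exact (e ▸ Submodule.mem_top : v ∈ W) g hg)
  have : Finite (V ⧸ W) := Finite.of_surjective _ (Submodule.Quotient.mk_surjective W)
  obtain ⟨y, y0, hy⟩ := exists_fixed_vec τ (Q := ⊤) (S.2.to_subgroup ⊤)
  obtain ⟨y, rfl⟩ := Submodule.Quotient.mk_surjective W y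
  have hyW : y ∉ W := fun e => y0 ((Submodule.Quotient.mk_eq_zero W).2 e)
  have hc : ∀ s ∈ (S : Subgroup L), ρ s y - y ∈ W := fun s hs =>
    (Submodule.Quotient.eq W).1 (hy ⟨s, hs⟩ trivial)
  obtain ⟨P, hP⟩ := stab_syl T (v := y) fun e => hyW (e ▸ zero_mem W)
  obtain ⟨D, h1, h2⟩ := exists_max (S := S) P fun e => hyW fun a ha => (hP a).1 (e ▸ ha)
  refine ⟨D, h1, fun s (hs : s ∈ (S : Subgroup L)) => mem_normalizer_fintype fun d (hd : d ∈ D) => ?_⟩
  have hdS : d ∈ (S : Subgroup L) := le h1 hd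
  have key : ∀ a ∈ (S : Subgroup L), ∀ b ∈ (S : Subgroup L),
      ρ (a * b) y = ρ a y + ρ b y - y := fun a ha b hb => by
    have := hc b hb a ha
    rw [map_sub] at this
    rw [rho_mul, sub_eq_iff_eq_add.1 this]; abel
  have h3 : d⁻¹ * (s * d * s⁻¹) ∈ D := h2 <| mem_inf.2 ⟨mul_mem (inv_mem hdS)
      (mul_mem (mul_mem hs hdS) (inv_mem hs)), (hP _).2 <| by
    have h4 : ρ (d * s⁻¹) y = ρ (s⁻¹ * d) y := by
      rw [key _ hdS _ (inv_mem hs), key _ (inv_mem hs) _ hdS, add_comm]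
    rw [show d⁻¹ * (s * d * s⁻¹) = (s⁻¹ * d)⁻¹ * (d * s⁻¹) by group, rho_mul, h4, rho_inv_self]⟩
  simpa using mul_mem hd h3

end Cfsg.G41.P2.MX
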