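import Cfsg.Agent.G41.P2KO
import Cfsg.Agent.G41.P2MXa

/-! `p = 2`: the main induction. -/

set_option autoImplicit false

namespace Cfsg.G41.P2

open Subgroup Cfsg.FT
open scoped Pointwise

universe u

theorem MaxI.conj {L : Type u} [Group L] {S : Sylow 2 L} {D : Subgroup L} (h : MaxI S D) {s : L}
    (hs : s ∈ (S : Subgroup L)) : MaxI S (D.comap (MulAut.conj s⁻¹).toMonoidHom) := by
  have m : ∀ x, x ∈ D.comap (MulAut.conj s⁻¹).toMonoidHom ↔ s⁻¹ * x * s ∈ D := fun x => by simp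
  have mS : ∀ x, s⁻¹ * x * s ∈ (S : Subgroup L) ↔ x ∈ (S : Subgroup L) := fun x => by
    rw [mul_mem_cancel_right hs, mul_mem_cancel_left (inv_mem hs)]
  have e : s • S = S := Sylow.ext (Subgroup.ext fun x => by rw [MX.mem_smul, mS])
  refine ⟨?_, fun P hP hD x hx => (m x).2 (h.max (s⁻¹ • P) (fun e' => hP ?_) (fun y hy => ?_) ?_)⟩
  · obtain ⟨P, hP, rfl⟩ := h.ex
    refine ⟨s • P, fun e' => hP (smul_left_cancel s (e'.trans e.symm)), Subgroup.ext fun x => ?_⟩
    rw [m, mem_inf, mem_inf, mS, MX.mem_smul]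
  · rw [← e, ← e', smul_inv_smul]
  · rw [MX.mem_smul]
    exact hD ((m _).2 (by simpa [mul_assoc] using hy))
  · exact ⟨(mS x).2 hx.1, MX.mem_smul.2 (by
      have : s⁻¹⁻¹ * (s⁻¹ * x * s) * s⁻¹ = x := by group
      rw [this]; exact hx.2)⟩

theorem ih (hM : StMX.{u}) (h3 : StK3.{u}) (hO : StKO.{u}) (hC : StKC.{u}) (n : ℕ) : IH.{u} n := by
  induction n with
  | zero => intro V _ _ _ L _ _ ρ h; omega
  | succ n ih =>
    intro V _ _ _ L _ _ ρ hn hs hb hp S Q hSQ
    have ih' : IH.{u} (Nat.card V) := fun W _ _ _ M _ _ σ h => ih W M σ (by omega)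
    by_cases a : 3 ∣ Nat.card (normalizer ((S : Subgroup L) : Set L))
    · exact h3 V L ρ S ih' hs hb hp a S Q hSQ
    by_cases b : 3 ∣ Nat.card (fx ρ S) + 1
    · exact hO V L ρ S ih' hs hb hp a b S Q hSQ
    by_cases hS0 : (S : Subgroup L) = ⊥
    · rw [hS0, bot_inf_eq]
    exfalso
    have c : 3 ∣ Nat.card (fx ρ S) - 1 := by
      obtain ⟨k, hk⟩ := card_two_pow (fx ρ S)
      have : ¬ 3 ∣ 2 ^ k := fun h => by
        have := Nat.prime_three.dvd_of_dvd_pow h
        omega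
      omega
    obtain ⟨hL, ⟨D₀, hD₀, hn₀⟩, hex⟩ := hM V L ρ S hs hb hS0
    have hn : ∀ D, MaxI S D → (S : Subgroup L) ≤ normalizer (D : Set L) := fun D h => by
      refine inf_eq_left.1 (nilpotent_sub_norm S.2.isNilpotent inf_le_left fun s hs' => ⟨hs'.1, ?_⟩)
      have m : ∀ x, x ∈ D.comap (MulAut.conj s⁻¹).toMonoidHom ↔ s⁻¹ * x * s ∈ D := fun x => by simp
      have e := hC V L ρ S D _ hs hb a c h (h.conj hs'.1) (Subgroup.ext fun x => by
        have s1 : s ∈ (S : Subgroup L) := hs'.1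
        rw [mem_normalizer_iff''.1 hs'.2 x, mem_inf, mem_inf, mul_mem_cancel_right s1,
          mul_mem_cancel_left (inv_mem s1)]
        refine and_congr_right fun _ => ?_
        simp only [mem_normalizer_iff, SetLike.mem_coe, m]
        refine ⟨fun H y => ?_, fun H y => ?_⟩
        · rw [H]; congr! 1; group
        · have := H (s * y * s⁻¹)
          convert this using 2 <;> group)
      exact mem_normalizer_iff''.2 fun x => by rw [← m, ← e]
    have hty := (hL D₀ hD₀).type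
    rw [inf_eq_left.2 hn₀] at hty
    rcases hty with hi | ⟨-, -, -, hd, -⟩
    · refine trf hp hD₀ hi fun P hP => ?_
      obtain ⟨D, hD, hle⟩ := hex P hP
      rwa [hC V L ρ S D₀ D hs hb a c hD₀ hD (by rw [inf_eq_left.2 hn₀, inf_eq_left.2 (hn D hD)])]
    · exact a ((c.trans hd).trans (card_dvd_of_le inf_le_left))

end Cfsg.G41.P2
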