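import Cfsg.Agent.G41.Defs
import Cfsg.Agent.GW.Alpha

/-!
# S4841, `p = 3`: common tools for the pieces `StX1`, `StX2`
-/

set_option autoImplicit false

namespace Cfsg.G41

open Subgroup Cfsg.FT Cfsg.Gag Cfsg.GW
open scoped Pointwise

universe u

section Grp
variable {G : Type u} [Group G] [Finite G]

theorem hall_cent (hc : ∀ r : ℕ, r.Prime → r ≠ 2 → r ≠ 3 → ∀ R : Subgroup G, IsPGroup r R →
    IsCyclic R) {O S : Subgroup G} (hO : Odd (Nat.card O)) (hS : IsPGroup 2 S) (hn : S ≤ 𝐍[O]) :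
    ∃ Y, Hall {3}ᶜ Y O ∧ S ≤ 𝐍[Y] ∧ ⁅S, S⁆ ≤ 𝐂[Y] := by
  obtain ⟨k, hk⟩ := IsPGroup.iff_card.1 hS
  have hco : (Nat.card O).Coprime (Nat.card S) := by
    rw [hk]; exact (Nat.coprime_two_right.2 hO).pow_right k
  obtain ⟨Y, hY, hSY⟩ := coprime_Hall_exists {3}ᶜ hn hco (feit_thompson hO)
  refine ⟨Y, hY, hSY, ?_⟩
  have hYo : Odd (Nat.card Y) := hO.of_dvd_nat (card_dvd_of_le hY.le)
  have hF : IsCyclic (fit Y) := by
    haveI := Fitting_nil Y
    haveI : IsZGroup (fit Y) := by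
      refine ⟨fun r hr P => ?_⟩
      haveI : Fact r.Prime := ⟨hr⟩
      by_cases hd : r ∣ Nat.card (fit Y)
      · have hd' := hd.trans (card_dvd_of_le (Fitting_sub Y))
        have h2 : r ≠ 2 := by
          rintro rfl
          exact (Nat.not_even_iff_odd.2 hYo) (even_iff_two_dvd.2 hd')
        have h3 : r ≠ 3 := fun e => hY.pi r hr hd' e
        have := hc r hr h2 h3 _ (P.isPGroup'.map (fit Y).subtype)
        exact isCyclic_of_injective ((P : Subgroup (fit Y)).equivMapOfInjective _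
          (fit Y).subtype_injective).toMonoidHom (MulEquiv.injective _)
      · have : (P : Subgroup (fit Y)) = ⊥ := by
          rw [← Subgroup.card_eq_one, Sylow.card_eq_multiplicity,
            Nat.factorization_eq_zero_of_not_dvd hd, pow_zero]
        rw [this]; infer_instance
    infer_instance
  have h1 : ⁅S, S⁆ ≤ S := commutator_le_self S
  have hco' : (Nat.card Y).Coprime (Nat.card ↥⁅S, S⁆) :=
    (hco.coprime_dvd_left (card_dvd_of_le hY.le)).coprime_dvd_right (card_dvd_of_le h1)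
  exact (le_inf le_rfl (commg_cent_cyclic hF (norms_Fitting hSY) (norms_Fitting hSY))).trans
    (coprime_cent_Fitting (h1.trans hSY) hco' (feit_thompson hYo))

theorem ord4 {S : Subgroup G} {σ τ x y : G} {m : ℕ} (h : IsDih S σ τ m) (hx : x ∈ ⟪σ⟫)
    (hx2 : x * x = σ ^ m) (hy : y ∈ S) (hy4 : orderOf y = 4) : y = x ∨ y = x⁻¹ := by
  have hys : y ∈ ⟪σ⟫ := by
    by_contra hn
    have := h.orderOf_of_notMem hy hn
    omega
  have h2 : y * y = σ ^ m := h.eq_J (mul_mem hys hys) (by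
    rw [← sq, orderOf_pow' _ two_ne_zero, hy4]; rfl)
  have hc : x * y = y * x := setLike_mul_comm hx hys
  have h3 : y * x⁻¹ * (y * x⁻¹) = 1 := by
    have : y * x⁻¹ * (y * x⁻¹) = y * y * (x * x)⁻¹ := by
      have hc' : x⁻¹ * y = y * x⁻¹ := (Commute.inv_left hc)
      rw [mul_inv_rev, mul_assoc, ← mul_assoc x⁻¹, hc']; group
    rw [this, h2, hx2, mul_inv_cancel]
  by_cases h1 : y * x⁻¹ = 1
  · exact Or.inl (mul_inv_eq_one.1 h1)
  · have h4 := h.eq_J (mul_mem hys (inv_mem hx)) (orderOf_eq_prime (by rw [sq]; exact h3) h1)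
    right
    have h5 : σ ^ m * σ ^ m = 1 := by rw [← sq, ← h.orderOf_J, pow_orderOf_eq_one]
    rw [mul_inv_eq_iff_eq_mul.1 h4, eq_inv_iff_mul_eq_one, mul_assoc, hx2, h5]

end Grp

section Lin
variable {p : ℕ} [hp : Fact p.Prime] {V : Type} [AddCommGroup V] [Module (ZMod p) V]
  {H : Type u} [Group H]

/-- the fixed points of a subgroup -/
def fixS (ρ : H →* Module.End (ZMod p) V) (E : Subgroup H) : Submodule (ZMod p) V where
  carrier := {v | ∀ e ∈ E, ρ e v = v}
  add_mem' := fun ha hb e he => by rw [map_add, ha e he, hb e he]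
  zero_mem' := fun e _ => map_zero _
  smul_mem' := fun c v hv e he => by rw [map_smul, hv e he]

variable {ρ : H →* Module.End (ZMod p) V} {E : Subgroup H}

theorem mem_fixS {v : V} : v ∈ fixS ρ E ↔ ∀ e ∈ E, ρ e v = v := Iff.rfl

theorem fixS_norm {g : H} (hg : g ∈ 𝐍[E]) {v : V} (hv : v ∈ fixS ρ E) : ρ g v ∈ fixS ρ E := by
  intro e he
  have h1 : g⁻¹ * e * g ∈ E := (mem_normalizer_iff''.1 hg e).1 he
  rw [← rho_mul, show e * g = g * (g⁻¹ * e * g) by group, rho_mul, hv _ h1]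

theorem exists_fixS [Finite V] [Nontrivial V] (hE : IsPGroup p E) : ∃ v ∈ fixS ρ E, v ≠ 0 := by
  let _ : MulAction E V :=
    { smul k u := ρ k u
      one_smul u := by change ρ (1 : H) u = u; rw [map_one]; rfl
      mul_smul a b u := by change ρ (a * b : H) u = ρ a (ρ b u); rw [map_mul]; rfl }
  have hV : p ∣ Nat.card V := by
    haveI : Module.Finite (ZMod p) V := Module.Finite.of_finite
    rw [Module.natCard_eq_pow_finrank (K := ZMod p), Nat.card_zmod]
    exact dvd_pow_self _ Module.finrank_pos.ne'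
  obtain ⟨b, hb, h0⟩ := hE.exists_fixed_point_of_prime_dvd_card_of_fixed_point V hV (a := 0)
    (fun g => map_zero (ρ g))
  exact ⟨b, fun e he => hb ⟨e, he⟩, h0.symm⟩

/-- the stabiliser of a vector -/
def stb (ρ : H →* Module.End (ZMod p) V) (v : V) : Subgroup H where
  carrier := {g | ρ g v = v}
  mul_mem' := fun {a b} ha hb => by
    change ρ (a * b) v = v
    rw [rho_mul, hb, ha]
  one_mem' := by change ρ 1 v = v; rw [map_one]; rfl
  inv_mem' := fun {a} ha => by
    change ρ a⁻¹ v = v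
    conv_lhs => rw [← ha]
    exact rho_inv_self ρ a v

theorem mem_stb {v : V} {g : H} : g ∈ stb ρ v ↔ ρ g v = v := Iff.rfl

theorem PFree.stb_pgroup (hf : PFree ρ) {v : V} (hv : v ≠ 0) : IsPGroup p (stb ρ v) := fun g => by
  obtain ⟨k, hk⟩ := hf g v hv g.2
  exact ⟨k, Subtype.ext (by rw [Subgroup.coe_pow, ← hk, pow_orderOf_eq_one]; rfl)⟩

/-- the `p'`-part of the order of a subgroup divides `|U| - 1` -/
theorem PFree.ordCompl_dvd [Finite V] [Finite H] (hf : PFree ρ) (D : Subgroup H)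
    (U : Submodule (ZMod p) V) (hU : ∀ k ∈ D, ∀ u ∈ U, ρ k u ∈ U) :
    ordCompl[p] (Nat.card D) ∣ Nat.card U - 1 := by
  classical
  let X := {u : V // u ∈ U ∧ u ≠ 0}
  let _ : MulAction D X :=
    { smul k u := ⟨ρ k u, hU k k.2 u u.2.1, rho_ne ρ _ u.2.2⟩
      one_smul u := Subtype.ext (by change ρ (1 : H) u = u; rw [map_one]; rfl)
      mul_smul a b u := Subtype.ext (by change ρ (a * b : H) u = ρ a (ρ b u); rw [map_mul]; rfl) }
  have hX : Nat.card X = Nat.card U - 1 := by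
    haveI := Fintype.ofFinite U
    have e : X ≃ {u : U // u ≠ 0} :=
      ⟨fun u => ⟨⟨u.1, u.2.1⟩, fun h => u.2.2 (congrArg Subtype.val h)⟩,
        fun u => ⟨u.1.1, u.1.2, fun h => u.2 (Subtype.ext h)⟩, fun _ => rfl, fun _ => rfl⟩
    rw [Nat.card_congr e, Nat.card_eq_fintype_card, Nat.card_eq_fintype_card,
      Fintype.card_subtype_compl, Fintype.card_subtype_eq]
  rw [← hX]
  haveI := Fintype.ofFinite (MulAction.orbitRel.Quotient D X)
  rw [Nat.card_congr (MulAction.selfEquivSigmaOrbits' D X), Nat.card_sigma]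
  refine Finset.dvd_sum fun ω _ => ?_
  induction ω using Quotient.inductionOn' with | _ x => ?_
  rw [MulAction.orbitRel.Quotient.orbit_mk]
  have h1 := (MulAction.stabilizer D x).card_mul_index
  rw [MulAction.index_stabilizer, ← Nat.card_coe_set_eq] at h1
  have h2 : IsPGroup p (MulAction.stabilizer D x) := fun g => by
    obtain ⟨k, hk⟩ := hf g x.1 x.2.2 (congrArg Subtype.val g.2)
    refine ⟨k, Subtype.ext (Subtype.ext ?_)⟩
    rw [Subgroup.coe_pow, Subgroup.coe_pow, ← hk, pow_orderOf_eq_one]; rfl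
  obtain ⟨k, hk⟩ := IsPGroup.iff_card.1 h2
  refine Nat.Coprime.dvd_of_dvd_mul_left
    ((Nat.coprime_ordCompl hp.out (Nat.card_pos (α := D)).ne').symm.pow_right k) ?_
  rw [← hk, h1]
  exact Nat.ordCompl_dvd _ _

end Lin

section SF
variable {A : Type*} [Ring A]

/-- `a + a³` -/
def sf (a : A) : A := a + a ^ 3

theorem sf_neg (a : A) : sf (-a) = -sf a := by
  rw [sf, sf, Odd.neg_pow (by decide)]; abel

theorem sf_cube {a : A} (h : a ^ 4 = -1) : sf (a ^ 3) = sf a := by
  have : (a ^ 3) ^ 3 = a := by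
    rw [← pow_mul, show 3 * 3 = 4 * 2 + 1 by rfl, pow_succ, pow_mul, h]; simp
  rw [sf, sf, this, add_comm]

theorem sf_sq {a : A} (h : a ^ 4 = -1) (h3 : (3 : A) = 0) : sf a * sf a = 1 := by
  have : sf a * sf a = a ^ 2 + a ^ 4 + a ^ 4 + a ^ 4 * a ^ 2 := by
    rw [sf]; noncomm_ring
  rw [this, h, eq_comm, ← sub_eq_zero, ← h3, show (3 : A) = 1 + 1 + 1 by norm_num]; noncomm_ring

theorem sf_conj {a b c : A} (h : c * a = b * c) : c * sf a = sf b * c := by
  have : c * a ^ 3 = b ^ 3 * c := by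
    rw [pow_three, pow_three, ← mul_assoc, h, mul_assoc, ← mul_assoc c, h, mul_assoc, h]
    simp only [mul_assoc]
  rw [sf, sf, mul_add, add_mul, h, this]

end SF

end Cfsg.G41
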