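import Cfsg.Agent.G41.P2SP
import Cfsg.Agent.G41.Struct
import Cfsg.Agent.G41.XB

/-! S4841, `p = 2`: a spread with an element of order 3 acting on the elation group. -/

set_option autoImplicit false

namespace Cfsg.G41.P2.WC

open Subgroup
open scoped commutatorElement Pointwise

universe u

variable {V : Type} [AddCommGroup V] [Module (ZMod 2) V] [Finite V] {L : Type u} [Group L]
  [Finite L] {ρ : L →* Module.End (ZMod 2) V} {U : Submodule (ZMod 2) V}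

theorem exists_out (h : Sp ρ U) : ∃ g, g ∉ st ρ U := by
  by_contra hc
  push Not at hc
  have h1 := h.index
  rw [(eq_top_iff' _).2 hc, index_top] at h1
  have := Nat.card_pos (α := U)
  omega

theorem spr_of (h : Sp ρ U) (hc : Nat.card (pw ρ U) = Nat.card U) : Spr ρ U (pw ρ U) where
  inj := h.base.inj
  fix := fun _ he => he
  com := fun _ he => h.base.sub_mem h.cV he
  reg := fun _ he _ hv => or_iff_not_imp_left.2 fun e1 => (h.base.fix_iff h.cV he e1).1 hv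
  cE := hc
  cV := h.cV
  sp := fun g w hw w0 hg w' hw' => (h.sp g w hw w0 hg w').2 hw'
  ne := by
    obtain ⟨g, hg⟩ := exists_out h
    by_contra hc
    push Not at hc
    exact hg (mem_st_of_le (hc g))

theorem ti_of_card (T : Star ρ) (hL : _root_.commutator L = ⊤) (h : Sp ρ U)
    (hc : Nat.card (pw ρ U) = Nat.card U) : TI L := by
  obtain ⟨-, -, -, -, -, S, hS, hn, -, -, ⟨g₀, hg₀⟩, -⟩ := (spr_of h hc).shape h.base.free
  obtain ⟨F, _, _, _, μ, π, cF, hπ, -, hr, -⟩ := (spr_of h hc).sl2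
  have htop : S = ⊤ := by
    haveI : IsCyclic (L ⧸ S) := isCyclic_iff_exists_zpowers_eq_top.2 ⟨g₀, by
      have := congrArg (map (QuotientGroup.mk' S)) hg₀
      rwa [Subgroup.map_sup, (Subgroup.map_eq_bot_iff S).2 (QuotientGroup.ker_mk' S).ge, bot_sup_eq,
        MonoidHom.map_zpowers, map_top_of_surjective _ (QuotientGroup.mk'_surjective S)] at this⟩
    letI : CommGroup (L ⧸ S) := IsCyclic.commGroup
    have := Abelianization.commutator_subset_ker (QuotientGroup.mk' S)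
    rwa [hL, QuotientGroup.ker_mk', top_le_iff] at this
  have hφ : ∀ g c, ρ g * μ.φ c = μ.φ c * ρ g := fun g c => by
    obtain ⟨M, rfl⟩ : g ∈ π.range := by rw [hr, ← hS, htop]; trivial
    rw [hπ, μ.Φ_comm]
  obtain ⟨⟨t, ht⟩, t1⟩ := ne_bot_iff_exists_ne_one.1 h.ne
  have t1 : t ≠ 1 := fun e => t1 (Subtype.ext e)
  have key : ∀ u ∈ U, u ≠ 0 → ∀ g, ρ g u = u → g ∈ pw ρ U := by
    intro u hu u0 g hg w hw
    have e : ∀ x c, ρ x u = u → ρ x (μ.φ c u) = μ.φ c u := fun x c hx => by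
      rw [← Module.End.mul_apply, hφ, Module.End.mul_apply, hx]
    let f : F → U := fun c => ⟨μ.φ c u, (h.base.fix_iff h.cV ht t1).1 (e t c (ht u hu))⟩
    have hf : Function.Injective f := fun c c' ec => by
      have e1 : μ.φ (c - c') u = 0 := by
        rw [map_sub, LinearMap.sub_apply, sub_eq_zero]; exact congrArg Subtype.val ec
      exact sub_eq_zero.1 ((μ.φ_eq_zero e1).resolve_right u0)
    obtain ⟨c, hc⟩ := (hf.bijective_of_nat_card_le cF.ge).2 ⟨w, hw⟩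
    rw [← show μ.φ c u = w from congrArg Subtype.val hc]
    exact e g c hg
  have k2 : ∀ P : Sylow 2 L, ∃ g v, v ≠ 0 ∧ v ∈ fx ρ P ∧ ρ g v ∈ U ∧
      ∀ x ∈ (P : Subgroup L), g * x * g⁻¹ ∈ pw ρ U := by
    intro P
    haveI := T.nt
    obtain ⟨v, v0, hv⟩ := exists_fixed_vec ρ P.2
    obtain ⟨g, hg⟩ := h.cov v
    refine ⟨g, v, v0, hv, hg, fun x hx => key _ hg (rho_ne ρ g v0) _ ?_⟩
    rw [rho_mul, rho_mul, rho_inv_self, hv x hx]
  intro P Q hPQ
  obtain ⟨g, v, v0, hv, hg, hP⟩ := k2 P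
  obtain ⟨g', -, -, -, -, hQ⟩ := k2 Q
  refine eq_bot_iff.2 fun x hx => mem_bot.2 (by_contra fun x1 => hPQ ?_)
  have hm : g' * g⁻¹ ∈ st ρ U := h.base.mem_st_of_conj h.cV (hP x hx.1)
    (by simpa [mul_inv_eq_one] using x1) (by simpa [mul_assoc] using hQ x hx.2)
  refine sylow_eq h.base.free v0 hv fun y hy => rho_inj (ρ := ρ) g' ?_
  have e := hQ y hy _ ((hm _).2 hg)
  simpa only [rho_mul, rho_inv_self] using e

omit [Finite V] in
theorem mem_three {X : Type*} [Group X] [Finite X]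
    (cyc : ∀ Y : Subgroup X, Odd (Nat.card Y) → IsCyclic Y) {d x : X} (hd : orderOf d = 3)
    (hx : orderOf x = 3) (hn : x * d * x⁻¹ ∈ zpowers d) : x ∈ zpowers d := by
  haveI : Fact (Nat.Prime 3) := ⟨Nat.prime_three⟩
  have e : ∀ y : X, orderOf y = 3 → IsPGroup 3 (zpowers y) := fun y hy =>
    IsPGroup.of_card (n := 1) (by rw [Nat.card_zpowers, pow_one, hy])
  have hP := (e d hd).to_sup_of_normal_left' (e x hx) (zpowers_le.2 (PFree.norm_of_conj hn))
  obtain ⟨k, hk⟩ := IsPGroup.iff_card.1 hP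
  refine mem_zpowers_of_pow_prime_eq_one hP (cyc _ (hk ▸ Odd.pow (by decide)))
    (mem_sup_left (mem_zpowers d)) (fun e => ?_) (mem_sup_right (mem_zpowers x))
    (hx ▸ pow_orderOf_eq_one x)
  rw [e, orderOf_one] at hd
  exact absurd hd (by decide)

omit [Finite V] in
theorem sol_three (T : Star ρ) (B : Base ρ) (hs : Group.IsSolvable L) {d : L} (hd : orderOf d = 3)
    (g : L) : g * d * g⁻¹ ∈ zpowers d := by
  haveI := T.nt
  have key : ∀ d : L, orderOf d = 3 → d ∈ centralizer (fittingSubgroup L : Set L) := by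
    intro d hd
    have : fittingSubgroup L ≤ centralizer {d} := by
      rw [fittingSubgroup_eq_iSup_pCore]
      refine iSup_le fun ⟨r, hr⟩ => ?_
      change pCore r L ≤ _
      haveI := Fact.mk hr
      have hP := isPGroup_pCore r L
      by_cases h2 : r = 2
      · subst h2; exact (T.eq_bot hP).le.trans bot_le
      obtain ⟨k, hk⟩ := IsPGroup.iff_card.1 hP
      have ho : Odd (Nat.card (pCore r L)) := hk ▸ (hr.odd_of_ne_two h2).pow
      obtain ⟨x, hx⟩ := (Subgroup.isCyclic_iff_exists_zpowers_eq_top _).1 (B.cyc _ ho)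
      rw [← hx, zpowers_le, mem_centralizer_singleton_iff]
      refine B.free.comm_of_norm ?_ (hd ▸ Nat.prime_three) (by rw [hd]; decide) ?_
      · rw [← Nat.card_zpowers, hx]; exact ho.not_two_dvd_nat
      · rw [hx]; exact Normal.conj_mem inferInstance _ (hx ▸ mem_zpowers x) d
    exact fun x hx => mem_centralizer_singleton_iff.1 (this hx)
  have hd' : orderOf (g * d * g⁻¹) = 3 := ((MulAut.conj g).orderOf_eq d).trans hd
  refine mem_three B.cyc hd hd' ?_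
  rw [key _ hd' d (centralizer_fittingSubgroup_le hs (key d hd)) |>.symm, mul_inv_cancel_right]
  exact mem_zpowers d

omit [Finite V] in
theorem star_normal (T : Star ρ) (K : Subgroup L) [K.Normal] : Star (ρ.comp K.subtype) := by
  refine ⟨T.inj.comp K.subtype_injective, T.free.sub K, T.nt, fun v hv => ?_⟩
  obtain ⟨P, hP⟩ := T.syl v hv
  obtain ⟨P₀⟩ : Nonempty (Sylow 2 K) := inferInstance
  obtain ⟨Q, hQ⟩ := P₀.exists_comap_subtype_eq
  obtain ⟨g, rfl⟩ := MulAction.exists_smul_eq L Q P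
  refine ⟨(MulAut.conjNormal g : MulAut K) • P₀, ?_⟩
  rintro _ ⟨y, hy, rfl⟩
  rw [← hQ] at hy
  exact hP _ ⟨y, hy, rfl⟩

omit [Finite V] in
theorem exists_perfect (hs : ¬ Group.IsSolvable L) : ∃ K : Subgroup L, K.Normal ∧
    ¬ Group.IsSolvable K ∧ _root_.commutator K = ⊤ := by
  obtain ⟨K, ⟨hKn, hKs⟩, hmin⟩ := (Set.toFinite
    {K : Subgroup L | K.Normal ∧ ¬ Group.IsSolvable K}).exists_minimal
    ⟨⊤, inferInstance, fun h => hs (Group.isSolvable_of_surjective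
      (f := (⊤ : Subgroup L).subtype) fun x => ⟨⟨x, trivial⟩, rfl⟩)⟩
  refine ⟨K, hKn, hKs, ?_⟩
  have h1 : ¬ Group.IsSolvable (⁅K, K⁆ : Subgroup L) := fun h => hKs <| by
    rw [← Subgroup.map_subtype_commutator] at h
    have h2 : Group.IsSolvable (_root_.commutator K) := Group.isSolvable_of_isSolvable_injective
      (f := ((_root_.commutator K).equivMapOfInjective _ K.subtype_injective).toMonoidHom)
      (MulEquiv.injective _)
    exact Group.isSolvable_of_ker_le_range (_root_.commutator K).subtype (Abelianization.of)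
      (by rw [Abelianization.ker_of, Subgroup.range_subtype])
  have h2 := hmin ⟨inferInstance, h1⟩ (Subgroup.commutator_le_left K K)
  refine Subgroup.map_injective K.subtype_injective ?_
  rw [Subgroup.map_subtype_commutator, ← MonoidHom.range_eq_map, Subgroup.range_subtype]
  exact le_antisymm (Subgroup.commutator_le_left K K) h2

theorem wc_arith {a f c : ℕ} (hf : 2 ≤ f) (h1 : 2 ^ f + 1 ∣ 2 ^ a - 1) (ha : 0 < a)
    (h2 : (2 ^ a - 1) * c = (2 ^ f + 1) * (2 ^ f * (2 ^ f - 1))) : ¬ 3 ∣ c := by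
  have p1 : 1 ≤ 2 ^ a := Nat.one_le_two_pow
  have p2 : 1 ≤ 2 ^ f := Nat.one_le_two_pow
  have e1 : (2 ^ f + 1) * (2 ^ f - 1) = 2 ^ (2 * f) - 1 := by
    rw [mul_comm 2 f, pow_mul, ← Nat.sq_sub_sq, one_pow]
  have h3 : 2 ^ a - 1 ∣ 2 ^ (2 * f) - 1 := by
    refine Nat.Coprime.dvd_of_dvd_mul_left (m := 2 ^ f) ?_ ⟨c, by rw [h2, ← e1]; ring⟩
    refine Nat.Coprime.pow_right _ (Nat.coprime_two_right.2 ?_)
    exact Nat.Even.sub_odd p1 (Nat.even_pow.2 ⟨even_two, ha.ne'⟩) odd_one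
  have h4 : a ∣ 2 * f := by
    have e := Nat.gcd_eq_left h3
    rw [Nat.pow_sub_one_gcd_pow_sub_one] at e
    have p3 : 1 ≤ 2 ^ a.gcd (2 * f) := Nat.one_le_two_pow
    rw [← Nat.pow_right_injective le_rfl (show 2 ^ a.gcd (2 * f) = 2 ^ a by omega)]
    exact Nat.gcd_dvd_right _ _
  have h5 : f < a := by
    have := Nat.le_of_dvd (by have := Nat.one_lt_two_pow ha.ne'; omega) h1
    exact (Nat.pow_lt_pow_iff_right (by norm_num : 1 < 2)).1 (by omega)
  obtain ⟨k, hk⟩ := h4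
  have hk1 : k = 1 := by
    rcases k with _ | _ | k
    · omega
    · rfl
    · nlinarith
  subst hk1
  rw [mul_one] at hk
  rw [← hk, ← e1, mul_left_comm (2 ^ f + 1), mul_comm (2 ^ f)] at h2
  have h6 : 0 < (2 ^ f + 1) * (2 ^ f - 1) := by
    have := Nat.one_lt_two_pow (by omega : f ≠ 0)
    exact Nat.mul_pos (by omega) (by omega)
  rw [Nat.eq_of_mul_eq_mul_left h6 h2]
  exact fun h => absurd (Nat.prime_three.dvd_of_dvd_pow h) (by decide)

theorem nonsol_three (hTI : StTI.{u}) {n : ℕ} (ih : IH.{u} n) (hn : Nat.card V < n) (T : Star ρ)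
    (hs : ¬ Group.IsSolvable L) {C : Subgroup L} {a : ℕ} (hC : C.index + 1 = 2 ^ a)
    (hC1 : C.index ≠ 1) {d : L} (hd : orderOf d = 3) (dC : d ∈ C) : False := by
  obtain ⟨E, hE, hEs, hEp⟩ := exists_perfect hs
  have TE := star_normal T E
  have BE := base_of_perfect TE hEp (TE.eq_bot (isPGroup_pCore 2 E))
  obtain ⟨S₀⟩ : Nonempty (Sylow 2 E) := inferInstance
  have hS : ∀ S : Sylow 2 E, ¬ IsCyclic (S : Subgroup E) := fun S h => by
    refine PFree.not_nil_of_perfect hEp Nat.prime_two (by_contra fun h2 => hEs ?_)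
      (hasNormalPComplement_two_of_isCyclic S h)
    haveI := BE.cyc ⊤ (by rw [card_top]; exact Nat.odd_iff.2 (Nat.two_dvd_ne_zero.1 h2))
    haveI : IsCyclic E := isCyclic_of_surjective _ topEquiv.surjective
    letI : CommGroup E := IsCyclic.commGroup
    exact Group.isSolvable_of_comm mul_comm
  have ti := ih V E _ hn TE BE hEp
  have data := fun S : Sylow 2 E => hTI V E _ S TE BE ti fun e => hS S (e ▸ inferInstance)
  have a0 : 0 < a := Nat.pos_of_ne_zero fun e => by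
    rw [e, pow_zero] at hC
    exact index_ne_zero_of_finite (H := C) (by omega)
  have hCo : Odd C.index := by
    have : Even (C.index + 1) := hC ▸ Nat.even_pow.2 ⟨even_two, a0.ne'⟩
    exact Nat.not_even_iff_odd.1 (Nat.even_add_one.1 this)
  obtain ⟨k, hk⟩ : ∃ k, E.index = 2 ^ k := by
    obtain ⟨sp, -, -, h2 | ⟨c1, c2, -, c3, -⟩⟩ := data S₀
    · exact absurd (isCyclic_of_prime_card h2) (hS S₀)
    obtain ⟨f, hf⟩ := IsPGroup.iff_card.1 S₀.2
    have h3 := T.free.ordCompl_dvd ⊤ ⊤ fun _ _ _ _ => trivial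
    rw [card_top, Nat.card_congr (Submodule.topEquiv (R := ZMod 2) (M := V)).toEquiv, sp.cV, ← c1,
      ← E.card_mul_index, c3, hf, Nat.ordCompl_mul] at h3
    have f0 : f ≠ 0 := by rintro rfl; omega
    have p1 := Nat.one_lt_two_pow f0
    have e1 : (2 ^ f + 1) * (2 ^ f - 1) = (2 ^ f) ^ 2 - 1 := by rw [← Nat.sq_sub_sq, one_pow]
    have ho : ¬ 2 ∣ (2 ^ f) ^ 2 - 1 := (Nat.Even.sub_odd (Nat.one_le_pow _ _ (by omega))
      (Nat.even_pow.2 ⟨Nat.even_pow.2 ⟨even_two, f0⟩, two_ne_zero⟩) odd_one).not_two_dvd_nat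
    rw [mul_left_comm, e1, Nat.ordCompl_mul, Nat.ordCompl_self_pow Nat.prime_two, one_mul,
      (Nat.ordCompl_eq_self_iff_zero_or_not_dvd _ Nat.prime_two).2 (Or.inr ho)] at h3
    have h4 : ordCompl[2] E.index = 1 := Nat.dvd_one.1 (Nat.dvd_of_mul_dvd_mul_left (by
      have := Nat.one_lt_pow two_ne_zero p1; omega : 0 < (2 ^ f) ^ 2 - 1) (by rwa [mul_one]))
    refine ⟨E.index.factorization 2, ?_⟩
    conv_lhs => rw [← Nat.ordProj_mul_ordCompl_eq_self E.index 2, h4, mul_one]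
  have dE : d ∈ E := by
    have h1 := E.pow_index_mem d
    have h2 : (E.index).Coprime (orderOf d) := by
      rw [hk, hd]; exact Nat.Coprime.pow_left _ (by decide)
    exact zpowers_le.2 h1 (mem_zpowers_pow_iff.2 h2)
  have hi : C.relIndex E = C.index := by
    refine le_antisymm (C.relIndex_top_right ▸ relIndex_le_of_le_right le_top (by
      rw [relIndex_top_right]; exact index_ne_zero_of_finite)) (Nat.le_of_dvd
        (Nat.pos_of_ne_zero index_ne_zero_of_finite) ?_)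
    refine Nat.Coprime.dvd_of_dvd_mul_right (n := E.index) ?_ ?_
    · rw [hk]; exact Nat.Coprime.pow_right _ (Nat.coprime_two_right.2 hCo)
    · rw [← inf_relIndex_right, relIndex_mul_index inf_le_right]
      exact index_dvd_of_le inf_le_left
  set C' := C.subgroupOf E with hC'
  change C'.index = _ at hi
  obtain ⟨S, hSC⟩ : ∃ S : Sylow 2 E, (S : Subgroup E) ≤ C' := by
    obtain ⟨P⟩ : Nonempty (Sylow 2 C') := inferInstance
    refine ⟨(P.2.map C'.subtype).toSylow ?_, map_subtype_le _⟩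
    rw [index_map_subtype, hi]
    exact fun h => (Nat.prime_two.dvd_mul.1 h).elim P.not_dvd_index hCo.not_two_dvd_nat
  obtain ⟨sp, e1, e2, h2 | ⟨c1, c2, -, c3, c4⟩⟩ := data S
  · exact absurd (isCyclic_of_prime_card h2) (hS S)
  obtain ⟨f, hf⟩ := IsPGroup.iff_card.1 S.2
  by_cases hle : C' ≤ st (ρ.comp E.subtype) (fx (ρ.comp E.subtype) S)
  · have h1 := index_dvd_of_le hle
    rw [sp.index, ← c1, hf, hi] at h1
    have h2 := C'.index_mul_card
    rw [c3, hf, hi] at h2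
    rw [show C.index = 2 ^ a - 1 by omega] at h1 h2
    refine wc_arith (by_contra fun h => ?_) h1 a0 h2 ?_
    · rw [hf] at c2
      have : f = 0 ∨ f = 1 := by omega
      rcases this with rfl | rfl <;> omega
    · rw [← hd, ← orderOf_mk d dE]
      exact C'.orderOf_dvd_natCard dC
  obtain ⟨c, hc, hc'⟩ := SetLike.not_le_iff_exists.1 hle
  have out : ∀ g, g ∉ st (ρ.comp E.subtype) (fx (ρ.comp E.subtype) S) →
      ∃ w ∈ fx (ρ.comp E.subtype) S, (ρ.comp E.subtype) g w ∉ fx (ρ.comp E.subtype) S := by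
    intro g hg
    by_contra h
    push Not at h
    exact hg (mem_st_of_le h)
  have hN : normalClosure ((S : Subgroup E) : Set E) ≤ C' := by
    refine (closure_le _).2 fun y hy => ?_
    obtain ⟨s, hs, h⟩ := Group.mem_conjugatesOfSet_iff.1 hy
    obtain ⟨g, rfl⟩ := isConj_iff.1 h
    by_cases hg : g ∈ st (ρ.comp E.subtype) (fx (ρ.comp E.subtype) S)
    · exact hSC (e1 ▸ conj_mem_pw hg (e1.symm ▸ hs))
    obtain ⟨e, he, h3⟩ := (spr_of sp (e1.symm ▸ c1)).trans (out c hc') (out g hg)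
    have h4 : c⁻¹ * e⁻¹ * g ∈ st (ρ.comp E.subtype) (fx (ρ.comp E.subtype) S) :=
      mem_st_of_le fun u hu => by rw [rho_mul, rho_mul]; exact h3 u hu
    have h5 := hSC (e1 ▸ conj_mem_pw h4 (e1.symm ▸ hs))
    have h6 := C'.mul_mem (hSC (e1 ▸ he)) hc
    have := C'.mul_mem (C'.mul_mem h6 h5) (C'.inv_mem h6)
    rwa [show e * c * (c⁻¹ * e⁻¹ * g * s * (c⁻¹ * e⁻¹ * g)⁻¹) * (e * c)⁻¹ = g * s * g⁻¹ by
      group] at this
  rcases c4 _ normalClosure_normal with h | h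
  · have h7 : (S : Subgroup E) = ⊥ := le_bot_iff.1 (le_normalClosure.trans h.le)
    exact hS S (h7 ▸ inferInstance)
  · rw [h, top_le_iff] at hN
    exact hC1 (hi ▸ hN ▸ index_top)

theorem trans (h : Sp ρ U) {g t₁ t₂ : L} (hg : g ∉ st ρ U) (h1 : t₁ ∈ pw ρ U) (n1 : t₁ ≠ 1)
    (h2 : t₂ ∈ pw ρ U) (n2 : t₂ ≠ 1) :
    ∃ m ∈ st ρ U, g⁻¹ * m * g ∈ st ρ U ∧ m * t₁ * m⁻¹ = t₂ := by
  have key : ∀ t ∈ pw ρ U, t ≠ 1 → ∃ j, j * j = 1 ∧ j * t * j = g * t₁ * g⁻¹ ∧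
      g⁻¹ * j ∈ st ρ U := by
    intro t ht t1
    obtain ⟨j, -, c, e⟩ := h.swap hg ht t1 h1 n1
    have jj := h.el_sq ⟨t, ht, t1, c⟩
    refine ⟨j, jj, e, h.base.mem_st_of_conj h.cV ht t1 ?_⟩
    rw [mul_inv_rev, inv_inv, inv_eq_of_mul_eq_one_right jj,
      show g⁻¹ * j * t * (j * g) = g⁻¹ * (j * t * j) * g by group, e]
    simpa [mul_assoc] using h1
  obtain ⟨j₁, a1, a2, a3⟩ := key _ h1 n1
  obtain ⟨j₂, b1, b2, b3⟩ := key _ h2 n2
  have e : j₂ * j₁ * t₁ * (j₂ * j₁)⁻¹ = t₂ := by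
    rw [mul_inv_rev, inv_eq_of_mul_eq_one_right a1, inv_eq_of_mul_eq_one_right b1,
      show j₂ * j₁ * t₁ * (j₁ * j₂) = j₂ * (j₁ * t₁ * j₁) * j₂ by group, a2, ← b2,
      show j₂ * (j₂ * t₂ * j₂) * j₂ = j₂ * j₂ * t₂ * (j₂ * j₂) by group, b1, one_mul, mul_one]
  refine ⟨j₂ * j₁, h.base.mem_st_of_conj h.cV h1 n1 (e ▸ h2), ?_, e⟩
  have := mul_mem b3 (inv_mem a3)
  rwa [mul_inv_rev, inv_inv, inv_eq_of_mul_eq_one_right a1,
    show g⁻¹ * j₂ * (j₁ * g) = g⁻¹ * (j₂ * j₁) * g by group] at this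

omit [Finite V] in
theorem idx {K : Subgroup L} (hK : K ≤ st ρ U) {t : L} (ht : t ∈ pw ρ U) (t1 : t ≠ 1)
    (h : ∀ s ∈ pw ρ U, s ≠ 1 → ∃ m ∈ K, m * t * m⁻¹ = s) :
    (centralizer {t}).relIndex K + 1 = Nat.card (pw ρ U) := by
  rw [relIndex, index, ← Finite.card_option]
  refine Nat.card_eq_of_bijective (fun x => x.elim 1 fun x =>
    ⟨x.out.1 * t * x.out.1⁻¹, conj_mem_pw (hK x.out.2) ht⟩) ⟨?_, ?_⟩
  · have h0 : ∀ g : L, g * t * g⁻¹ ≠ 1 := fun g => by simpa [mul_inv_eq_one] using t1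
    rintro (_ | x) (_ | y) e
    · rfl
    · exact absurd (congrArg Subtype.val e).symm (h0 _)
    · exact absurd (congrArg Subtype.val e) (h0 _)
    · congr 1
      rw [← x.out_eq', ← y.out_eq', QuotientGroup.eq, mem_subgroupOf,
        mem_centralizer_singleton_iff]
      have e' : x.out.1 * t * x.out.1⁻¹ = y.out.1 * t * y.out.1⁻¹ := congrArg Subtype.val e
      simp only [coe_mul, coe_inv]
      calc _ = x.out.1⁻¹ * (y.out.1 * t * y.out.1⁻¹) * y.out.1 := by group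
        _ = _ := by rw [← e']; group
  · rintro ⟨s, hs⟩
    by_cases s1 : s = 1
    · exact ⟨none, Subtype.ext s1.symm⟩
    obtain ⟨m, hm, rfl⟩ := h s hs s1
    obtain ⟨c, hc⟩ := QuotientGroup.mk_out_eq_mul ((centralizer {t}).subgroupOf K) ⟨m, hm⟩
    refine ⟨some (⟨m, hm⟩ : K), Subtype.ext ?_⟩
    have e := mem_centralizer_singleton_iff.1 (mem_subgroupOf.1 c.2)
    simp only [Option.elim, hc, coe_mul]
    calc _ = m * (c.1.1 * t) * c.1.1⁻¹ * m⁻¹ := by group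
      _ = _ := by rw [e]; group

omit [Finite V] in
theorem surj {x : L} (hx : x ∈ st ρ U) (h : ∀ t ∈ pw ρ U, Commute x t → t = 1) {s : L}
    (hs : s ∈ pw ρ U) : ∃ t ∈ pw ρ U, t * x * t⁻¹ * x⁻¹ = s := by
  let f : pw ρ U → pw ρ U := fun t => ⟨t.1 * (x * t.1⁻¹ * x⁻¹),
    mul_mem t.2 (conj_mem_pw hx (inv_mem t.2))⟩
  have hf : Function.Injective f := fun t t' e => by
    have e' : t.1 * (x * t.1⁻¹ * x⁻¹) = t'.1 * (x * t'.1⁻¹ * x⁻¹) := congrArg Subtype.val e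
    have := h (t'.1⁻¹ * t.1) (mul_mem (inv_mem t'.2) t.2) (by
      calc x * (t'.1⁻¹ * t.1) = t'.1⁻¹ * (t'.1 * (x * t'.1⁻¹ * x⁻¹)) * x * t.1 := by group
        _ = _ := by rw [← e']; group)
    exact Subtype.ext (inv_mul_eq_one.1 this).symm
  obtain ⟨t, ht⟩ := Finite.surjective_of_injective hf ⟨s, hs⟩
  exact ⟨t, t.2, by rw [← show _ = s from congrArg Subtype.val ht]; simp only [f]; group⟩

theorem stWC (hQ : StQ.{u}) (hTI : StTI.{u}) : StWC.{u} := by
  intro V _ _ _ L _ _ ρ U d ih T hL h hd dM hne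
  classical
  haveI : Fact (Nat.Prime 3) := ⟨Nat.prime_three⟩
  have B := h.base
  have hU := B.U_ne h.cV
  obtain ⟨g₀, hg₀⟩ := exists_out h
  let π : st ρ U →* _ := QuotientGroup.mk' (res ρ (st ρ U) U le_rfl).ker
  have π1 : ∀ m : st ρ U, π m = 1 ↔ m.1 ∈ pw ρ U := fun m => sec_eq_one le_rfl
  have TX : Star (sec ρ (st ρ U) U le_rfl) := sec_star le_rfl B.free hU fun y hy y0 => by
    obtain ⟨P, hP⟩ := T.syl y y0
    exact ⟨P.subtype fun g hg => h.sp g y hy y0 ((hP g hg).symm ▸ hy), fun g hg => hP g hg⟩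
  have BX := sec_base le_rfl B.free hU B.cyc (TX.eq_bot (isPGroup_pCore 2 _))
  have o3 : ∀ m : st ρ U, orderOf m.1 = 3 → orderOf (π m) = 3 := fun m hm =>
    orderOf_eq_prime (by rw [← map_pow, ← hm, orderOf_coe, pow_orderOf_eq_one, map_one]) fun e => by
      have := orderOf_dvd_of_pow_eq_one ((sq m.1).trans (h.sq_one ((π1 m).1 e)))
      rw [hm] at this
      exact absurd this (by decide)
  obtain ⟨t₀, ht₀, hc₀⟩ : ∃ t ∈ pw ρ U, ¬ Commute d t := by
    by_contra hc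
    push Not at hc
    refine hne (commutator_eq_bot_iff_le_centralizer.2 fun t ht => ?_)
    rintro _ ⟨k, rfl⟩
    exact ((hc t ht).zpow_left k).eq
  have t₀1 : t₀ ≠ 1 := by rintro rfl; exact hc₀ (Commute.one_right d)
  have hα : ∀ t ∈ pw ρ U, Commute d t → t = 1 := by
    intro t ht hc
    by_contra t1
    obtain ⟨m, hm, -, e⟩ := trans h hg₀ ht t1 ht₀ t₀1
    by_cases hs : Group.IsSolvable (st ρ U ⧸ (res ρ (st ρ U) U le_rfl).ker)
    · obtain ⟨k, hk⟩ := sol_three TX BX hs (o3 ⟨d, dM⟩ hd) (π ⟨m, hm⟩)⁻¹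
      have e1 : π ((⟨d, dM⟩ ^ k)⁻¹ * (⟨m, hm⟩⁻¹ * ⟨d, dM⟩ * ⟨m, hm⟩)) = 1 := by
        simp only [map_mul, map_inv, map_zpow] at hk ⊢
        rw [hk]; group
      have e2 : (d ^ k)⁻¹ * (m⁻¹ * d * m) ∈ pw ρ U := (π1 _).1 e1
      have e3 := ((hc.zpow_left k).mul_left (B.comm h.cV e2 ht)).map (MulAut.conj m)
      simp only [MulAut.conj_apply, e] at e3
      exact hc₀ (by convert e3 using 1; group)
    obtain ⟨a, ha⟩ := IsPGroup.iff_card.1 (pw_pgroup B.free hU)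
    have hi := idx le_rfl ht t1 fun s hs s1 => (trans h hg₀ ht t1 hs s1).imp fun m h => ⟨h.1, h.2.2⟩
    have hk : π.ker ≤ (centralizer {t}).subgroupOf (st ρ U) := fun x hx =>
      mem_centralizer_singleton_iff.2 (B.comm h.cV ((π1 x).1 hx) ht)
    have hi2 := index_map_eq _ (QuotientGroup.mk'_surjective _) hk
    refine nonsol_three hTI ih ?_ TX hs (a := a)
      (C := ((centralizer {t}).subgroupOf (st ρ U)).map π) (by rw [hi2, ← ha, ← hi]; rfl) ?_
      (o3 ⟨d, dM⟩ hd) ⟨⟨d, dM⟩, mem_centralizer_singleton_iff.2 hc.eq, rfl⟩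
    · have := two_le_card hU
      rw [h.cV]; nlinarith
    · rw [hi2]
      intro e1
      have e2 := mem_centralizer_singleton_iff.1 (relIndex_eq_one.1 e1 hm)
      rw [e2, mul_inv_cancel_right] at e
      exact hc₀ (e ▸ hc)
  have anti : ∀ x ∈ st ρ U, orderOf x = 3 → (∀ t ∈ pw ρ U, Commute x t → t = 1) →
      ∀ s ∈ pw ρ U, ρ x * (ρ s - 1) = (ρ s - 1) * ρ x⁻¹ := by
    intro x hx ox hc
    have e : ∀ s ∈ pw ρ U, s ∈ ⁅pw ρ U, zpowers x⁆ := fun s hs => by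
      obtain ⟨t, ht, rfl⟩ := surj hx hc hs
      exact commutator_mem_commutator ht (mem_zpowers x)
    obtain ⟨-, -, -, h3⟩ := hQ V L ρ (pw ρ U) x B ox (pw_pgroup B.free hU) (st_le_normalizer U hx)
      fun e1 => t₀1 (mem_bot.1 (e1 ▸ e t₀ ht₀))
    exact fun s hs => h3 s (e s hs)
  have nrm : ∀ g, g * π ⟨d, dM⟩ * g⁻¹ ∈ zpowers (π ⟨d, dM⟩) := by
    intro g
    obtain ⟨⟨m, hm⟩, rfl⟩ := QuotientGroup.mk'_surjective _ g
    have od : orderOf (m * d * m⁻¹) = 3 := ((MulAut.conj m).orderOf_eq d).trans hd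
    have hm' : m * d * m⁻¹ ∈ st ρ U := mul_mem (mul_mem hm dM) (inv_mem hm)
    have a1 := anti _ hm' od fun t ht hc => by
      have := hα (m⁻¹ * t * m⁻¹⁻¹) (conj_mem_pw (inv_mem hm) ht) (by
        have := hc.map (MulAut.conj m⁻¹)
        simp only [MulAut.conj_apply] at this
        convert this using 1; group)
      rwa [mul_inv_eq_one, mul_eq_left] at this
    have a2 := anti d dM hd hα t₀ ht₀
    have a3 : ρ (d * t₀ * d⁻¹) - 1 = ρ d * ρ d * (ρ t₀ - 1) := by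
      rw [mul_assoc (ρ d), a2, ← mul_assoc, mul_sub, sub_mul, mul_one, ← map_mul, ← map_mul,
        ← map_mul, mul_inv_cancel, map_one]
    have a4 := a1 _ (conj_mem_pw dM ht₀)
    rw [a3, mul_assoc _ (ρ t₀ - 1), ← a1 _ ht₀] at a4
    have a5 : Commute (π ⟨_, hm'⟩) (π ⟨d, dM⟩ * π ⟨d, dM⟩) := by
      refine sec_inj le_rfl (LinearMap.ext fun y => Subtype.ext ?_)
      obtain ⟨v, hv⟩ := B.onto h.cV ht₀ t₀1 y.2
      rw [← map_mul, ← map_mul, ← map_mul]
      refine (sec_mk le_rfl _ y).trans (Eq.trans ?_ (sec_mk le_rfl _ y).symm)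
      rw [← hv]
      simpa only [coe_mul, map_mul, Module.End.mul_apply, LinearMap.sub_apply,
        Module.End.one_apply] using congrArg (· v) a4
    have a6 : π ⟨d, dM⟩ = (π ⟨d, dM⟩ * π ⟨d, dM⟩) ^ 2 := by
      rw [← sq, ← pow_mul, show 2 * 2 = 3 + 1 from rfl, pow_succ, ← o3 ⟨d, dM⟩ hd,
        pow_orderOf_eq_one, one_mul]
    have a7 : Commute (π ⟨_, hm'⟩) (π ⟨d, dM⟩) := a6 ▸ a5.pow_right 2
    refine mem_three BX.cyc (o3 ⟨d, dM⟩ hd) (x := π ⟨_, hm'⟩) (o3 _ od) ?_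
    rw [a7.eq, mul_inv_cancel_right]
    exact mem_zpowers _
  have K : ∀ x ∈ st ρ U, orderOf x = 3 →
      ∃ t ∈ pw ρ U, t * d * t⁻¹ = x ∨ t * d * t⁻¹ = x⁻¹ := by
    intro x hx ox
    have key : ∀ y : st ρ U, π y = π ⟨d, dM⟩ → ∃ t ∈ pw ρ U, t * d * t⁻¹ = y := fun y hy => by
      obtain ⟨t, ht, e⟩ := surj dM hα (s := y.1 * d⁻¹) ((π1 (y * ⟨d, dM⟩⁻¹)).1 (by
        rw [map_mul, map_inv, hy, mul_inv_cancel]))
      exact ⟨t, ht, mul_right_cancel e⟩
    have h1 := mem_three BX.cyc (o3 ⟨d, dM⟩ hd) (o3 ⟨x, hx⟩ ox) (nrm _)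
    have h3 := pow_orderOf_eq_one (π ⟨d, dM⟩)
    rw [mem_zpowers_iff_mem_range_orderOf, o3 ⟨d, dM⟩ hd, Finset.mem_image] at h1
    rw [o3 ⟨d, dM⟩ hd] at h3
    obtain ⟨i, hi, e⟩ := h1
    rw [Finset.mem_range] at hi
    interval_cases i
    · have := o3 ⟨x, hx⟩ ox
      rw [← e, pow_zero, orderOf_one] at this
      exact absurd this (by decide)
    · exact (key ⟨x, hx⟩ (by rw [← e, pow_one])).imp fun t h => ⟨h.1, Or.inl h.2⟩
    · refine (key ⟨x, hx⟩⁻¹ ?_).imp fun t h => ⟨h.1, Or.inr h.2⟩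
      rw [map_inv, ← e, inv_eq_iff_mul_eq_one, ← pow_succ, h3]
  have h31 : Nat.card (pw ρ U) ≡ 1 [MOD 3] := by
    haveI := Fintype.ofFinite (pw ρ U)
    let f : Function.End (pw ρ U) := fun t => ⟨d * t * d⁻¹, conj_mem_pw dM t.2⟩
    have h3 : d * d * d = 1 := by rw [← pow_three', ← hd, pow_orderOf_eq_one]
    have := Equiv.Perm.card_fixedPoints_modEq (f := f) (p := 3) (n := 1) (funext fun t =>
      Subtype.ext (by
        change d * (d * (d * t * d⁻¹) * d⁻¹) * d⁻¹ = t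
        rw [show d * (d * (d * t * d⁻¹) * d⁻¹) * d⁻¹ = d * d * d * t * (d * d * d)⁻¹ by group, h3]
        simp))
    rw [Nat.card_eq_fintype_card]
    refine this.trans (congrArg (· % 3) (Fintype.card_eq_one_iff.2
      ⟨⟨1, Subtype.ext (by simp [f])⟩, fun t => Subtype.ext (Subtype.ext ?_)⟩))
    exact hα _ t.1.2 (mul_inv_eq_iff_eq_mul.1 (congrArg Subtype.val t.2))
  have comp : ∀ g, g ∉ st ρ U → ∃ t ∈ pw ρ U, g⁻¹ * (t * d * t⁻¹) * g ∈ st ρ U := by
    intro g hg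
    let Kg := st ρ U ⊓ (st ρ U).comap (MulAut.conj g⁻¹).toMonoidHom
    have hK : ∀ x, x ∈ Kg ↔ x ∈ st ρ U ∧ g⁻¹ * x * g ∈ st ρ U := fun x => by simp [Kg]
    have hi := idx (K := Kg) inf_le_left ht₀ t₀1 fun s hs s1 =>
      (trans h hg ht₀ t₀1 hs s1).imp fun m h => ⟨(hK m).2 ⟨h.1, h.2.1⟩, h.2.2⟩
    have h3 : 3 ∣ Nat.card Kg := by
      refine dvd_trans ?_ (relIndex_dvd_card (centralizer {t₀}) Kg)
      rw [← hi, Nat.ModEq] at h31
      omega
    obtain ⟨x, hx, ox⟩ := exists_orderOf_eq_prime_of_dvd_card h3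
    obtain ⟨t, ht, e | e⟩ := K x hx.1 ox
    · exact ⟨t, ht, e ▸ ((hK x).1 hx).2⟩
    · exact ⟨t, ht, e ▸ ((hK _).1 (inv_mem hx)).2⟩
  obtain ⟨t₁, ht₁, hx⟩ := comp g₀ hg₀
  have TM : pw ρ U ≤ st ρ U := pw_le_st U
  set x := t₁ * d * t₁⁻¹ with hxd
  have xM : x ∈ st ρ U := mul_mem (mul_mem (TM ht₁) dM) (inv_mem (TM ht₁))
  have ox : orderOf x = 3 := ((MulAut.conj t₁).orderOf_eq d).trans hd
  obtain ⟨j, -, cj, e⟩ := h.swap hg₀ ht₀ t₀1 ht₀ t₀1
  have jj := h.el_sq ⟨t₀, ht₀, t₀1, cj⟩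
  have ji := inv_eq_of_mul_eq_one_right jj
  have jM : g₀⁻¹ * j ∈ st ρ U := h.base.mem_st_of_conj h.cV ht₀ t₀1 (by
    rw [mul_inv_rev, inv_inv, ji, show g₀⁻¹ * j * t₀ * (j * g₀) = g₀⁻¹ * (j * t₀ * j) * g₀ by group, e]
    simpa [mul_assoc] using ht₀)
  have y1 : j * x * j ∈ st ρ U := by
    have := mul_mem (mul_mem (inv_mem jM) hx) jM
    rwa [show (g₀⁻¹ * j)⁻¹ * (g₀⁻¹ * x * g₀) * (g₀⁻¹ * j) = j⁻¹ * x * j by group, ji] at this
  have y2 : g₀⁻¹ * (j * x * j) * g₀ ∈ st ρ U := by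
    have := mul_mem (mul_mem jM xM) (inv_mem jM)
    rwa [show g₀⁻¹ * j * x * (g₀⁻¹ * j)⁻¹ = g₀⁻¹ * (j * x * j⁻¹) * g₀ by group, ji] at this
  have uniq : ∀ t ∈ pw ρ U, g₀⁻¹ * (t * d * t⁻¹) * g₀ ∈ st ρ U → t * d * t⁻¹ = x := by
    intro t ht h1
    by_contra hn
    have h2 : t * d * t⁻¹ * x⁻¹ ∈ pw ρ U := by
      have := mul_mem (mul_mem ht (conj_mem_pw dM (mul_mem (inv_mem ht) ht₁))) (inv_mem ht₁)
      convert this using 1
      rw [hxd]; group
    refine hg₀ (h.el_fix h2 (fun e => hn (mul_inv_eq_one.1 e)) ?_)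
    convert mul_mem h1 (inv_mem hx) using 1
    group
  have hj : j * x * j = x⁻¹ := by
    obtain ⟨t, ht, e1 | e1⟩ := K _ y1 (by
      rw [← ox, ← (MulAut.conj j).orderOf_eq x, MulAut.conj_apply, ji])
    · exfalso
      have e2 : j * x * j = x := e1 ▸ uniq t ht (e1 ▸ y2)
      obtain ⟨c, rfl⟩ := isConj_iff.1 cj
      have e3 : Commute (c⁻¹ * x * c) t₀ := by
        have e4 : c * t₀ * c⁻¹ * x = x * (c * t₀ * c⁻¹) := by
          rw [← mul_inv_eq_iff_eq_mul, ji, e2]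
        calc c⁻¹ * x * c * t₀ = c⁻¹ * (x * (c * t₀ * c⁻¹)) * c := by group
          _ = _ := by rw [← e4]; group
      obtain ⟨s, hs, e5⟩ := K _ (B.mem_st_of_comm h.cV ht₀ t₀1 e3.eq) (by
        rw [← ox, ← (MulAut.conj c⁻¹).orderOf_eq x, MulAut.conj_apply, inv_inv])
      have e6 : Commute (s * d * s⁻¹) t₀ := e5.elim (· ▸ e3) (· ▸ e3.inv_left)
      have e7 : Commute s t₀ := B.comm h.cV hs ht₀
      have := (e7.inv_left.mul_left e6).mul_left e7
      exact hc₀ (by simpa [mul_assoc] using this)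
    · have e2 := uniq t ht (by
        rw [e1]; convert inv_mem y2 using 1; group)
      exact inv_eq_iff_eq_inv.1 (e1.symm.trans e2)
  refine ti_of_card T hL h (h.core xM (ox ▸ (by decide)) (fun e => ?_) ⟨t₀, ht₀, t₀1, cj⟩ hj
    fun g hg => ?_)
  · rw [e, orderOf_one] at ox
    exact absurd ox (by decide)
  · obtain ⟨t, ht, h1⟩ := comp g hg
    refine ⟨t * t₁⁻¹, mul_mem ht (inv_mem ht₁), ?_⟩
    convert h1 using 2
    rw [hxd]; group

end Cfsg.G41.P2.WC
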