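import Cfsg.Agent.G41.P2MXa
import Cfsg.Agent.G41.P2QB

/-! `p = 2`: weak closure of the elation group (`StWK`) and the case `3 ∣ |N(S)|` (`StK3`). -/

set_option autoImplicit false

namespace Cfsg.G41.P2.WK

open Subgroup
open scoped commutatorElement Pointwise

universe u

variable {V : Type} [AddCommGroup V] [Module (ZMod 2) V] [Finite V] {L : Type u} [Group L]
  [Finite L] {ρ : L →* Module.End (ZMod 2) V} {U : Submodule (ZMod 2) V}

omit [Finite V] [Finite L] in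
theorem mem_map {h : L} {v : V} : v ∈ U.map (ρ h) ↔ ρ h⁻¹ v ∈ U :=
  ⟨fun ⟨u, hu, e⟩ => by rw [← e, rho_inv_self]; exact hu, fun hv => ⟨_, hv, rho_self_inv ρ h v⟩⟩

omit [Finite V] [Finite L] in
theorem mem_pw_map {h x : L} : x ∈ pw ρ (U.map (ρ h)) ↔ h⁻¹ * x * h ∈ pw ρ U :=
  ⟨fun hx u hu => by rw [rho_mul, rho_mul, hx _ ⟨u, hu, rfl⟩, rho_inv_self], fun hx _ ⟨u, hu, e⟩ => by
    have := congrArg (ρ h) (hx u hu)
    rwa [rho_mul, rho_mul, rho_self_inv, e] at this⟩

omit [Finite V] [Finite L] in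
theorem card_map (h : L) : Nat.card (U.map (ρ h)) = Nat.card U :=
  (Nat.card_congr (Submodule.equivMapOfInjective _ (rho_inj h) U).toEquiv).symm

omit [Finite L] in
theorem mem_st_of_map {h : L} (e : U = U.map (ρ h)) : h ∈ st ρ U :=
  mem_st_of_le fun u hu => e ▸ ⟨u, hu, rfl⟩

theorem norm_of_comm_le {A : Subgroup L} {d : L} (h : ⁅A, zpowers d⁆ ≤ A) :
    d ∈ normalizer (A : Set L) := mem_normalizer_fintype fun a (ha : a ∈ A) => by
  have h1 := mul_mem (inv_mem (h (commutator_mem_commutator ha (mem_zpowers d)))) ha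
  rwa [show ⁅a, d⁆⁻¹ * a = d * a * d⁻¹ by group] at h1

theorem stWK : StWK.{u} := by
  intro V _ _ _ L _ _ ρ U D d T B cV hd hdU hD hTD hdD hDd hne hyp
  have ne : pw ρ U ≠ ⊥ := fun e => hne (by rw [e, commutator_bot_left])
  have E2 : ∀ g, (∀ t ∈ pw ρ U, g * t * g⁻¹ ∈ st ρ U) → (∀ t ∈ pw ρ U, g⁻¹ * t * g ∈ st ρ U) →
      g ∈ st ρ U := by
    intro g h1 h2
    by_contra hg
    have hc : ∀ t ∈ pw ρ U, ∀ t' ∈ pw ρ U, Commute t (g * t' * g⁻¹) := fun t ht t' ht' => by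
      rw [← commutatorElement_eq_one_iff_commute]
      by_contra c1
      refine hg (mem_st_of_map (B.axis_eq cV (by rwa [card_map]) ?_ (mem_pw_map.2 ?_) c1))
      · have := mul_mem ht (conj_mem_pw (h1 t' ht') (inv_mem ht))
        rwa [← mul_assoc, ← mul_assoc] at this
      · have := mul_mem (conj_mem_pw (h2 t ht) ht') (inv_mem ht')
        rwa [show g⁻¹ * t * g * t' * (g⁻¹ * t * g)⁻¹ * t'⁻¹ = g⁻¹ * ⁅t, g * t' * g⁻¹⁆ * g by
          group] at this
    have hP : ∀ h, IsPGroup 2 (pw ρ (U.map (ρ h))) := fun h =>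
      pw_pgroup T.free (B.U_ne (by rwa [card_map]))
    obtain ⟨m, hm, a1⟩ := hyp _ (hP g) fun x hx t ht => by
      simpa [mul_assoc] using (hc t ht _ (mem_pw_map.1 hx)).eq
    obtain ⟨m', hm', a2⟩ := hyp _ (hP g⁻¹) fun x hx t ht => by
      have := (hc _ (mem_pw_map.1 hx) t ht).eq
      calc t * x = g⁻¹ * (g * t * g⁻¹ * (g⁻¹⁻¹ * x * g⁻¹)) * g := by group
        _ = _ := by rw [← this]; group
    set h := m * g * m'⁻¹ with hh
    set A := D ⊓ D.comap (MulAut.conj h⁻¹).toMonoidHom with hA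
    have memA : ∀ x, x ∈ A ↔ x ∈ D ∧ h⁻¹ * x * h ∈ D := fun x => by simp [hA]
    have b1 : pw ρ U ≤ A := fun t ht => (memA t).2 ⟨hTD ht, by
      have := a2 (g⁻¹ * (m⁻¹ * t * m⁻¹⁻¹) * g)
        (mem_pw_map.2 (by simpa [mul_assoc] using conj_mem_pw (inv_mem hm) ht))
      simpa [hh, mul_assoc] using this⟩
    have b2 : pw ρ (U.map (ρ h)) ≤ A := fun t ht => (memA t).2 ⟨by
      have := a1 (m⁻¹ * t * m) (mem_pw_map.2 (by
        simpa [hh, mul_assoc] using conj_mem_pw (inv_mem hm') (mem_pw_map.1 ht)))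
      simpa [mul_assoc] using this, hTD (mem_pw_map.1 ht)⟩
    have c1 : ⁅A, zpowers d⁆ ≤ pw ρ U := (commutator_mono inf_le_left le_rfl).trans hDd
    have c2 : ⁅A, zpowers (h * d * h⁻¹)⁆ ≤ pw ρ (U.map (ρ h)) := commutator_le.2 <| by
      rintro a ha _ ⟨k, rfl⟩
      refine mem_pw_map.2 ?_
      have := hDd (commutator_mem_commutator ((memA a).1 ha).2 (zpow_mem_zpowers d k))
      simp only [conj_zpow]
      rwa [show h⁻¹ * ⁅a, h * d ^ k * h⁻¹⁆ * h = ⁅h⁻¹ * a * h, d ^ k⁆ by group]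
    have c3 : ⁅A, zpowers (h * d * h⁻¹)⁆ ≠ ⊥ := fun e => hne <| eq_bot_iff.2 <| commutator_le.2 <| by
      rintro t ht _ ⟨k, rfl⟩
      have := e.le (commutator_mem_commutator (b2 ((mem_pw_map (x := h * t * h⁻¹)).2
        (by simpa [mul_assoc] using ht))) (zpow_mem_zpowers _ k))
      rw [conj_zpow, mem_bot, show ⁅h * t * h⁻¹, h * d ^ k * h⁻¹⁆ = h * ⁅t, d ^ k⁆ * h⁻¹ by group,
        conj_eq_one_iff] at this
      exact this
    have h3 := mem_st_of_map (QB.stB V L ρ A d _ U _ B hd ((MulAut.conj h).orderOf_eq d ▸ hd)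
      (hD.to_le inf_le_left) (norm_of_comm_le (c1.trans b1)) (norm_of_comm_le (c2.trans b2))
      (fun e => hne (eq_bot_iff.2 (e ▸ commutator_mono b1 le_rfl))) c3 cV (by rwa [card_map]) c1 c2)
    exact hg (by simpa [hh, mul_assoc] using mul_mem (mul_mem (inv_mem hm) h3) hm')
  have E3 : ∀ x ∈ U, x ≠ 0 → vs ρ x ≤ st ρ U := fun x hx x0 => by
    by_contra hn
    have := (vs_pgroup T.free x0).isNilpotent
    obtain ⟨g, hg, hgN⟩ := SetLike.exists_of_lt (Group.normalizerCondition_of_isNilpotent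
      ((st ρ U).subgroupOf (vs ρ x)) (lt_top_iff_ne_top.2 fun e => hn (subgroupOf_eq_top.1 e)))
    exact hgN (E2 g (fun t ht => (mem_normalizer_iff.1 hg ⟨t, ht x hx⟩).1 (pw_le_st U ht))
      fun t ht => by
        have := (mem_normalizer_iff.1 (inv_mem hg) ⟨t, ht x hx⟩).1 (pw_le_st U ht)
        rwa [inv_inv] at this)
  refine ⟨B, cV, ne, fun g w hw w0 hg => E2 g (fun t ht => E3 _ hg (rho_ne ρ g w0) ?_)
    fun t ht => E3 w hw w0 ?_, fun v => ?_⟩
  · rw [mem_vs, rho_mul, rho_mul, rho_inv_self, ht w hw]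
  · rw [mem_vs, rho_mul, rho_mul, ht _ hg, rho_inv_self]
  · by_cases v0 : v = 0
    · exact ⟨1, by rw [v0, map_zero]; exact zero_mem _⟩
    obtain ⟨P, hP⟩ := T.syl v v0
    obtain ⟨Q, hQ⟩ := (pw_pgroup T.free (B.U_ne cV)).exists_le_sylow
    obtain ⟨g, rfl⟩ := MulAction.exists_smul_eq L P Q
    exact ⟨g, B.fx_pw cV ne ▸ fx_anti hQ (smul_mem_fx g hP)⟩

theorem stK3 (hWC : StWC.{u}) : StK3.{u} := by
  intro V _ _ _ L _ _ ρ S ih T B hL h3
  have : Fact (Nat.Prime 3) := ⟨Nat.prime_three⟩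
  obtain ⟨d, hdN, hd⟩ := exists_orderOf_eq_prime_of_dvd_card h3
  have d1 : d ≠ 1 := fun e => by rw [e, orderOf_one] at hd; omega
  have d3 : d * d * d = 1 := by rw [← pow_three', ← hd, pow_orderOf_eq_one]
  by_cases h0 : ⁅(S : Subgroup L), zpowers d⁆ = ⊥
  · exfalso
    have hP : IsPGroup 3 (zpowers d) :=
      IsPGroup.of_card (n := 1) (by rw [Nat.card_zpowers, pow_one, hd])
    obtain ⟨R, hR⟩ := hP.exists_le_sylow
    have := T.nt
    have hRc : IsCyclic R := T.free.cyclic_of_pgroup (by decide) (by decide) R.2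
    refine PFree.not_nil_of_perfect hL Nat.prime_three (hd ▸ orderOf_dvd_natCard d)
      (hasNormalPComplement_of_normalizer_le_centralizer R fun g hg => ?_)
    refine mem_centralizer_of_cyclic_of_fixed R.2 hRc le_rfl (fun h => R.not_dvd_index (h.trans
      ((relIndex_dvd_of_le_left _ (le_centralizer_iff_isMulCommutative.2
        inferInstance)).trans (relIndex_dvd_index_of_le le_normalizer)))) hg
      (hR (mem_zpowers d)) d1 ?_
    have hn : g * d * g⁻¹ ∈ zpowers d := mem_zpowers_of_pow_prime_eq_one R.2 hRc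
      (hR (mem_zpowers d)) d1 ((mem_normalizer_iff.1 hg d).1 (hR (mem_zpowers d)))
      (by rw [conj_pow, ← hd, pow_orderOf_eq_one]; simp)
    have hSC := commutator_eq_bot_iff_le_centralizer.1 h0
    have hCN := centralizer_le_normalizer (zpowers d : Set L)
    have h1 : g ^ (centralizer (zpowers d : Set L)).relIndex (normalizer (zpowers d : Set L)) ∈
        centralizer (zpowers d : Set L) := pow_index_mem (H := (centralizer
      (zpowers d : Set L)).subgroupOf (normalizer (zpowers d : Set L))) ⟨g, PFree.norm_of_conj hn⟩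
    obtain ⟨k, hk⟩ : Odd ((centralizer (zpowers d : Set L)).relIndex
        (normalizer (zpowers d : Set L))) := Nat.not_even_iff_odd.1 fun e => S.not_dvd_index
      (e.two_dvd.trans ((relIndex_dvd_index_of_le hCN).trans (index_dvd_of_le hSC)))
    have h2 : Commute (g ^ 2) d := by
      refine mul_inv_eq_iff_eq_mul.1 ?_
      rcases QB.three_cases hd hn with e | e | e
      · exact absurd (conj_eq_one_iff.1 e) d1
      · calc _ = g * (g * d * g⁻¹) * g⁻¹ := by rw [sq]; group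
          _ = _ := by rw [e, e]
      · calc _ = g * (g * d * g⁻¹) * g⁻¹ := by rw [sq]; group
          _ = g * (d * d) * g⁻¹ := by rw [e]
          _ = (g * d * g⁻¹) * (g * d * g⁻¹) := by group
          _ = _ := by rw [e, ← mul_assoc, d3, one_mul]
    have h4 : Commute (g ^ (2 * k + 1)) d := (hk ▸ h1 : _ ∈ centralizer _) d (mem_zpowers d) |>.symm
    rw [pow_succ, pow_mul] at h4
    have h5 : Commute g d := by simpa using (h2.pow_left k).inv_left.mul_left h4
    rw [h5.eq, mul_inv_cancel_right]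
  obtain ⟨U, cV, h1, h2⟩ := QB.stQ V L ρ S d B hd S.2 hdN h0
  obtain ⟨t, ht, t1⟩ := (bot_or_exists_ne_one _).resolve_left h0
  have hM : ∀ g ∈ normalizer ((⁅(S : Subgroup L), zpowers d⁆ : Subgroup L) : Set L), g ∈ st ρ U :=
    fun g hg => B.mem_st_of_conj cV (h1 ht) t1 (h1 ((mem_normalizer_iff.1 hg t).1 ht))
  have hdU : d ∈ st ρ U := hM d (FT.commg_normr _ _ (mem_zpowers d))
  have hSM : (S : Subgroup L) ≤ st ρ U := fun s hs => hM s (FT.commg_norml _ _ hs)
  have hSd : ⁅(S : Subgroup L), zpowers d⁆ ≤ S := commutator_le.2 fun a ha e he => by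
    have := mul_mem ha ((mem_normalizer_iff.1 (zpowers_le.2 hdN he) _).1 (inv_mem ha))
    rwa [← mul_assoc, ← mul_assoc] at this
  have hTS : pw ρ U ≤ S := fun x hx => by
    obtain ⟨w, hw, w0⟩ := MX.exists_fx T S
    exact MX.mem_of_fix T hw w0 (hx w ((B.fix_iff cV (h1 ht) t1).1 (hw t (hSd ht))))
  have hne : ⁅pw ρ U, zpowers d⁆ ≠ ⊥ := fun e => t1 <| B.inj <| LinearMap.ext fun v => by
    have h3 : d * t = t * d := commutator_eq_bot_iff_le_centralizer.1 e (h1 ht) d (mem_zpowers d)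
    have h4 : (ρ t - 1) * ρ d = (ρ t - 1) * ρ d⁻¹ := by
      rw [← h2 t ht, mul_sub, sub_mul, ← map_mul, ← map_mul, h3, mul_one, one_mul]
    have h5 : ρ (d * d) (ρ t v - v) = ρ t v - v := by
      have h6 : ρ (d * d) * (ρ t - 1) = ρ t - 1 := by
        rw [map_mul, mul_assoc, h2 t ht, ← h4, ← mul_assoc, h2 t ht, mul_assoc, ← map_mul,
          inv_mul_cancel, map_one, mul_one]
      exact LinearMap.congr_fun h6 v
    have h6 : orderOf (d * d) = 3 := by
      rw [eq_inv_of_mul_eq_one_left d3, orderOf_inv, hd]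
    rw [map_one]
    exact sub_eq_zero.1 (B.odd_fix (h6 ▸ by decide)
      (fun e => by rw [e, orderOf_one] at h6; omega) h5)
  refine hWC V L ρ U d ih T hL (stWK V L ρ U S d T B cV hd hdU S.2 hTS hdN h1 hne
    fun R hR hC => ?_) hd hdU hne
  have hRM : R ≤ st ρ U := fun r hr => B.mem_st_of_comm cV (h1 ht) t1 (hC hr t (h1 ht)).symm
  obtain ⟨Q, hQ⟩ := (hR.comap_subtype (K := st ρ U)).exists_le_sylow
  obtain ⟨m, hm⟩ := MulAction.exists_smul_eq (st ρ U) Q (S.subtype hSM)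
  refine ⟨m, m.2, fun r hr => ?_⟩
  have h3 : m * ⟨r, hRM hr⟩ * m⁻¹ ∈ ((m • Q : Sylow 2 _) : Subgroup (st ρ U)) := ⟨_, hQ hr, rfl⟩
  rwa [hm] at h3

end Cfsg.G41.P2.WK
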