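import Cfsg.Agent.G41.P2Basic
import Cfsg.Agent.G41.Struct
import Cfsg.Agent.G41.Q1

/-! `p = 2`: the pieces `StP2a`, `StP2b` from the main induction. -/

set_option autoImplicit false

namespace Cfsg.G41.P2

open Subgroup

universe u

variable {V : Type} [AddCommGroup V] [Module (ZMod 2) V] [Finite V] {L : Type u} [Group L]
  [Finite L] {ρ : L →* Module.End (ZMod 2) V}

theorem ti_perfect (hI : ∀ n, IH.{u} n) (hT : StTI.{u}) (hs : Star ρ) [Nontrivial L]
    (hp : _root_.commutator L = ⊤) (S : Sylow 2 L) :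
    Sp ρ (fx ρ S) ∧ pw ρ (fx ρ S) = S ∧ Nat.card S = Nat.card (fx ρ S) ∧ 4 ≤ Nat.card S ∧
      Nat.card L = (Nat.card S + 1) * (Nat.card S * (Nat.card S - 1)) := by
  have hb := base_of_perfect hs hp (hs.eq_bot (isPGroup_pCore 2 L))
  have h2 : 2 ∣ Nat.card L := by
    by_contra h
    have := hb.cyc ⊤ (by rw [card_top]; exact Nat.odd_iff.2 (by omega))
    have : IsCyclic L := isCyclic_of_surjective _ topEquiv.surjective
    have h1 : _root_.commutator L = ⊥ := by
      rw [_root_.commutator_def, commutator_eq_bot_iff_le_centralizer]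
      exact fun x _ y _ => IsCyclic.commGroup.mul_comm y x
    exact top_ne_bot (hp.symm.trans h1)
  obtain ⟨h1, h3, -, h | h⟩ := hT V L ρ S hs hb (hI _ V L ρ (Nat.lt_succ_self _) hs hb hp)
    (S.ne_bot_of_dvd_card h2)
  · exact absurd (hasNormalPComplement_two_of_isCyclic S (isCyclic_of_prime_card h))
      (PFree.not_nil_of_perfect hp Nat.prime_two h2)
  · exact ⟨h1, h3, h.1, h.2.1, h.2.2.2.1⟩

theorem stP2a (hI : ∀ n, IH.{u} n) (hT : StTI.{u}) : StP2a.{u} := by
  intro V _ _ _ L _ _ ρ hs _ hp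
  obtain ⟨S⟩ : Nonempty (Sylow 2 L) := inferInstance
  obtain ⟨-, -, -, h4, h⟩ := ti_perfect hI hT hs hp S
  rw [h]
  generalize Nat.card S = f at h4
  rcases (by omega : 3 ∣ f + 1 ∨ 3 ∣ f ∨ 3 ∣ f - 1) with h | h | h
  · exact h.mul_right _
  · exact (h.mul_right _).mul_left _
  · exact (h.mul_left _).mul_left _

theorem stP2b (hI : ∀ n, IH.{u} n) (hT : StTI.{u}) : StP2b.{u} := by
  intro V _ _ _ H _ _ ρ K T C _ _
  haveI := C.normal
  have hs := stStar 2 V H ρ K T inferInstance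
  obtain ⟨S⟩ : Nonempty (Sylow 2 K) := inferInstance
  obtain ⟨h1, h2, h3, h4, -⟩ := ti_perfect hI hT hs C.perfect S
  refine Qd.c1_of_spr (W := fx (ρ.comp K.subtype) S) (E := (S : Subgroup K).map K.subtype)
    ⟨T.inj, ?_, ?_, ?_, ?_, h1.cV, fun k w hw w0 h w' hw' e he => ?_, ?_⟩ T.free (by omega)
  · rintro _ ⟨e, he, rfl⟩ w hw; exact hw e he
  · rintro _ ⟨e, he, rfl⟩; exact h1.base.sub_mem h1.cV (h2.ge he)
  · rintro _ ⟨e, he, rfl⟩ v h
    exact or_iff_not_imp_left.2 fun e1 =>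
      (h1.base.fix_iff h1.cV (h2.ge he) fun e2 => e1 (by simp [e2])).1 h
  · rw [← h3, card_map_of_injective K.subtype_injective]
  · have hm : k⁻¹ * e * k ∈ K := Normal.conj_mem' inferInstance _ e.2 k
    have h5 : (⟨_, hm⟩ : K) ∈ (S : Subgroup K) := (vs_eq hs.free w0 hw).le (by
      change ρ (k⁻¹ * e * k) w = w
      rw [rho_mul, rho_mul, show ρ e (ρ k w) = ρ k w from h e he, rho_inv_self])
    have h6 : ρ (k⁻¹ * e * k) w' = w' := hw' _ h5
    rw [rho_mul, rho_mul] at h6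
    have := congrArg (ρ k) h6
    rwa [rho_self_inv] at this
  · haveI := T.nt
    obtain ⟨w, hw, w0⟩ := (Submodule.ne_bot_iff _).1 (h1.base.U_ne h1.cV)
    have hne : ∃ v, v ∉ fx (ρ.comp K.subtype) S := by
      by_contra h
      push Not at h
      have cV := h1.cV
      rw [Submodule.eq_top_iff'.2 h, Nat.card_congr Submodule.topEquiv.toEquiv] at cV h3
      nlinarith
    obtain ⟨v, hv⟩ := hne
    obtain ⟨k, hk⟩ := T.trans w v w0 fun e => hv (e ▸ zero_mem _)
    exact ⟨k, w, hw, hk ▸ hv⟩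

end Cfsg.G41.P2
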