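import Cfsg.Agent.G41.X1
import Cfsg.Agent.G41.Quad

/-!
# S4841, `p = 3`: the piece `StX2`
-/

set_option autoImplicit false

namespace Cfsg.G41

open Subgroup Cfsg.FT Cfsg.Gag Cfsg.GW
open scoped Pointwise

universe u

theorem Tr.card_dvd {p : ℕ} [Fact p.Prime] {V : Type} [AddCommGroup V] [Module (ZMod p) V]
    [Finite V] {H : Type u} [Group H] {ρ : H →* Module.End (ZMod p) V} (h : Tr ρ) :
    Nat.card V - 1 ∣ Nat.card H := by
  classical
  let _ : MulAction H V :=
    { smul k u := ρ k u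
      one_smul u := by change ρ (1 : H) u = u; rw [map_one]; rfl
      mul_smul a b u := by change ρ (a * b : H) u = ρ a (ρ b u); rw [map_mul]; rfl }
  haveI := h.nt
  obtain ⟨v, hv⟩ := exists_ne (0 : V)
  have h1 : MulAction.orbit H v = {0}ᶜ := by
    ext u
    exact ⟨by rintro ⟨g, rfl⟩; exact rho_ne ρ g hv, fun hu => h.trans v u hv hu⟩
  have h2 := (MulAction.stabilizer H v).index_dvd_card
  rwa [MulAction.index_stabilizer, h1, Set.ncard_compl, Set.ncard_singleton] at h2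

theorem card_three_pow {p : ℕ} [hp : Fact p.Prime] (V : Type) [AddCommGroup V] [Module (ZMod p) V]
    [Finite V] [Nontrivial V] : ¬ p ∣ Nat.card V - 1 := by
  have hV : p ∣ Nat.card V := by
    haveI : Module.Finite (ZMod p) V := Module.Finite.of_finite
    rw [Module.natCard_eq_pow_finrank (K := ZMod p), Nat.card_zmod]
    exact dvd_pow_self _ Module.finrank_pos.ne'
  intro h
  have := (Nat.dvd_sub_iff_right Nat.card_pos hV).1 h
  exact hp.out.one_lt.ne' (Nat.dvd_one.1 this)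

theorem x2_arith {N a b v i c : ℕ} (ha : 1 < a) (hb : 1 < b) (h1 : N ∣ a - 1) (h2 : N ∣ a * b - 1)
    (hv : (a * b) * (a * b) ≤ v) (hi : v - 1 ≤ 2 * i * N) (hc : c ≤ N) (hN : 16 ≤ N) :
    8 * c ^ 2 < i := by
  have h3 : N ∣ b - 1 := by
    have e : a * b - 1 = (a - 1) * b + (b - 1) := by
      obtain ⟨a, rfl⟩ := Nat.exists_eq_add_of_lt ha
      obtain ⟨b, rfl⟩ := Nat.exists_eq_add_of_lt hb
      simp only [show 1 + a + 1 - 1 = 1 + a by omega,
        show 1 + b + 1 - 1 = 1 + b by omega]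
      exact Nat.sub_eq_of_eq_add (by ring)
    rw [e] at h2
    exact (Nat.dvd_add_right (h1.mul_right b)).1 h2
  have h4 : N + 1 ≤ a := by have := Nat.le_of_dvd (by omega) h1; omega
  have h5 : N + 1 ≤ b := by have := Nat.le_of_dvd (by omega) h3; omega
  have h6 : (N + 1) * (N + 1) ≤ a * b := Nat.mul_le_mul h4 h5
  have h7 : (N + 1) * (N + 1) * ((N + 1) * (N + 1)) ≤ v := (Nat.mul_le_mul h6 h6).trans hv
  have h8 : c ^ 2 ≤ N ^ 2 := Nat.pow_le_pow_left hc 2
  by_contra h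
  have h9 : i ≤ 8 * N ^ 2 := by omega
  have h10 : 2 * i * N ≤ 2 * (8 * N ^ 2) * N := by gcongr
  have h11 : 16 * N ^ 3 ≤ N * N ^ 3 := Nat.mul_le_mul_right _ hN
  have h12 : v ≤ 2 * i * N + 1 := by omega
  nlinarith [Nat.zero_le (N ^ 3), Nat.zero_le (N ^ 2)]

theorem stX2 : StX2.{u} := by
  intro V _ _ _ H _ _ ρ K G _ _ π S σ τ m c hm R hR0 hR hRC hCR
  haveI := c.tr.nt
  haveI := c.cmp.normal
  obtain ⟨x, w, r, j, hxS, hxσ, hxx, hw, hr, hj, hwr, hr4, hjr⟩ := c.exists_r hm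
  have d := c.dc hm
  have hxS' : x ∈ S := commutator_le_self S hxS
  obtain ⟨Y, hY, -, hSY⟩ := hall_cent c.cyc (oc_odd (σ ^ m)) c.syl.pgroup (d.St.trans (oc_norm _))
  have hne : (-1 : Module.End (ZMod 3) V) ≠ 1 := fun e => by
    obtain ⟨v, hv0⟩ := exists_ne (0 : V)
    have := congrArg (fun f : Module.End (ZMod 3) V => f v) e
    simp only [LinearMap.neg_apply, Module.End.one_apply] at this
    exact hv0 (two_inj (neg_eq_iff_add_eq_zero.1 this))
  -- orders
  have hYo : Odd (Nat.card Y) := (oc_odd _).of_dvd_nat (card_dvd_of_le hY.le)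
  have hY3 : ¬ 3 ∣ Nat.card Y := fun h => hY.pi 3 Nat.prime_three h rfl
  obtain ⟨e, he⟩ := IsPGroup.iff_card.1 c.syl.pgroup
  have hS4 := c.dih.card
  have hc1 : ¬ 3 ∣ Nat.card Y * (4 * m) := fun h => by
    rcases (Nat.Prime.dvd_mul Nat.prime_three).1 h with h | h
    · exact hY3 h
    · rw [← hS4, he] at h
      exact absurd (Nat.prime_three.dvd_of_dvd_pow h) (by decide)
  have hc0 : ordCompl[3] (Nat.card 𝐂₁[σ ^ m]) ∣ Nat.card Y * (4 * m) := by
    have h1 := (mulEq_of_sup (d.St.trans (oc_norm _)) d.sup).card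
    obtain ⟨a, ha⟩ : ∃ a, Y.relIndex (oc (σ ^ m)) = 3 ^ a :=
      (piNat_singleton (relIndex_pos _ _).ne').1 (by simpa using hY.index)
    rw [← card_mul_relIndex hY.le, ha, hS4] at h1
    refine Nat.Coprime.dvd_of_dvd_mul_left
      ((Nat.coprime_ordCompl Nat.prime_three (Nat.card_pos (α := 𝐂₁[σ ^ m])).ne').symm.pow_right a)
      (((Nat.ordCompl_dvd _ _).trans (Dvd.intro _ h1)).trans (dvd_of_eq (by ring)))
  have hker : π.ker = ⟪r ^ 4⟫ := by
    have h4 : π (r ^ 4) = 1 := by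
      rw [map_pow, hr, show x ^ 4 = x * x * (x * x) by simp only [pow_succ, pow_zero]; group, hxx,
        d.tt]
    refine le_antisymm (fun z hz => ?_) (zpowers_le.2 h4)
    rcases c.ker_pm hz with h | h
    · rw [show z = 1 from Subtype.ext (c.tr.inj (by rw [h]; exact (map_one ρ).symm))]
      exact one_mem _
    · rw [show z = r ^ 4 from Subtype.ext (c.tr.inj (by rw [h, Subgroup.coe_pow, map_pow, hr4]))]
      exact mem_zpowers _
  have hK : Nat.card K ∣ 2 * (ii (σ ^ m) * Nat.card 𝐂₁[σ ^ m]) := by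
    rw [index_mul_card, ← card_mul_index π.ker, index_ker, MonoidHom.range_eq_top.2 c.surj,
      card_top, hker, Nat.card_zpowers]
    refine mul_dvd_mul_right (orderOf_dvd_of_pow_eq_one ?_) _
    rw [sq, ← c.ker, ← MonoidHom.mem_ker, hker]
    exact mem_zpowers _
  have hCK : Nat.card Y * (4 * m) ∣ Nat.card (𝐂₁[r] : Subgroup K) := by
    refine Nat.Coprime.mul_dvd_of_dvd_of_dvd ?_ ?_ ?_
    · rw [← hS4, he]; exact (Nat.coprime_two_right.2 hYo).pow_right e
    · refine (card_dvd_of_le fun y hy => ?_).trans (card_map_dvd _ π)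
      obtain ⟨k, rfl⟩ := c.surj y
      have h1 : π (k * r * k⁻¹ * r⁻¹) = 1 := by
        simp only [map_mul, map_inv, hr]
        rw [hSY hxS _ hy]; group
      have h2 := (c.ker _).1 h1
      have h3 := c.ker_comm' h1
      set z := k * r * k⁻¹ * r⁻¹ with hz
      have h4 : k * r = z * r * k := by rw [hz]; group
      have h5 : k ^ 2 ∈ 𝐂₁[r] := by
        rw [mem_centralizer_singleton_iff, sq, mul_assoc, h4, ← mul_assoc, ← mul_assoc, h3,
          mul_assoc z, h4, ← mul_assoc, ← mul_assoc, h2, one_mul, mul_assoc]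
      obtain ⟨n, hn⟩ := hYo
      refine ⟨(k ^ 2) ^ (n + 1), pow_mem h5 _, ?_⟩
      have h6 : π k ^ (2 * n + 1) = 1 := by
        rw [← hn]; exact congrArg Subtype.val (pow_card_eq_one' (G := Y) (x := ⟨_, hy⟩))
      rw [← pow_mul, map_pow, show 2 * (n + 1) = 2 * n + 1 + 1 by ring, pow_succ, h6, one_mul]
    · refine Dvd.dvd.trans ?_ (Subgroup.orderOf_dvd_natCard _ (mem_centralizer_singleton_iff.2 hwr))
      have h1 : 2 * m ∣ orderOf w := by rw [← c.dih.ord, ← hw]; exact orderOf_map_dvd π w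
      obtain ⟨k, hk⟩ := h1
      have h2 : w ^ (2 * m) ≠ 1 := fun h => d.t1 (by
        rw [← hw, ← map_pow, c.ker, ← pow_add, ← h]; congr 1; omega)
      have h3 : w ^ (2 * m * 2) = 1 := by
        rw [pow_mul, sq, ← c.ker, map_pow, hw, ← c.dih.ord, pow_orderOf_eq_one]
      have h4 := orderOf_dvd_of_pow_eq_one h3
      rw [hk] at h4
      rcases (Nat.dvd_prime Nat.prime_two).1 (Nat.dvd_of_mul_dvd_mul_left (by omega) h4) with
        rfl | rfl
      · exact absurd (by rw [← mul_one (2 * m), ← hk, pow_orderOf_eq_one]) h2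
      · rw [hk]; exact dvd_of_eq (by ring)
  -- the subspaces
  set CH := (𝐂₁[σ ^ m].comap π).map K.subtype with hCH
  set R0 := core {3} CH with hR0'
  have hR00 : R0 ≠ ⊥ := fun h => hR0 (by
    have h1 : (lift3 π R).map K.subtype ≤ R0 :=
      (map_mono (NormalIn.core_le ⟨comap_mono hRC, comap_norms π hCR⟩ _)).trans
        (morphim_pcore _ _ _)
    rw [h, le_bot_iff, map_eq_bot_iff_of_injective _ K.subtype_injective] at h1
    rw [← c.lift3_map hR, h1, Subgroup.map_bot])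
  let α : H → MulAut K := fun h => MulAut.conjNormal h
  have hα : ∀ (h : H) (k : K), ρ (α h k) * ρ h = ρ h * ρ k := fun h k => by
    rw [← map_mul, ← map_mul]; simp [α]
  have hαk : ∀ (h : H) (k : K), π (α h k) = 1 ↔ π k = 1 := fun h k => by
    rw [c.ker, c.ker, ← map_mul, map_eq_one_iff _ (α h).injective]
  have hnorm : ∀ h : H, (π (α h r) = x ∨ π (α h r) = x⁻¹) → h ∈ 𝐍[R0] := fun h hh => by
    have h1 : π (α h (r * r)) = σ ^ m := by
      rw [map_mul, map_mul]
      rcases hh with e | e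
      · rw [e, hxx]
      · rw [e, ← mul_inv_rev, hxx, inv_eq_of_mul_eq_one_right d.tt]
    have h2 : ∀ k : K, π (α h k) ∈ 𝐂₁[σ ^ m] ↔ π k ∈ 𝐂₁[σ ^ m] := fun k => by
      have := hαk h (k * (r * r) * k⁻¹ * (r * r)⁻¹)
      rw [map_mul (α h), map_mul (α h), map_mul (α h) k, map_inv, map_inv, map_mul π, map_mul π,
        map_mul π, map_inv, map_inv, h1, map_mul π, map_mul π, map_mul π k, map_inv, map_inv,
        map_mul π r, hr, hxx, mul_inv_eq_one, mul_inv_eq_one, mul_inv_eq_iff_eq_mul,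
        mul_inv_eq_iff_eq_mul] at this
      rw [mem_centralizer_singleton_iff, mem_centralizer_singleton_iff, this]
    refine norms_pcore {3} (zpowers_le.2 (mem_normalizer_iff.2 fun g => ?_)) (mem_zpowers h)
    constructor
    · rintro ⟨k, hk, rfl⟩
      exact ⟨α h k, (h2 k).2 hk, rfl⟩
    · rintro ⟨k, hk, e⟩
      obtain ⟨k, rfl⟩ := (α h).surjective k
      refine ⟨k, (h2 k).1 hk, ?_⟩
      have : h * (k : H) * h⁻¹ = h * g * h⁻¹ := e
      simpa using this
  set V0 := fixS ρ R0 with hV0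
  set s := sf (ρ r) with hs
  set Vp := LinearMap.ker (s - 1) with hVp
  have mVp : ∀ v, v ∈ Vp ↔ s v = v := fun v => by
    rw [hVp, LinearMap.mem_ker, LinearMap.sub_apply, sub_eq_zero]; rfl
  have hss : s * s = 1 := sf_sq hr4 three_end
  have hJ : ρ j * s = -s * ρ j := by
    rw [hs, ← sf_inv hr4]
    refine sf_conj ?_
    rw [← map_mul, ← map_mul, ← Subgroup.coe_inv, ← hjr]; simp
  have hJ' : ∀ v, ρ j (s v) = -s (ρ j v) := fun v =>
    congrArg (fun f : Module.End (ZMod 3) V => f v) hJ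
  have hjN : (j : H) ∈ 𝐍[R0] := hnorm j (Or.inr (by
    rw [← hr, ← map_inv, ← hjr]; rfl))
  have hrN : (r : H) ∈ 𝐍[R0] := hnorm r (Or.inl (by
    rw [← hr]; congr 1; exact Subtype.ext (by simp [α])))
  set D := Qd.nrm ρ V0 ⊓ Qd.nrm ρ Vp with hD
  have memD : ∀ h : H, (π (α h r) = x ∨ π (α h r) = x⁻¹) → ρ h * s = s * ρ h → h ∈ D :=
    fun h h1 h2 => ⟨fun v hv => fixS_norm (hnorm h h1) hv, fun v hv => by
      rw [mVp] at hv ⊢
      rw [← Module.End.mul_apply, ← h2, Module.End.mul_apply, hv]⟩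
  have hCD : (𝐂₁[r] : Subgroup K).map K.subtype ≤ K ⊓ D := by
    rintro _ ⟨k, hk, rfl⟩
    have h1 : k * r = r * k := mem_centralizer_singleton_iff.1 hk
    refine ⟨k.2, memD _ (Or.inl ?_) (sf_conj ?_)⟩
    · rw [← hr]; congr 1
      exact Subtype.ext (mul_inv_eq_iff_eq_mul.2 (congrArg Subtype.val h1))
    · rw [← map_mul, ← map_mul]; exact congrArg (fun k : K => ρ k) h1
  -- Frattini
  have hFr : MulEq K D ⊤ := by
    refine ⟨le_top, le_top, fun h _ => ?_⟩
    have hr'4 : π (α h r) ^ 4 = 1 := by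
      rw [← map_pow, ← map_pow, hαk, ← MonoidHom.mem_ker, hker]; exact mem_zpowers _
    have ho4 : orderOf (π (α h r)) = 4 := by
      refine orderOf_eq_prime_pow (p := 2) (n := 1) (fun e => d.t1 ?_) hr'4
      rw [← map_pow, ← map_pow, hαk, map_pow, hr] at e
      rw [← hxx, ← e, pow_one, sq]
    obtain ⟨n, -, hnS⟩ := d.into le_top (le_top (a := ⟪π (α h r)⟫))
      (piElt_singleton_iff_pgroup.1 (piElt_singleton.2 ⟨2, ho4⟩))
    obtain ⟨k, rfl⟩ := c.surj n
    have e1 : π (α (k * h) r) = π k * π (α h r) * (π k)⁻¹ := by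
      rw [← map_inv, ← map_mul, ← map_mul]; congr 1
      exact Subtype.ext (by simp [α, mul_assoc])
    have hy := ord4 c.dih hxσ hxx (hnS _ (mem_zpowers _))
      (by rw [← ho4]; exact (orderOf_eq_of_isConj (isConj_iff.2 ⟨_, rfl⟩)))
    rw [← e1] at hy
    have key : ∀ y : K, π (α (k * h) r) = π y →
        sf (ρ (α (k * h) r)) = sf (ρ y) ∨ sf (ρ (α (k * h) r)) = -sf (ρ y) := fun y e => by
      have h1 : π (α (k * h) r * y⁻¹) = 1 := by rw [map_mul, e, map_inv, mul_inv_cancel]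
      have h2 : ρ (α (k * h) r) = ρ (α (k * h) r * y⁻¹ : K) * ρ y := by
        rw [← map_mul, ← Subgroup.coe_mul, inv_mul_cancel_right]
      rcases c.ker_pm h1 with h3 | h3
      · exact Or.inl (by rw [h2, h3, one_mul])
      · exact Or.inr (by rw [h2, h3, neg_mul, one_mul, sf_neg])
    have hpm : sf (ρ (α (k * h) r)) = s ∨ sf (ρ (α (k * h) r)) = -s := by
      rcases hy with e | e
      · exact key r (e.trans hr.symm)
      · have := key r⁻¹ (by rw [e, map_inv, hr])
        rw [Subgroup.coe_inv, sf_inv hr4, neg_neg] at this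
        exact this.symm
    have hc := sf_conj (hα (k * h) r).symm
    rcases hpm with e | e
    · exact ⟨k⁻¹, inv_mem k.2, k * h, memD _ hy (by rw [hc, e]), by group⟩
    · refine ⟨(j * k)⁻¹, inv_mem (mul_mem j.2 k.2), j * (k * h), memD _ ?_ ?_, by group⟩
      · have e2 : π (α (j * (k * h)) r) = τ * π (α (k * h) r) * τ⁻¹ := by
          rw [← hj, ← map_inv, ← map_mul, ← map_mul]; congr 1
          exact Subtype.ext (by simp [α, mul_assoc])
        rw [e2]
        rcases hy with e3 | e3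
        · exact Or.inr (by rw [e3, c.dih.τ_conj hxσ])
        · exact Or.inl (by rw [e3, c.dih.τ_conj (inv_mem hxσ), inv_inv])
      · rw [map_mul ρ (j : H), mul_assoc, hc, e, ← mul_assoc, mul_neg, hJ]
        simp only [neg_mul, neg_neg, mul_assoc]
  -- counting
  set N := ordCompl[3] (Nat.card D) with hN
  have hc1D : Nat.card Y * (4 * m) ∣ Nat.card ↥(K ⊓ D) := by
    refine hCK.trans (Dvd.dvd.trans (dvd_of_eq ?_) (card_dvd_of_le hCD))
    exact (card_map_of_injective K.subtype_injective).symm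
  have hc1N : Nat.card Y * (4 * m) ≤ N :=
    Nat.le_of_dvd (Nat.ordCompl_pos 3 Nat.card_pos.ne') (Nat.dvd_ordCompl_of_dvd_not_dvd
      (hc1D.trans (card_dvd_of_le inf_le_right)) hc1)
  have hY0 : 0 < Nat.card Y := Nat.card_pos
  have hc0' := Nat.le_of_dvd (by positivity) hc0
  have hi : Nat.card V - 1 ≤ 2 * ordCompl[3] (ii (σ ^ m)) * N := by
    have h1 := hFr.card
    rw [card_top] at h1
    have h2 : (Nat.card V - 1) * (Nat.card Y * (4 * m)) ∣
        2 * (ii (σ ^ m) * Nat.card 𝐂₁[σ ^ m]) * Nat.card D :=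
      ((mul_dvd_mul c.tr.card_dvd hc1D).trans (dvd_of_eq h1)).trans (mul_dvd_mul_right hK _)
    have h3 := Nat.dvd_ordCompl_of_dvd_not_dvd h2 (p := 3) (fun h =>
      ((Nat.Prime.dvd_mul Nat.prime_three).1 h).elim (card_three_pow V) hc1)
    rw [Nat.ordCompl_mul, Nat.ordCompl_mul, Nat.ordCompl_mul,
      show ordCompl[3] 2 = 2 by simp [Nat.prime_two.factorization]] at h3
    have h4 := Nat.le_of_dvd (by
      have := Nat.ordCompl_pos 3 (Nat.card_pos (α := D)).ne'
      have := Nat.ordCompl_pos 3 (Nat.card_pos (α := 𝐂₁[σ ^ m])).ne'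
      have := Nat.ordCompl_pos 3 (index_ne_zero_of_finite (H := 𝐂₁[σ ^ m]))
      positivity) h3
    refine Nat.le_of_mul_le_mul_right (c := Nat.card Y * (4 * m)) (h4.trans ?_) (by positivity)
    calc _ ≤ 2 * (ordCompl[3] (ii (σ ^ m)) * (Nat.card Y * (4 * m))) * N := by gcongr
      _ = _ := by ring
  have hV0r : ∀ u ∈ V0, ρ r u ∈ V0 := fun u hu => fixS_norm hrN hu
  have hV0j : ∀ u ∈ V0, ρ j u ∈ V0 := fun u hu => fixS_norm hjN hu
  have hV0s : ∀ u ∈ V0, s u ∈ V0 := fun u hu => add_mem (hV0r u hu) (by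
    rw [pow_three]; exact hV0r _ (hV0r _ (hV0r u hu)))
  obtain ⟨w0, hw0, h0⟩ := exists_fixS (ρ := ρ) (pcore_pgroup' 3 CH)
  obtain ⟨v, hv, hv0, hsv⟩ := exists_plus hss hJ
    (fun v e => by_contra fun h => rho_ne ρ _ h e) hV0s hV0j hw0 h0
  have hlt : ¬ Vp ≤ V0 ⊓ Vp := fun h => hR00 (eq_bot_iff.2 fun g hg => c.tr.inj ?_)
  · have ha : 1 < Nat.card ↥(V0 ⊓ Vp) := Finite.one_lt_card_iff_nontrivial.2
      ⟨⟨⟨v, hv, (mVp v).2 hsv⟩, 0, fun e => hv0 (congrArg Subtype.val e)⟩⟩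
    obtain ⟨b, hb⟩ : Nat.card ↥(V0 ⊓ Vp) ∣ Nat.card Vp :=
      AddSubgroup.card_dvd_of_le (H := (V0 ⊓ Vp).toAddSubgroup) (K := Vp.toAddSubgroup)
        fun _ h => h.2
    have hb1 : 1 < b := by
      by_contra h1
      refine hlt (Submodule.toAddSubgroup_injective (AddSubgroup.eq_of_le_of_card_ge
        (H := (V0 ⊓ Vp).toAddSubgroup) (K := Vp.toAddSubgroup) (fun _ h => h.2) ?_)).ge
      change Nat.card Vp ≤ Nat.card ↥(V0 ⊓ Vp)
      rw [hb]; exact mul_le_of_le_one_right' (by omega)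
    have hsq : Nat.card Vp * Nat.card Vp ≤ Nat.card V := by
      rw [← Nat.card_prod]
      refine Nat.card_le_card_of_injective (fun a : Vp × Vp => a.1.1 + ρ j a.2.1) fun a b e => ?_
      have h1 : ∀ a : Vp × Vp, s (a.1.1 + ρ j a.2.1) = a.1.1 - ρ j a.2.1 := fun a => by
        have := hJ' a.2.1
        rw [(mVp _).1 a.2.2] at this
        rw [map_add, (mVp _).1 a.1.2, sub_eq_add_neg, neg_eq_iff_eq_neg.2 this]
      have e1 : a.1.1 + ρ j a.2.1 = b.1.1 + ρ j b.2.1 := e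
      have e2 := h1 a
      rw [e1, h1 b] at e2
      have e3 : a.1.1 = b.1.1 := sub_eq_zero.1 (two_inj (by
        rw [← add_zero (0 : V)]
        nth_rewrite 1 [← sub_eq_zero.2 e1]
        rw [← sub_eq_zero.2 e2.symm]; abel))
      rw [e3, add_right_inj] at e1
      have e4 := congrArg (ρ (j : H)⁻¹) e1
      rw [rho_inv_self, rho_inv_self] at e4
      exact Prod.ext (Subtype.ext e3) (Subtype.ext e4)
    rw [hb] at hsq
    refine x2_arith ha hb1 (c.tr.free.ordCompl_dvd D _ fun k hk u hu => ⟨hk.1 u hu.1, hk.2 u hu.2⟩)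
      (hb ▸ c.tr.free.ordCompl_dvd D _ fun k hk u hu => hk.2 u hu) hsq hi (hc0'.trans hc1N) ?_
    nlinarith
  · rw [map_one]
    ext u
    have h1 : u + s u ∈ V0 := (h ((mVp _).2 (by
      rw [map_add, ← Module.End.mul_apply, hss, add_comm]; rfl))).1
    have h2 : ρ (j : H)⁻¹ (u - s u) ∈ V0 := (h ((mVp _).2 (by
      have := hJ' (ρ (j : H)⁻¹ (u - s u))
      rw [rho_self_inv, map_sub s, ← Module.End.mul_apply s s, hss, neg_sub] at this
      rw [← rho_inv_self ρ (j : H) (s _), this]; rfl))).1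
    have h3 := hV0j _ h2
    rw [rho_self_inv] at h3
    have h4 := add_mem h1 h3 g hg
    rw [show u + s u + (u - s u) = u + u by abel, map_add] at h4
    exact sub_eq_zero.1 (two_inj (by rw [← sub_eq_zero.2 h4]; simp only [Module.End.one_apply]; abel))

end Cfsg.G41
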