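import Cfsg.Agent.G41.Defs
import Cfsg.Agent.G41.DihG
import Cfsg.Agent.GW.C1c
import Cfsg.Agent.GW.Base
import Cfsg.Agent.Grp.FpfAut

/-! S4841, `p = 3`, case A: `O₃(C(t)) = 1`. -/

set_option autoImplicit false

namespace Cfsg.G41

open Subgroup Cfsg.FT Cfsg.Gag Cfsg.Gag.V Cfsg.GW
open scoped Pointwise

universe u

namespace X3

theorem ratio {i K D y a b m : ℤ} (hm : 4 ≤ m) (hK : 0 < K) (hy : 4 * m ∣ y - 2)
    (ha : 4 * m ∣ a + 1 - 2 * m) (hb : 4 * m ∣ b + 1 - 2 * m) (h : a + b = -y)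
    (h1 : i * (y - 2) ^ 2 = 2 * (m * K) ^ 2 * (y * (y - 1)))
    (h2 : i * (a - b) ^ 2 = 2 * (m * D) ^ 2 * (a * b * y)) : 5 * D ^ 2 ≤ 2 * K ^ 2 := by
  have b1 : ∀ {a : ℤ}, 4 * m ∣ a + 1 - 2 * m → 7 ≤ a ∨ a ≤ -9 := fun ⟨c, hc⟩ => by
    rcases le_or_gt 0 c with e | e
    · exact .inl (by nlinarith)
    · exact .inr (by nlinarith)
  have m0 : 0 < m := by omega
  have b2 : 18 ≤ y ∨ y ≤ -14 := by
    obtain ⟨c, hc⟩ := hy
    rcases lt_trichotomy c 0 with e | rfl | e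
    · exact .inr (by nlinarith)
    · rw [show y = 2 by omega] at h1
      have := mul_pos m0 hK
      nlinarith
    · exact .inl (by nlinarith)
  have y0 : y ≠ 0 := by omega
  have e : D ^ 2 * (a * b * (y - 2) ^ 2) = K ^ 2 * ((y - 1) * (a - b) ^ 2) := by
    apply mul_left_cancel₀ (mul_ne_zero (mul_ne_zero two_ne_zero (pow_ne_zero 2 m0.ne')) y0)
    linear_combination (a - b) ^ 2 * h1 - (y - 2) ^ 2 * h2
  have y2 : 0 < (y - 2) ^ 2 := by rcases b2 with h | h <;> nlinarith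
  have key : ∀ {p q : ℤ}, 0 < p → 5 * q ≤ 2 * p → D ^ 2 * p = K ^ 2 * q → 5 * D ^ 2 ≤ 2 * K ^ 2 :=
    fun {p q} h1 h2 h3 => le_of_mul_le_mul_right (by nlinarith [sq_nonneg K]) h1
  have k2 : ∀ {a b : ℤ}, a + b = -y → y ≤ -14 → b ≤ -9 →
      5 * -((y - 1) * (a - b) ^ 2) ≤ 2 * -(a * b * (y - 2) ^ 2) := fun {a b} h hy hb => by
    have e1 : (a - b) ^ 2 = y ^ 2 + 4 * -(a * b) := by rw [← neg_sq y, ← h]; ring
    have e2 : 5 * (1 - y) ≤ -(a * b) := by nlinarith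
    have e3 : y ^ 2 ≤ 2 * (y - 2) ^ 2 - 20 * (1 - y) := by nlinarith
    have := mul_le_mul e2 e3 (sq_nonneg _) (by omega)
    rw [e1]
    nlinarith
  have pos : ∀ {a b : ℤ}, 0 < a → b < 0 → 0 < -(a * b * (y - 2) ^ 2) := fun h1 h2 =>
    neg_pos.2 (mul_neg_of_neg_of_pos (mul_neg_of_pos_of_neg h1 h2) y2)
  have k0 : ∀ {p q : ℤ}, 0 < p → q ≤ 0 → 5 * q ≤ 2 * p := fun h1 h2 => by omega
  have sq := sq_nonneg (a - b)
  rcases b2 with c | c <;> rcases b1 ha with c1 | c1 <;> rcases b1 hb with c2 | c2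
  · omega
  · have := pos (a := a) (b := b) (by omega) (by omega)
    exact key this (k0 this (neg_nonpos.2 (mul_nonneg (show 0 ≤ y - 1 by omega) sq)))
      (by linear_combination -e)
  · have := pos (a := b) (b := a) (by omega) (by omega)
    exact key this (k0 this (neg_nonpos.2 (mul_nonneg (show 0 ≤ y - 1 by omega) sq)))
      (by linear_combination -e)
  · refine key (mul_pos (by nlinarith) y2) ?_ e
    have e1 : (a - b) ^ 2 ≤ (y - 2) ^ 2 := by nlinarith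
    have e2 : 5 * (y - 1) ≤ 2 * (a * b) := by nlinarith
    have := mul_le_mul e2 e1 sq (by omega)
    linarith
  · have := mul_pos (mul_pos (show 0 < a by omega) (show 0 < b by omega)) y2
    exact key this (k0 this (mul_nonpos_of_nonpos_of_nonneg (by omega) sq)) e
  · exact key (pos (a := a) (b := b) (by omega) (by omega)) (k2 h c c2) (by linear_combination -e)
  · exact key (pos (a := b) (b := a) (by omega) (by omega)) (k2 (a := b) (b := a) (by omega) c c1)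
      (by linear_combination -e)
  · omega

variable {G : Type u} [Group G] [Finite G] {P S : Subgroup G} {t s σ τ : G} {m : ℕ}

theorem index_le (c : DC S σ τ m) : ii (σ ^ m) ≤ 102 * (m * kk (σ ^ m) τ) ^ 2 := by
  obtain ⟨P, rfl⟩ := syl_top_iff.1 c.syl
  have hc : ∀ s, orderOf s = 2 → IsConj (σ ^ m) s := fun s hs => isConj_iff.2 (c.exists_conj hs)
  have hm := c.hm
  obtain ⟨y, a, b, h1, h2, h3, h4, h5, h6⟩ := ordD c.dih (by omega) hc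
  have k1 := Fr.kk_pos (σ ^ m) τ
  have h7 := ratio (by exact_mod_cast hm) (by positivity) h1 h2 h3 h4 h5 h6
  have h8 := (ordD_bounds c.dih (by omega) hc).2
  generalize kk (σ ^ m) τ = k at *
  generalize kk (σ ^ m) (σ * τ) = l at *
  have h9 : k + l ≤ 6 * k := by
    by_contra! e
    have : (6 * k : ℤ) < k + l := by exact_mod_cast e
    nlinarith
  have := Nat.pow_le_pow_left (Nat.mul_le_mul_left m h9) 2
  nlinarith

theorem uniq (ho : ¬ 2 ∣ Nat.card P) {x y z x' y' z' : G} (hy : y ∈ P) (hy' : y' ∈ P) (hz : z ∈ P)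
    (hz' : z' ∈ P) (x1 : x * t = t * x) (x2 : x' * t = t * x') (y1 : t * y = y⁻¹ * t)
    (y2 : t * y' = y'⁻¹ * t) (z1 : t * z = z⁻¹ * t) (z2 : t * z' = z'⁻¹ * t)
    (y3 : s * y * s⁻¹ = y) (y4 : s * y' * s⁻¹ = y') (z3 : s * z * s⁻¹ = z⁻¹)
    (z4 : s * z' * s⁻¹ = z'⁻¹) (e : x * y * z = x' * y' * z') : y = y' ∧ z = z' := by
  have k : ∀ {x y z : G}, x * t = t * x → t * y = y⁻¹ * t → t * z = z⁻¹ * t →
      (x * y * z)⁻¹ * t * (x * y * z) * t⁻¹ = (z * y ^ 2 * z)⁻¹ := fun {x y z} h1 h2 h3 => by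
    calc _ = z⁻¹ * y⁻¹ * x⁻¹ * (t * x) * y * z * t⁻¹ := by group
      _ = z⁻¹ * y⁻¹ * (t * y) * z * t⁻¹ := by rw [← h1]; group
      _ = z⁻¹ * y⁻¹ * y⁻¹ * (t * z) * t⁻¹ := by rw [h2]; group
      _ = _ := by rw [h3]; group
  have e1 : z * y ^ 2 * z = z' * y' ^ 2 * z' := by
    rw [← inv_inj, ← k x1 y1 z1, ← k x2 y2 z2, e]
  have e2 : z⁻¹ * y ^ 2 * z⁻¹ = z'⁻¹ * y' ^ 2 * z'⁻¹ := by
    have := congrArg (fun g => s * g * s⁻¹) e1
    simpa only [← conj_mul, ← conj_pow, y3, y4, z3, z4] using this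
  have e3 : z ^ 2 * (z⁻¹ * y ^ 2 * z⁻¹) = z' ^ 2 * (z'⁻¹ * y' ^ 2 * z'⁻¹) :=
    eq_of_sq_eq_of_odd ho
      (mul_mem (pow_mem hz 2) (mul_mem (mul_mem (inv_mem hz) (pow_mem hy 2)) (inv_mem hz)))
      (mul_mem (pow_mem hz' 2) (mul_mem (mul_mem (inv_mem hz') (pow_mem hy' 2)) (inv_mem hz'))) (by
        calc _ = (z * y ^ 2 * z) * (z⁻¹ * y ^ 2 * z⁻¹) := by rw [sq (_ * _)]; group
          _ = _ := by rw [e1, e2, sq (_ * _)]; group)
  rw [e2, mul_left_inj] at e3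
  obtain rfl := eq_of_sq_eq_of_odd ho hz hz' e3
  exact ⟨eq_of_sq_eq_of_odd ho hy hy' (by simpa using e1), rfl⟩

/-- one half of the four-group formula -/
theorem four_le (ho : ¬ 2 ∣ Nat.card P) (ht : t ∈ 𝐍[P]) (tt : t * t = 1)
    (st : s * t = t * s) : Nat.card ↥(P ⊓ 𝐂₁[t]) * (𝐂₁[t].relIndex (P ⊓ 𝐂₁[s]) *
      𝐂₁[t].relIndex (P ⊓ 𝐂₁[t * s])) ≤ Nat.card P := by
  have ti : t⁻¹ = t := inv_eq_of_mul_eq_one_right tt
  have m1 : ∀ y ∈ P, y * t * y⁻¹ * t⁻¹ ∈ P := fun y hy => by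
    simpa only [mul_assoc] using mul_mem hy ((mem_normalizer_iff.1 ht _).1 (inv_mem hy))
  have i1 : ∀ y : G, t * (y * t * y⁻¹ * t⁻¹) = (y * t * y⁻¹ * t⁻¹)⁻¹ * t := fun y => by
    simp only [mul_inv_rev, inv_inv, ti, mul_assoc]
  have c1 : ∀ {v y : G}, v * t = t * v → y ∈ 𝐂₁[v] →
      v * (y * t * y⁻¹ * t⁻¹) * v⁻¹ = y * t * y⁻¹ * t⁻¹ := fun {v y} h hy => by
    simp only [← conj_mul, ← conj_inv, mul_inv_eq_iff_eq_mul.2 h,
      mul_inv_eq_iff_eq_mul.2 (mem_cent1.1 hy).symm]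
  have c2 : ∀ {y : G}, y ∈ 𝐂₁[t * s] →
      s * (y * t * y⁻¹ * t⁻¹) * s⁻¹ = (y * t * y⁻¹ * t⁻¹)⁻¹ := fun {y} hy => by
    have := c1 (v := t * s) (by rw [mul_assoc, st]) hy
    have h2 := i1 y
    generalize y * t * y⁻¹ * t⁻¹ = z at this h2
    calc _ = t⁻¹ * (t * s * z * (t * s)⁻¹) * t := by group
      _ = t * z * t⁻¹ := by rw [this, ti]
      _ = _ := by rw [h2, mul_inv_cancel_right]
  have q1 : ∀ {B : Subgroup G} {a b : B ⧸ 𝐂₁[t].subgroupOf B},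
      (a.out : G) * t * (a.out : G)⁻¹ * t⁻¹ = b.out * t * (b.out : G)⁻¹ * t⁻¹ → a = b :=
    fun {B a b} e => by
      rw [← a.out_eq', ← b.out_eq', QuotientGroup.eq, mem_subgroupOf, mem_cent1]
      rw [mul_left_inj] at e
      calc _ = (a.out : G)⁻¹ * (b.out * t * (b.out : G)⁻¹) * b.out := by simp [mul_assoc]
        _ = _ := by rw [← e]; simp [mul_assoc]
  rw [relIndex, relIndex, index, index, ← Nat.card_prod, ← Nat.card_prod]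
  refine Nat.card_le_card_of_injective (fun x => ⟨x.1 * (x.2.1.out * t * (x.2.1.out : G)⁻¹ * t⁻¹) *
    (x.2.2.out * t * (x.2.2.out : G)⁻¹ * t⁻¹), mul_mem (mul_mem x.1.2.1 (m1 _ x.2.1.out.2.1))
      (m1 _ x.2.2.out.2.1)⟩) fun ⟨x, y, z⟩ ⟨x', y', z'⟩ e => ?_
  replace e := congrArg Subtype.val e
  obtain ⟨e1, e2⟩ := uniq (s := s) ho (m1 _ y.out.2.1) (m1 _ y'.out.2.1) (m1 _ z.out.2.1)
    (m1 _ z'.out.2.1) (mem_cent1.1 x.2.2) (mem_cent1.1 x'.2.2) (i1 _) (i1 _) (i1 _) (i1 _)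
    (c1 st y.out.2.2) (c1 st y'.out.2.2) (c2 z.out.2.2) (c2 z'.out.2.2) e
  obtain rfl := q1 e1
  obtain rfl := q1 e2
  obtain rfl : x = x' := Subtype.ext (mul_right_cancel (mul_right_cancel e))
  rfl

theorem fused (c : DC S σ τ m) (hτ : ∃ g ∈ 𝐍[P], g * σ ^ m * g⁻¹ = τ) (h3 : IsPGroup 3 P)
    (hS : S ≤ 𝐍[P]) {Q : Subgroup G} (hQ : Syl 3 Q (oc (σ ^ m))) (hP : Q ≤ P) :
    ordCompl[3] (ii (σ ^ m)) ≤ 8 * (ordCompl[3] (Nat.card 𝐂₁[σ ^ m])) ^ 2 := by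
  have : Fact (Nat.Prime 3) := ⟨Nat.prime_three⟩
  have hk := index_le c
  have ho : ¬ 2 ∣ Nat.card P := by
    obtain ⟨n, hn⟩ := IsPGroup.iff_card.1 h3
    rw [hn]
    exact fun e => absurd (Nat.prime_two.dvd_of_dvd_pow e) (by norm_num)
  obtain ⟨S, rfl⟩ := syl_top_iff.1 c.syl
  have hc := sdprod_card (dih_sd c.dih)
  rw [c.dih.card] at hc
  have m3 : ¬ 3 ∣ 4 * m := by
    obtain ⟨n, hn⟩ := IsPGroup.iff_card.1 S.isPGroup'
    rw [← c.dih.card, hn]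
    exact fun e => absurd (Nat.prime_three.dvd_of_dvd_pow e) (by norm_num)
  obtain ⟨ρ, h1, -, h2⟩ := c.rho
  replace h2 := h2 τ c.dih.mem_τ c.dih.notMem
  obtain ⟨g, hg, e⟩ := hτ
  have τt := mem_cent1.1 (c.St c.dih.mem_τ)
  have tt := c.tt
  have tP := hS c.tS
  have e1 : P ⊓ 𝐂₁[σ ^ m] = Q := hQ.eq_of_le h3.to_inf_left
    (le_inf hP (hQ.le.trans (oc_le _))) (c.le_oc c.ot inf_le_right
      (Nat.odd_iff.2 (Nat.two_dvd_ne_zero.1 fun e => ho (e.trans (card_dvd_of_le inf_le_left)))))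
  generalize σ ^ m = t at *
  have e2 : ∀ g ∈ 𝐍[P], ∀ x, Nat.card ↥(P ⊓ 𝐂₁[g * x * g⁻¹]) = Nat.card ↥(P ⊓ 𝐂₁[x]) :=
    fun g hg x => by
      rw [cent1_conj, ← card_conj g (P ⊓ 𝐂₁[x]), conj_inf, conj_eq_iff_mem_norm.2 hg]
  have e3 : Nat.card ↥(P ⊓ 𝐂₁[τ]) = Nat.card Q := by rw [← e, e2 g hg, e1]
  have e4 : Nat.card ↥(P ⊓ 𝐂₁[t * τ]) = Nat.card Q := by
    rw [← h2, e2 ρ (hS (c.dih.zpowers_le h1)), e3]
  have e5 : 𝐂₁[t] ⊓ (P ⊓ 𝐂₁[t * τ]) = 𝐂₁[t] ⊓ (P ⊓ 𝐂₁[τ]) := by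
    ext x
    simp only [mem_inf, mem_cent1]
    refine and_congr_right fun h => and_congr_right fun _ => ?_
    rw [← mul_assoc, h, mul_assoc, mul_assoc, mul_right_inj]
  have f1 := card_inf_mul_relIndex 𝐂₁[t] (P ⊓ 𝐂₁[τ])
  have f2 := card_inf_mul_relIndex 𝐂₁[t] (P ⊓ 𝐂₁[t * τ])
  have f3 := four_le ho tP tt τt
  rw [e5, e4, ← e3, ← f1] at f2
  rw [e1, Nat.eq_of_mul_eq_mul_left Nat.card_pos f2] at f3
  have f4 := card_inf_mul_relIndex 𝐂₁[τ] (oc t)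
  have f5 : Nat.card ↥(𝐂₁[t] ⊓ (P ⊓ 𝐂₁[τ])) ≤ Nat.card ↥(𝐂₁[τ] ⊓ oc t) :=
    card_le_of_le (le_inf (inf_le_right.trans inf_le_right) (by
      rw [← inf_assoc, inf_comm 𝐂₁[t], e1]; exact inf_le_left.trans hQ.le))
  have f6 := Nat.ordProj_mul_ordCompl_eq_self (Nat.card (oc t)) 3
  have f7 := Nat.ordProj_mul_ordCompl_eq_self (ii t) 3
  have f8 : Nat.card P ≤ Nat.card Q * ordProj[3] (ii t) := by
    obtain ⟨R, hR⟩ := Sylow_exists 3 (⊤ : Subgroup G)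
    refine (Nat.le_of_dvd Nat.card_pos (hR.card_dvd le_top h3)).trans_eq ?_
    rw [card_Syl hR, card_Syl hQ, card_top, ← 𝐂₁[t].card_mul_index, ← hc,
      Nat.ordProj_mul _ (Nat.mul_pos Nat.card_pos (by have := c.hm; omega)).ne'
        index_ne_zero_of_finite, Nat.ordProj_mul _ Nat.card_pos.ne' (by have := c.hm; omega),
      Nat.factorization_eq_zero_of_not_dvd m3, pow_zero, mul_one]
  rw [← hc, Nat.ordCompl_mul, Nat.factorization_eq_zero_of_not_dvd m3, pow_zero, Nat.div_one]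
  have a0 : 0 < 𝐂₁[t].relIndex (P ⊓ 𝐂₁[τ]) := Nat.pos_of_ne_zero index_ne_zero_of_finite
  have w0 : 0 < Nat.card ↥(𝐂₁[t] ⊓ (P ⊓ 𝐂₁[τ])) := Nat.card_pos
  have g1 := Nat.le_of_mul_le_mul_left (f3.trans f8) Nat.card_pos
  generalize ordCompl[3] (Nat.card (oc t)) = u at *
  rw [← card_Syl hQ, ← e3, ← f1, ← f4] at f6
  generalize 𝐂₁[t].relIndex (P ⊓ 𝐂₁[τ]) = a at *
  have g2 : kk t τ ≤ a * u := Nat.le_of_mul_le_mul_left (by
    rw [← mul_assoc, f6]; exact Nat.mul_le_mul_right _ f5) w0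
  refine Nat.le_of_mul_le_mul_left ?_ (Nat.mul_pos a0 a0)
  calc _ ≤ ii t := (Nat.mul_le_mul_right _ g1).trans_eq f7
    _ ≤ 102 * (m * (a * u)) ^ 2 := hk.trans (by gcongr)
    _ ≤ _ := by nlinarith [Nat.zero_le ((m * (a * u)) ^ 2)]

end X3

theorem stX3 (h1 : StX1.{u}) (h2 : StX2.{u}) : StX3.{u} := by
  intro V _ _ _ H _ _ ρ K G _ _ π S σ τ m T hm R h3 hR hN
  by_contra h0
  have : Fact (Nat.Prime 3) := ⟨Nat.prime_three⟩
  have := T.simple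
  have c := dc_of_perfect (C1.perf_of_four (P := S) (T.dih.card ▸ dvd_mul_right 4 m)) T.syl T.dih hm
  have o3 : ∀ {P : Subgroup G}, IsPGroup 3 P → ¬ 2 ∣ Nat.card P := fun h => by
    obtain ⟨n, hn⟩ := IsPGroup.iff_card.1 h
    rw [hn]
    exact fun e => absurd (Nat.prime_two.dvd_of_dvd_pow e) (by norm_num)
  obtain ⟨Q, hQ, hS⟩ := sol_coprime_Sylow_exists 3 (.inl (od_sol _)) (c.St.trans (oc_norm _))
    (cop_two (oc_odd (σ ^ m)) c.S2)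
  obtain ⟨P, ⟨⟨-, p3, pS⟩, hP⟩, QP⟩ := Fr.exists_maxInv (X := ⊤) ⟨le_top, hQ.pgroup, hS⟩
  by_cases hf : ∀ s ∈ S, s ∉ ⟪σ⟫ → ∀ g ∈ 𝐍[P], g * σ ^ m * g⁻¹ ≠ s
  · have e := c.nofus_sup pS hf
    have l1 : P ≤ od 𝐍[P] := p'core_max (o3 p3) (normalG P)
    obtain ⟨P', a1, a2, a3⟩ := sol_coprime_Sylow_subset (.inl (od_sol _))
      (pS.trans (pcore_normal _ _).2) (cop_two (od_odd 𝐍[P]) c.S2) l1 p3 pS
    obtain rfl := hP P' ⟨le_top, a1.pgroup, a2⟩ a3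
    refine h1 V H ρ K G π S σ τ m T hm P' ((Sylow_subnorm le_top).1 ?_) pS e
    rw [top_inf_eq]
    refine a1.trans_index (pcore_sub _ _) fun e' => ?_
    exact absurd ((c.nofus pS hf).index 3 Nat.prime_three e') (by simp)
  · push Not at hf
    obtain ⟨s, hs, hs', hg⟩ := hf
    exact (h2 V H ρ K G π S σ τ m T hm R h0 h3 hR hN).not_ge
      (X3.fused (c.swap hs hs') hg p3 pS hQ QP)

end Cfsg.G41
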