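import Cfsg.Agent.G41.Main
import Cfsg.Agent.G41.Struct
import Cfsg.Agent.G41.X2
import Cfsg.Agent.G41.X3
import Cfsg.Agent.G41.B3
import Cfsg.Agent.G41.E3
import Cfsg.Agent.G41.E7
import Cfsg.Agent.G41.P2QB
import Cfsg.Agent.G41.P2TI
import Cfsg.Agent.G41.P2MX
import Cfsg.Agent.G41.P2WK
import Cfsg.Agent.G41.P2KO
import Cfsg.Agent.G41.P2ab
import Cfsg.Agent.G41.P2Main
import Cfsg.Agent.G41.P2WC
import Cfsg.Agent.G41.P2KC
import Cfsg.Agent.G41.Q2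

set_option autoImplicit false

namespace Cfsg.G41

universe u

theorem main' (hX : StEX.{u})
    {G : Type u} [Group G] [Finite G] (hns : ¬ Group.IsSolvable G) (χ : IrrCharacter G)
    (hχ : Nat.card {C : ConjClasses G // ∃ g ∈ C.carrier, (χ : G → ℂ) g ≠ 0} = 2) :
    ∃ p : ℕ, p.Prime ∧ (∀ q : ℕ, q.Prime → (pCore q G ≠ ⊥ ↔ q = p)) ∧
      Concl p (G ⧸ pCore p G) :=
  have hM := P2.stMX P2.stSP P2.stTI
  have hW := P2.WC.stWC QB.stQ P2.stTI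
  have hI := P2.ih hM (P2.WK.stK3 hW) (P2.stKO QB.stQ QB.stB hM P2.WK.stWK hW) (KC.stKC hM)
  main stStar stCmp stP5 (P2.stP2a hI P2.stTI) (P2.stP2b hI P2.stTI) stDih (stX3 stX1 stX2) stB3
    stE7 stE3 hX hns χ hχ

end Cfsg.G41
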