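import Cfsg.Agent.G41.DihG
import Cfsg.Agent.GW.BSW

/-! S4841, `p = 3`, case B: local analysis when `O₃(C(t)) = 1`. -/

set_option autoImplicit false
set_option linter.unusedSectionVars false
set_option linter.style.haveILetI false

namespace Cfsg.G41

open Subgroup Cfsg.FT Cfsg.Gag Cfsg.GW
open scoped Pointwise

universe u

variable {G : Type u} [Group G] [Finite G] {S M V Q Y : Subgroup G} {σ τ s v g x z a : G} {m : ℕ}

theorem central_inv (hs : s * s = 1) (hv : v * v = 1) (he : Even (orderOf (s * v))) :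
    ∃ z ∈ ⟪s * v⟫, orderOf z = 2 ∧ z ∈ 𝐂₁[s] ∧ z ∈ 𝐂₁[v] := by
  obtain ⟨k, hk⟩ := he
  have h0 := orderOf_pos (s * v)
  have h2 : (s * v) ^ k * (s * v) ^ k = 1 := by rw [← pow_add, ← hk, pow_orderOf_eq_one]
  have h1 : (s * v) ^ k ≠ 1 := pow_ne_one_of_lt_orderOf (by omega) (by omega)
  have hs' : s⁻¹ = s := inv_eq_of_mul_eq_one_right hs
  have hv' : v⁻¹ = v := inv_eq_of_mul_eq_one_right hv
  have e1 : s * (s * v) * s⁻¹ = (s * v)⁻¹ := by rw [mul_inv_rev, hv', ← mul_assoc, hs, one_mul]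
  have e2 : v * (s * v) * v⁻¹ = (s * v)⁻¹ := by rw [mul_inv_rev, hs']; nth_rw 1 [← hv']; group
  refine ⟨_, pow_mem (mem_zpowers _) k, orderOf_eq_prime (by rwa [pow_two]) h1,
    mem_cent1.2 (mul_inv_eq_iff_eq_mul.1 ?_).symm, mem_cent1.2 (mul_inv_eq_iff_eq_mul.1 ?_).symm⟩
  · rw [← conj_pow, e1, inv_pow, inv_eq_of_mul_eq_one_right h2]
  · rw [← conj_pow, e2, inv_pow, inv_eq_of_mul_eq_one_right h2]

theorem eq_one_of_odd (ho : Odd (orderOf x)) (h : x⁻¹ = x) : x = 1 := by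
  have h2 : orderOf x ∣ 2 := orderOf_dvd_of_pow_eq_one (by
    rw [pow_two]; nth_rw 1 [← h]; exact inv_mul_cancel x)
  exact orderOf_eq_one_iff.1 (((Nat.dvd_prime Nat.prime_two).1 h2).resolve_right fun e => by
    rw [e] at ho; exact absurd ho (by decide))

/-- the hypotheses of case B -/
structure BC (S : Subgroup G) (σ τ : G) (m : ℕ) : Prop extends DC S σ τ m where
  hO : ∀ Y : Subgroup G, Odd (Nat.card Y) → ¬ 3 ∣ Nat.card Y → IsCyclic Y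
  h3 : core {3} (oc (σ ^ m)) = ⊥

instance three' : Fact (Nat.Prime 3) := ⟨Nat.prime_three⟩

namespace BC

variable (c : BC S σ τ m)
include c

theorem swap (hs : s ∈ S) (hn : s ∉ ⟪σ⟫) : BC S σ s m := ⟨c.toDC.swap hs hn, c.hO, c.h3⟩

theorem F3 (hv : orderOf v = 2) : ¬ 3 ∣ Nat.card (fit (oc v)) := fun h => by
  obtain ⟨g, rfl⟩ := c.exists_conj hv
  rw [oc_conj, FittingJ, card_conj] at h
  obtain ⟨x, hx, ox⟩ := Cauchy Nat.prime_three h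
  have := nil_le_core (Fitting_nil _) (zpowers_le.2 hx)
    (piSub_singleton.2 (prime_pgroup ((Nat.card_zpowers x).trans ox)))
  rw [p_core_Fitting, c.h3, le_bot_iff, zpowers_eq_bot] at this
  simp [this] at ox

theorem Fodd (v : G) : Odd (Nat.card (fit (oc v))) := oddSg (Fitting_sub _) (oc_odd v)

theorem Fcyc (hv : orderOf v = 2) : IsCyclic (fit (oc v)) := c.hO _ (c.Fodd v) (c.F3 hv)

theorem normF (v : G) : 𝐂₁[v] ≤ 𝐍[fit (oc v)] := norms_Fitting (oc_norm v)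

theorem normX (hv : orderOf v = 2) (hx : x ∈ fit (oc v)) : 𝐂₁[v] ≤ 𝐍[⟪x⟫] :=
  char_norm_trans (sub_cyclic_char (c.Fcyc hv) (zpowers_le.2 hx)) (c.normF v)

theorem commF (hv : orderOf v = 2) : ⁅oc v, 𝐂₁[v]⁆ ≤ fit (oc v) :=
  (le_inf (commg_subl.2 (oc_norm v)) (commg_cent_cyclic (c.Fcyc hv)
    ((oc_le v).trans (c.normF v)) (c.normF v))).trans (cent_sub_Fitting (od_sol _))

theorem leF (hv : orderOf v = 2) (hY : Y ≤ 𝐂₁[v]) (ho : Odd (Nat.card Y))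
    (h3 : ¬ 3 ∣ Nat.card Y) : Y ≤ fit (oc v) := by
  have h1 := c.le_oc hv hY ho
  have h2 := c.hO (fit (oc v) ⊔ Y) (oddSg (sup_le (Fitting_sub _) h1) (oc_odd v))
    (piSub_compl.1 (PiSub.sup (piSub_compl.2 (c.F3 hv)) (piSub_compl.2 h3) (hY.trans (c.normF v))))
  exact (le_inf h1 (sub_abelian_cent2 (cyclic_abelian h2) le_sup_right le_sup_left)).trans
    (cent_sub_Fitting (od_sol _))

theorem invF (hv : orderOf v = 2) (hx : x ∈ oc v) (ha : a ∈ 𝐂₁[v]) (h : a * x * a⁻¹ = x⁻¹) :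
    x ∈ fit (oc v) := by
  have h1 := c.commF hv (mem_commg hx ha)
  rw [commutatorElement_def, show x * a * x⁻¹ * a⁻¹ = x * (a * x * a⁻¹)⁻¹ by group, h, inv_inv,
    ← pow_two] at h1
  exact Fin5.mem_of_pow_coprime h1 (b := Nat.card (oc v))
    (by rw [(orderOf_dvd_iff_pow_eq_one.1 (orderOf_dvd_natCard _ hx))]; exact one_mem _)
    (Nat.coprime_two_left.2 (oc_odd v))

section pgl

variable (hM : 𝐂₁[σ ^ m] ≤ M) (h1 : ∃ g ∈ M, g * σ ^ m * g⁻¹ = τ)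
  (h2 : ∀ g ∈ M, g * σ ^ m * g⁻¹ ≠ σ * τ)
include hM h1 h2

theorem pgl_conj (hs : s ∈ S) (os : orderOf s = 2) (hn : ∀ g ∈ M, g * σ ^ m * g⁻¹ ≠ s) :
    ∃ u ∈ ⟪σ⟫, u * (σ * τ) * u⁻¹ = s := by
  obtain ⟨u, hu, e | e⟩ := c.cls hs (c.out os fun e => hn 1 (one_mem _) (by simp [e]))
  · obtain ⟨g, hg, e'⟩ := h1
    exact (hn (u * g) (mul_mem (hM (c.St (c.dih.zpowers_le hu))) hg) (by
      rw [← e, ← e']; group)).elim
  · exact ⟨u, hu, e⟩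

theorem pgl_odd : M ⊓ oc (σ * τ) ≤ 𝐂₁[σ ^ m] := by
  obtain ⟨sS, sn⟩ := c.mul_out c.dih.mem_τ c.dih.notMem (mem_zpowers σ)
  have os := c.os sS sn
  have hSM := c.St.trans hM
  have tM := hSM c.tS
  have ts := c.St sS
  have ti := inv_inv' c.ot
  obtain ⟨y, y1, y2⟩ := c.fus sS sn
  intro o ho
  by_contra hn
  have wm : o * (σ ^ m * o⁻¹ * (σ ^ m)⁻¹) ∈ M ⊓ oc (σ * τ) := mul_mem ho
    (normsP.1 (normsIG (zpowers_le.2 tM) ((zpowers_le.2 (cent1C.1 ts)).trans (oc_norm _))) _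
      (mem_zpowers _) _ (inv_mem ho))
  have w1 : o * (σ ^ m * o⁻¹ * (σ ^ m)⁻¹) ≠ 1 := fun e => hn (mem_cent1.2 (by
    rw [← mul_inv_eq_one, ← e]; group))
  have wi : σ ^ m * (o * (σ ^ m * o⁻¹ * (σ ^ m)⁻¹)) * (σ ^ m)⁻¹ =
      (o * (σ ^ m * o⁻¹ * (σ ^ m)⁻¹))⁻¹ := by
    rw [mul_inv_rev, mul_inv_rev, mul_inv_rev, ti, inv_inv]
    simp only [mul_assoc, c.tt, mul_one, ti]
  generalize o * (σ ^ m * o⁻¹ * (σ ^ m)⁻¹) = w at wm w1 wi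
  obtain ⟨l, hl, hd⟩ := Nat.exists_prime_and_dvd (mt orderOf_eq_one_iff.1 w1)
  haveI := Fact.mk hl
  obtain ⟨a, ha, oa⟩ := Cauchy hl ((Nat.card_zpowers w).symm ▸ hd)
  have am := zpowers_le.2 wm ha
  have ai : σ ^ m * a * (σ ^ m)⁻¹ = a⁻¹ := by
    obtain ⟨k, rfl⟩ := ha
    rw [← conj_zpow, wi, inv_zpow]
  have aF := c.invF os am.2 (cent1C.1 ts) ai
  have ld := oa ▸ orderOf_dvd_natCard _ aF
  have l2 : l ≠ 2 := fun e => Fr.nd2 (c.Fodd _) (e ▸ ld)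
  have l3 : l ≠ 3 := fun e => c.F3 os (e ▸ ld)
  have bF : y⁻¹ * a * y ∈ fit (oc (σ ^ m)) := by rwa [← y1, oc_conj, FittingJ, mem_conj] at aF
  have bt := oc_le _ (Fitting_sub _ bF)
  have ob : orderOf (y⁻¹ * a * y) = l := by
    rw [← oa]; simpa using orderOf_conj' y⁻¹ a
  have bi : σ * τ * (y⁻¹ * a * y) * (σ * τ)⁻¹ = (y⁻¹ * a * y)⁻¹ := by
    have e1 : y * (σ ^ m * (σ * τ)) * y⁻¹ = σ ^ m := by
      rw [← conj_mul, y1, y2, ← mul_assoc, mem_cent1.1 ts, mul_assoc, inv_sq os, mul_one]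
    have e2 : (σ ^ m)⁻¹ * (y⁻¹ * a * y)⁻¹ * σ ^ m = (y⁻¹ * a * y)⁻¹ := by
      rw [mul_assoc, mem_cent1.1 (inv_mem bt), inv_mul_cancel_left]
    rw [← e2, mul_inv_rev (y⁻¹ * a), mul_inv_rev y⁻¹, ← ai]
    nth_rw 2 3 [← e1]
    group
  generalize y⁻¹ * a * y = b at bF bt ob bi
  have cb := (Nat.card_zpowers b).trans ob
  have ca := (Nat.card_zpowers a).trans oa
  obtain ⟨P, hP, bP⟩ := Sylow_superset (zpowers_le.2 (hM bt)) (prime_pgroup cb)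
  obtain ⟨x, hx, xP⟩ := Sylow_Jsub hP (zpowers_le.2 am.1) (prime_pgroup ca)
  have Pc := c.hO P (Fr.odd_nd2 (piSub_compl.1 (piSub_of_pgroup hP.pgroup l2)))
    (piSub_compl.1 (piSub_of_pgroup hP.pgroup l3))
  have e := (Ohm1_cyclic_eq Pc xP ((card_conj _ _).trans ca)).symm.trans (Ohm1_cyclic_eq Pc bP cb)
  have zc : x * (σ * τ) * x⁻¹ ∈ 𝐂[⟪b⟫] := by
    rw [← e, cent_conj, conj_mem_conj, cent_cycle]; exact cent1C.1 (oc_le _ am.2)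
  have zM := mul_mem (mul_mem hx (hSM sS)) (inv_mem hx)
  have oz := (orderOf_conj' x _).trans os
  have SN := c.St.trans (c.normX c.ot bF)
  obtain ⟨n, hn, k⟩ := c.into (le_inf hSM SN) (zpowers_le.2 (mem_inf.2 ⟨zM, cent_sub _ zc⟩))
    (inv_pgroup oz)
  obtain ⟨u, hu, e'⟩ := c.pgl_conj hM h1 h2 (k _ (mem_zpowers _)) ((orderOf_conj' n _).trans oz)
    fun g hg e' => h2 (x⁻¹ * n⁻¹ * g) (mul_mem (mul_mem (inv_mem hx) (inv_mem hn.1)) hg) (by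
      calc _ = x⁻¹ * n⁻¹ * (g * σ ^ m * g⁻¹) * n * x := by group
        _ = _ := by rw [e']; group)
  have h3 := (mem_normalizer_iff.1 (cent_norm _ hn.2) _).1 zc
  rw [← e', ← mem_normalizer_iff.1 (cent_norm _ (SN (c.dih.zpowers_le hu))), cent_cycle] at h3
  rw [mem_cent1.1 h3, mul_inv_cancel_right] at bi
  have := eq_one_of_odd (ob ▸ hl.odd_of_ne_two l2) bi.symm
  rw [this, orderOf_one] at ob
  exact hl.one_lt.ne ob

theorem pgl_ne (hg : g ∈ M) (hx : x ∈ M) : x * σ ^ m * x⁻¹ ≠ g * (σ * τ) * g⁻¹ := fun e =>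
  h2 (g⁻¹ * x) (mul_mem (inv_mem hg) hx) (by
    calc _ = g⁻¹ * (x * σ ^ m * x⁻¹) * g := by group
      _ = _ := by rw [e]; group)

theorem pgl_cent : M ⊓ 𝐂₁[σ * τ] ≤ 𝐂₁[σ ^ m] := by
  obtain ⟨sS, sn⟩ := c.mul_out c.dih.mem_τ c.dih.notMem (mem_zpowers σ)
  have os := c.os sS sn
  have hSM := c.St.trans hM
  have ts := c.St sS
  obtain ⟨ρ, hρ, -, hr⟩ := c.rho
  have V := klein_pair c.ot os ts (c.ne_t sn)
  obtain ⟨Q, hQ, VQ⟩ := Sylow_superset (H := M ⊓ 𝐂₁[σ * τ]) (sup_le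
    (zpowers_le.2 ⟨hSM c.tS, cent1C.1 ts⟩) (zpowers_le.2 ⟨hSM sS, cent1id _⟩)) V.pgroup
  obtain ⟨g, hg, k⟩ := c.into hSM (hQ.le.trans inf_le_left) hQ.pgroup
  have tQ := VQ (mem_sup_left (mem_zpowers _))
  have s'S := k _ (VQ (mem_sup_right (mem_zpowers _)))
  have s'n := c.out ((orderOf_conj' g _).trans os) fun e =>
    c.pgl_ne hM h1 h2 hg (one_mem _) (by simp [e])
  have key : ∀ q ∈ Q, g * (q * σ ^ m * q⁻¹) * g⁻¹ = σ ^ m := fun q hq => by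
    have aQ := mul_mem (mul_mem hq tQ) (inv_mem hq)
    have gq := mul_mem hg (hQ.le hq).1
    have e : g * (q * σ ^ m * q⁻¹) * g⁻¹ = g * q * σ ^ m * (g * q)⁻¹ := by group
    rcases c.three_S s'S s'n (k _ aQ) ((orderOf_conj' g _).trans ((orderOf_conj' q _).trans c.ot))
      (by rw [cent1_conj, conj_mem_conj]; exact (hQ.le aQ).2) with h | h | h
    · exact h
    · exact (c.pgl_ne hM h1 h2 hg gq (e.symm.trans h)).elim
    · refine (c.pgl_ne hM h1 h2 (mul_mem (hSM (c.dih.zpowers_le hρ)) hg) gq ?_).elim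
      rw [← e, h, ← hr _ s'S s'n]; group
  intro d hd
  obtain ⟨o, ho, q, hq, rfl⟩ := (((c.pnil os).mono inf_le_right).sdprod hQ).exists_mul hd
  refine mul_mem (c.pgl_odd hM h1 h2 ⟨(pcore_sub _ _ ho).1, c.le_oc os
    ((pcore_sub _ _).trans inf_le_right) (od_odd _) ho⟩) (mem_cent1.2 ?_)
  have := (key q hq).trans (key 1 (one_mem _)).symm
  rw [← mul_inv_eq_iff_eq_mul]
  simpa using this

theorem pgl_comm (hg : g ∈ M) : g * σ ^ m * g⁻¹ ∈ 𝐂₁[σ ^ m] := by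
  obtain ⟨sS, sn⟩ := c.mul_out c.dih.mem_τ c.dih.notMem (mem_zpowers σ)
  have os := c.os sS sn
  have hSM := c.St.trans hM
  have ou := (orderOf_conj' g _).trans c.ot
  have uM := mul_mem (mul_mem hg (hSM c.tS)) (inv_mem hg)
  have usM := zpowers_le.2 (mul_mem uM (hSM sS))
  obtain ⟨ρ, hρ, -, hr⟩ := c.rho
  have ρS := c.dih.zpowers_le hρ
  rcases Nat.even_or_odd (orderOf (g * σ ^ m * g⁻¹ * (σ * τ))) with e | e
  · obtain ⟨z, hz, oz, z1, z2⟩ := central_inv (inv_sq ou) (inv_sq os) e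
    rcases c.three (c.St sS) os (c.ne_t sn) (c.pgl_cent hM h1 h2 ⟨usM hz, z2⟩) oz z2 with
      rfl | rfl | rfl
    · exact cent1C.1 z1
    · exact c.pgl_cent hM h1 h2 ⟨uM, cent1C.1 z1⟩
    · rw [← hr _ sS sn, cent1C, cent1_conj, mem_conj] at z1
      have := c.pgl_cent hM h1 h2
        (mem_inf.2 ⟨mul_mem (mul_mem (inv_mem (hSM ρS)) uM) (hSM ρS), z1⟩)
      rwa [← mem_conj, conj_eq_of_mem (c.St ρS)] at this
  · obtain ⟨u, hu, e'⟩ := Fin5.conj_of_odd (inv_sq ou) (inv_sq os) e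
    exact (h2 (u * g) (mul_mem (usM hu) hg) (by rw [← e']; group)).elim

theorem pgl : False := by
  obtain ⟨g, hg, e⟩ := id h1
  have σM := c.St.trans hM c.dih.mem_σ
  have := c.pgl_comm hM h1 h2 (mul_mem (mul_mem (inv_mem hg) σM) hg)
  rw [← conj_mem_conj (g := g), ← cent1_conj, e, show g * (g⁻¹ * σ * g * σ ^ m * (g⁻¹ * σ * g)⁻¹) *
    g⁻¹ = σ * (g * σ ^ m * g⁻¹) * σ⁻¹ by group, e, mem_cent1] at this
  have r := c.dih.rel
  have h4 : σ ^ 4 = 1 := by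
    have e1 : σ * τ * σ⁻¹ * τ = σ ^ 2 * (τ * τ) := by
      rw [show σ * τ * σ⁻¹ * τ = σ * (τ * σ * τ⁻¹)⁻¹ * (τ * τ) by group, r, inv_inv, pow_two]
    have e2 : τ * (σ * τ * σ⁻¹) = σ⁻¹ * (τ * τ) * σ⁻¹ := by rw [← r]; nth_rw 3 [← inv_inv σ]; group
    rw [e1, e2, c.dih.sq] at this
    calc σ ^ 4 = σ ^ 2 * 1 * (σ⁻¹ * 1 * σ⁻¹)⁻¹ := by group
      _ = 1 := by rw [this, mul_inv_cancel]
  have := Nat.le_of_dvd (by norm_num) (orderOf_dvd_of_pow_eq_one h4)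
  rw [c.dih.ord] at this
  have := c.hm
  omega

end pgl

theorem TI0 [IsSimpleGroup G] : fit (oc (σ ^ m)) ⊓ 𝐂₁[τ] = ⊥ := by
  by_contra hn
  obtain ⟨x, hx, x1⟩ := exists_ne_one hn
  obtain ⟨l, hl, hd⟩ := Nat.exists_prime_and_dvd (mt orderOf_eq_one_iff.1 x1)
  haveI := Fact.mk hl
  obtain ⟨a, ha, oa⟩ := Cauchy hl ((Nat.card_zpowers x).symm ▸ hd)
  obtain ⟨aF, aτ⟩ := zpowers_le.2 hx ha
  have aF' := zpowers_le.2 aF
  have ca := (Nat.card_zpowers a).trans oa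
  obtain ⟨y, y1, y2⟩ := c.fus c.dih.mem_τ c.dih.notMem
  have h1 : y •ᶜ ⟪a⟫ ≤ 𝐂₁[σ ^ m] := by
    have e1 : y •ᶜ ⟪a⟫ ≤ 𝐂₁[τ] := by
      rw [← y1, cent1_conj, conj_le_conj]; exact aF'.trans ((Fitting_sub _).trans (oc_le _))
    have e2 : y •ᶜ ⟪a⟫ ≤ 𝐂₁[σ ^ m * τ] := by
      rw [← y2, cent1_conj, conj_le_conj]; exact zpowers_le.2 aτ
    rw [le_cent1] at e1 e2 ⊢
    exact (mul_mem_cancel_right e1).1 e2
  have ao := oddSg aF' (c.Fodd _)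
  have h2 := c.leF c.ot h1 (by rwa [card_conj]) (by
    rw [card_conj]; exact fun e => c.F3 c.ot (e.trans (card_dvd_of_le aF')))
  have hy : y ∈ 𝐍[⟪a⟫] := conj_eq_iff_mem_norm.1
    ((Ohm1_cyclic_eq (c.Fcyc c.ot) h2 ((card_conj _ _).trans ca)).symm.trans
      (Ohm1_cyclic_eq (c.Fcyc c.ot) aF' ca))
  by_cases h : ∃ g ∈ 𝐍[⟪a⟫], g * σ ^ m * g⁻¹ = σ * τ
  · refine norm_ne_top (X := ⟪a⟫) (fun e => ?_) (fun e => not_mem_of_odd ao c.ot (e ▸ mem_top _))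
      (i1 c.syl c.dih (by have := c.hm; omega) c.conj (c.normX c.ot aF) ⟨y, hy, y1⟩ h)
    rw [e, card_bot] at ca
    exact hl.one_lt.ne ca
  · exact c.pgl (c.normX c.ot aF) ⟨y, hy, y1⟩ fun g hg e => h ⟨g, hg, e⟩

theorem TI [IsSimpleGroup G] (hs : s ∈ S) (hn : s ∉ ⟪σ⟫) : fit (oc (σ ^ m)) ⊓ 𝐂₁[s] = ⊥ :=
  (c.swap hs hn).TI0

theorem normV [IsSimpleGroup G] (hV : Klein V) (ht : σ ^ m ∈ V) (hS : V ≤ S) :
    𝐍[V] ≤ 𝐂[oc (σ ^ m) ⊓ 𝐂[V]] := by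
  have out : ∀ v ∈ V, v ≠ 1 → v ≠ σ ^ m → v ∉ ⟪σ⟫ := fun v hv v1 vt => c.out (hV.orderOf hv v1) vt
  have hW : 𝐍[V] ≤ 𝐍[oc (σ ^ m) ⊓ 𝐂[V]] := fun n hn => mem_norm_of_conj_le (by
    have h1 := conj_le_of_mem_norm (cent_norm V hn) (inf_le_right (a := oc (σ ^ m)))
    exact le_inf (c.le_oc c.ot (h1.trans (cent_le_cent1 ht))
      (by rw [card_conj]; exact oddSg inf_le_left (oc_odd _))) h1)
  obtain ⟨s, hs, s1, st⟩ := klein_other hV (σ ^ m)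
  have k : 𝐂₁[σ ^ m] ⊓ 𝐍[V] ≤ 𝐂[oc (σ ^ m) ⊓ 𝐂[V]] := commG1P'.1 (eq_bot_iff.2 (by
    rw [← c.TI (hS hs) (out s hs s1 st)]
    exact le_inf ((commgSS inf_le_left inf_le_left).trans (c.commF c.ot))
      ((commg_subl.2 (inf_le_right.trans hW)).trans (inf_le_right.trans (cent_le_cent1 hs)))))
  obtain ⟨ρ, hρ, -, hr⟩ := c.rho
  have ρt := c.St (c.dih.zpowers_le hρ)
  have ρV : ρ ∈ 𝐍[V] := mem_norm_of_conj_le (conj_le_iff_forall.2 fun a ha => by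
    by_cases e : a ∈ ⟪σ⟫
    · rwa [comm_of_abelian (cycle_abelian σ) hρ e, mul_inv_cancel_right]
    · rw [hr a (hS ha) e]; exact mul_mem ht ha)
  have ρW := k ⟨ρt, ρV⟩
  intro n hn
  by_cases e : n ∈ 𝐂₁[σ ^ m]
  · exact k ⟨e, hn⟩
  have key : ∀ n ∈ 𝐍[V], n ∉ 𝐂₁[σ ^ m] →
      ρ * (n * σ ^ m * n⁻¹) * ρ⁻¹ = σ ^ m * (n * σ ^ m * n⁻¹) := fun n hn e => by
    have hv := (mem_normalizer_iff.1 hn _).1 ht
    exact hr _ (hS hv) (out _ hv (by simpa using c.t1) fun e' =>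
      e (mem_cent1.2 (mul_inv_eq_iff_eq_mul.1 e')))
  have e1 := key n hn e
  have e2 := key n⁻¹ (inv_mem hn) (by rwa [inv_mem_iff])
  have e3 := comm_of_abelian hV.ab ht ((mem_normalizer_iff.1 hn _).1 ht)
  have h1 : ρ⁻¹ * (n * ρ * n⁻¹) ∈ 𝐂[oc (σ ^ m) ⊓ 𝐂[V]] :=
    mul_mem (inv_mem ρW) ((mem_normalizer_iff.1 (cent_norm _ (hW hn)) _).1 ρW)
  have h2 : (ρ⁻¹ * (n * ρ * n⁻¹))⁻¹ * n ∈ 𝐂[oc (σ ^ m) ⊓ 𝐂[V]] := by
    refine k (mem_inf.2 ⟨mem_cent1.2 ?_, mul_mem (inv_mem (mul_mem (inv_mem ρV)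
      (mul_mem (mul_mem hn ρV) (inv_mem hn)))) hn⟩)
    generalize σ ^ m = t at e1 e2 e3
    calc _ = n * ρ⁻¹ * n⁻¹ * (ρ * (n * t * n⁻¹) * ρ⁻¹) * ρ * n := by group
      _ = n * ρ⁻¹ * (t * (n⁻¹ * t * n⁻¹⁻¹)) * n⁻¹ * ρ * n := by rw [e1, e3]; group
      _ = _ := by rw [← e2]; group
  have := mul_mem h1 h2
  rwa [mul_inv_cancel_left] at this

theorem bswh [IsSimpleGroup G] (hU : oc (σ ^ m) ≤ fit (oc (σ ^ m))) :
    BSWH (⟪σ⟫ ⊔ oc (σ ^ m)) (σ ^ m) τ := by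
  have inv : ∀ s ∈ S, s ∉ ⟪σ⟫ → ∀ x ∈ oc (σ ^ m), s * x * s = x⁻¹ := fun s hs hn x hx =>
    inverts_of_fpf (oc_odd _) (c.os hs hn) (oc_norm _ (c.St hs))
      (eq_bot_iff.2 ((inf_le_inf_right _ hU).trans (c.TI hs hn).le)) hx
  have τS := c.dih.mem_τ
  have τn := c.dih.notMem
  have os := c.os τS τn
  have h := inv τ τS τn
  obtain ⟨sS, sn⟩ := c.mul_out τS τn (mem_zpowers σ)
  have hc : oc (σ ^ m) ≤ 𝐂[⟪σ⟫] := by
    rw [cent_cycle]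
    intro x hx
    have e := inv _ sS sn _ (inv_mem hx)
    nth_rw 2 [← inv_inv' (c.os sS sn)] at e
    rw [mul_inv_rev, inv_inv' os, show σ * τ * x⁻¹ * (τ * σ⁻¹) = σ * (τ * x⁻¹ * τ) * σ⁻¹ by group,
      h _ (inv_mem hx), inv_inv, mul_inv_eq_iff_eq_mul] at e
    exact mem_cent1.2 e.symm
  have ab : IsMulCommutative ↥(⟪σ⟫ ⊔ oc (σ ^ m)) :=
    abelianY.2 ⟨inferInstance, abelian_of_inverts os h, hc⟩
  have h2 : Syl 2 ⟪σ⟫ (⟪σ⟫ ⊔ oc (σ ^ m)) := (hall_sup_of_norm (cents_norm hc)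
    (piSub_singleton.2 (c.S2.to_le c.dih.zpowers_le)) (pcore_pgroup _ _)).1.syl
  have h3 : ∀ v ∈ ⟪σ⟫ ⊔ oc (σ ^ m), orderOf v = 2 → v ∈ ⟪σ⟫ := fun v hv ov => zpowers_le.1
    (sub_normal_Sylow h2 (sub_abelian_normal ab h2.le) (zpowers_le.2 hv) (inv_pgroup ov))
  have h4 : ∀ x ∈ ⟪σ⟫ ⊔ oc (σ ^ m), τ * x * τ = x⁻¹ := fun x hx => by
    obtain ⟨a, ha, u, hu, rfl⟩ := (mem_join_norm (cents_norm hc)).1 hx
    have e : τ * (a * u) * τ = (τ * a * τ⁻¹) * (τ * u * τ) := by group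
    rw [e, c.dih.τ_conj ha, h u hu, hc hu _ ha, mul_inv_rev]
  have KH : ⟪σ⟫ ⊔ oc (σ ^ m) ≤ 𝐂₁[σ ^ m] := sup_le (c.dih.zpowers_le.trans c.St) (oc_le _)
  refine ⟨ab, mem_sup_left IsDih.J_mem, c.ot, fun v hv e => ?_, fun e => τn (h3 τ e os), c.dih.sq,
    h4, fun x hx x1 => ?_, fun a b ha hb => (c.conj a ha).symm.trans (c.conj b hb)⟩
  · by_cases v1 : v = 1
    · exact .inl v1
    have ov := orderOf_eq_prime (by rwa [pow_two]) v1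
    exact .inr (c.dih.eq_J (h3 v hv ov) ov)
  refine le_trans ?_ (c.sup.ge.trans (sup_le (le_sup_right.trans le_sup_left) fun a ha => ?_))
  swap
  · by_cases e : a ∈ ⟪σ⟫
    · exact mem_sup_left (mem_sup_left e)
    · obtain ⟨b, hb, rfl⟩ := c.dih.exists_eq_mul ha e
      exact mul_mem (mem_sup_left (mem_sup_left hb)) (mem_sup_right (mem_zpowers _))
  rcases Nat.even_or_odd (orderOf x) with e | e
  · obtain ⟨v, hv, ov⟩ := Cauchy (H := ⟪x⟫) Nat.prime_two (by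
      rw [Nat.card_zpowers]; exact e.two_dvd)
    rw [← c.dih.eq_J (h3 v (zpowers_le.2 hx hv) ov) ov]
    exact cent1_le_cent1_of_mem hv
  have xU := c.mem_oc c.ot (KH hx) e
  have SM := c.St.trans (c.normX c.ot (hU xU))
  have hM := c.nofus_sup SM fun s hs hn g hg e' => x1 (eq_one_of_odd e (by
    have h5 : σ ^ m ∈ 𝐂[⟪x⟫] := by rw [cent_cycle]; exact cent1C.1 (KH hx)
    have h6 := (mem_normalizer_iff.1 (cent_norm _ hg) _).1 h5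
    rw [e', cent_cycle, mem_cent1] at h6
    rw [← inv s hs hn x xU, h6, mul_assoc, c.dih.mul_self_of_notMem hs hn, mul_one]))
  have SR : S ≤ 𝐍[od 𝐍[⟪x⟫]] := SM.trans (pcore_normal _ _).2
  have hV := klein_pair c.ot os (c.St τS) (c.ne_t τn)
  have VS : ⟪σ ^ m⟫ ⊔ ⟪τ⟫ ≤ S := sup_le (zpowers_le.2 c.tS) (zpowers_le.2 τS)
  obtain ⟨P, hP, VP⟩ := sol_coprime_Sylow_exists 3 (.inl (od_sol _)) (VS.trans SR)
    (cop_two (od_odd _) hV.pgroup)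
  have Po := oddSg hP.le (od_odd _)
  have P0 : P ≤ ⊥ := coprime_abelian_gen_cent1_le hV.ab hV.not_cyclic VP (cop_two Po hV.pgroup)
    fun a ha a1 => by
      have oa := hV.orderOf ha a1
      have h5 := c.le_oc oa (inf_le_right (a := P)) (oddSg inf_le_left Po)
      have h6 : oc a ≤ fit (oc a) := by
        obtain ⟨g, rfl⟩ := c.exists_conj oa
        rwa [oc_conj, FittingJ, conj_le_conj]
      by_contra hn
      exact c.F3 oa ((pgroup_pdiv (hP.pgroup.to_le inf_le_left) (mt le_bot_iff.2 hn)).trans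
        (card_dvd_of_le (h5.trans h6)))
  have Rc := c.hO _ (od_odd _) (hP.eq_bot_iff.1 (le_bot_iff.1 P0))
  obtain ⟨ρ, hρ, -, hr⟩ := c.rho
  have h7 := der1_cent_cyclic Rc SR (mem_commg (c.dih.zpowers_le hρ) τS)
  rw [commutatorElement_def, hr τ τS τn, mul_inv_cancel_right] at h7
  exact (norms_cycle le_rfl).trans (hM.ge.trans (sup_le (le_cent1.2 h7) c.St))

end BC

end Cfsg.G41
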