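import Cfsg.Agent.G41.Q1
import Cfsg.Agent.G41.Struct
import Cfsg.Agent.Grp.DicksonCA
import Cfsg.Agent.Grp.DoubleCover
import Cfsg.Agent.CT.Burnside

/-! `p ≥ 5`, dimension two, no quadratic element: conclusions (iv), (v), (vi). -/

set_option autoImplicit false

namespace Cfsg.G41

open Subgroup Module
open scoped MatrixGroups

universe u

theorem index_sixty {F : Type*} [Field F] {K : Type u} [Group K] [Finite K]
    (X : K →* Matrix (Fin 2) (Fin 2) F) (hX : Function.Injective X) (h2 : (2 : F) ≠ 0)
    (hK : (Nat.card K : F) ≠ 0) (ns : ¬ Group.IsSolvable K) : (center K).index = 60 := by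
  rcases dickson_mat2 X hX h2 hK with ⟨A, hA, hi⟩ | hi | hi | hi
  · exfalso
    have h0 := Nat.pos_of_ne_zero A.index_ne_zero_of_finite
    have hN : A.Normal := by
      rcases (by omega : A.index = 1 ∨ A.index = 2) with h | h
      · rw [index_eq_one.1 h]; infer_instance
      · exact normal_of_index_eq_two h
    have : Group.IsSolvable A := Group.isSolvable_of_comm fun a b =>
      Subtype.ext (hA a a.2 b b.2).eq
    have : Group.IsSolvable (K ⧸ A) := by
      rcases (by omega : A.index = 1 ∨ A.index = 2) with h | h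
      · exact isSolvable_of_card_eq_pow_mul_pow (a := 0) (b := 0) Nat.prime_two Nat.prime_three h
      · exact isSolvable_of_card_eq_pow_mul_pow (a := 1) (b := 0) Nat.prime_two Nat.prime_three h
    exact ns (Group.isSolvable_of_ker_le_range A.subtype (QuotientGroup.mk' A)
      (by rw [QuotientGroup.ker_mk', range_subtype]))
  · exact absurd (sol_of_sol_quot_center
      (isSolvable_of_card_eq_pow_mul_pow (a := 2) (b := 1) Nat.prime_two Nat.prime_three hi)) ns
  · exact absurd (sol_of_sol_quot_center
      (isSolvable_of_card_eq_pow_mul_pow (a := 3) (b := 1) Nat.prime_two Nat.prime_three hi)) ns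
  · exact hi

/-- a group of order `|K| r` with a central element of prime order `r ∤ |K|` -/
theorem equiv_prod {H : Type u} [Group H] [Finite H] (K : Subgroup H) {r : ℕ} (hr : r.Prime)
    {c : H} (hc : c ∈ center H) (ho : orderOf c = r) (hK : ¬ r ∣ Nat.card K)
    (hH : Nat.card H = Nat.card K * r) : Nonempty (H ≃* K × Multiplicative (ZMod r)) := by
  haveI : Fact r.Prime := ⟨hr⟩
  have hz : Nat.card (zpowers c) = r := by rw [Nat.card_zpowers, ho]
  have e : zpowers c ≃* Multiplicative (ZMod r) :=
    mulEquivOfPrimeCardEq hz (by simp)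
  have hcm : ∀ (k : K) (x : zpowers c), Commute (K.subtype k) ((zpowers c).subtype x) :=
    fun k x => mem_center_iff.1 (zpowers_le.2 hc x.2) k
  let f := MonoidHom.noncommCoprod K.subtype (zpowers c).subtype hcm
  have hd : Disjoint K (zpowers c) :=
    (disjoint_iff.2 (inf_eq_bot_of_coprime (by rw [hz]; exact ((hr.coprime_iff_not_dvd).2 hK).symm)))
  have inj : Function.Injective f := by
    rw [injective_iff_map_eq_one]
    rintro ⟨k, x⟩ h
    have h1 : (k : H) * x = 1 := h
    have h2 : (k : H) = 1 := disjoint_def.1 hd k.2 (by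
      rw [eq_inv_of_mul_eq_one_left h1]; exact inv_mem x.2)
    rw [h2, one_mul] at h1
    exact Prod.ext (Subtype.ext h2) (Subtype.ext h1)
  have bij : Function.Bijective f := inj.bijective_of_nat_card_le (by rw [Nat.card_prod, hz, hH])
  exact ⟨(MulEquiv.ofBijective f bij).symm.trans (MulEquiv.prodCongr (MulEquiv.refl _) e)⟩

variable {p : ℕ} [hp : Fact p.Prime] {V : Type} [AddCommGroup V] [Module (ZMod p) V] [Finite V]
  {H : Type u} [Group H] [Finite H] {ρ : H →* Module.End (ZMod p) V}

theorem e2 (h5 : 5 ≤ p) (T : Tr ρ) (hV : Nat.card V = p ^ 2) (hq : ∀ u, ¬ Qd.Quad ρ u) :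
    Concl p H := by
  classical
  haveI := T.nt
  have hn : finrank (ZMod p) V = 2 := by
    rw [Module.natCard_eq_pow_finrank (K := ZMod p), Nat.card_zmod] at hV
    exact Nat.pow_right_injective hp.out.two_le hV
  have cop : ¬ p ∣ Nat.card H := by
    intro hd
    obtain ⟨g, hg⟩ := exists_prime_orderOf_dvd_card' p hd
    refine hq g ⟨fun e => hp.out.one_lt.ne (by rw [← hg, e, orderOf_one]), ?_⟩
    haveI : CharP (Module.End (ZMod p) V) p :=
      charP_of_injective_algebraMap (algebraMap (ZMod p) _).injective p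
    have h1 : (ρ g - 1) ^ p = 0 := by
      rw [sub_pow_char_of_commute p (Commute.one_right _), ← map_pow,
        orderOf_dvd_iff_pow_eq_one.1 hg.dvd, map_one, one_pow, sub_self]
    have h2 := Module.End.ker_pow_le_ker_pow_finrank (ρ g - 1) p
    rw [h1, LinearMap.ker_zero, hn, top_le_iff, LinearMap.ker_eq_top, sq] at h2
    exact h2
  have free : ∀ g : H, g ≠ 1 → ∀ v, ρ g v = v → v = 0 := fun g g1 v h =>
    T.free.eq_zero (fun hd => cop (hd.trans (orderOf_dvd_natCard g))) g1 h
  obtain ⟨v, hv⟩ := exists_ne (0 : V)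
  have hH : Nat.card H + 1 = p ^ 2 := by
    have : Function.Bijective fun g : H => (⟨ρ g v, rho_ne ρ g hv⟩ : {w : V // w ≠ 0}) := by
      refine ⟨fun g g' e => ?_, fun w => ?_⟩
      · by_contra hne
        refine hv (free (g⁻¹ * g') (fun e => hne (inv_mul_eq_one.1 e)) v ?_)
        rw [rho_mul, ← show ρ g v = ρ g' v from congrArg Subtype.val e, rho_inv_self]
      · obtain ⟨g, hg⟩ := T.trans v w hv w.2
        exact ⟨g, Subtype.ext hg⟩
    rw [Nat.card_eq_of_bijective _ this, ← hV]
    have := Fintype.ofFinite V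
    rw [Nat.card_eq_fintype_card, Nat.card_eq_fintype_card, Fintype.card_subtype_compl,
      Fintype.card_subtype_eq, Nat.sub_add_cancel Fintype.card_pos]
  let b := Module.finBasisOfFinrankEq (ZMod p) V hn
  let X : H →* Matrix (Fin 2) (Fin 2) (ZMod p) :=
    (LinearMap.toMatrixAlgEquiv b).toMonoidHom.comp ρ
  have hX : Function.Injective X := (LinearMap.toMatrixAlgEquiv b).injective.comp T.inj
  have h2 : (2 : ZMod p) ≠ 0 := fun h => by
    have := Nat.le_of_dvd two_pos ((ZMod.natCast_eq_zero_iff 2 p).1 h)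
    omega
  have hi := index_sixty X hX h2 (fun h => cop ((ZMod.natCast_eq_zero_iff _ p).1 h)) T.ns
  obtain ⟨K, C, -⟩ := stCmp p V H ρ T
  have hiK := index_sixty (X.comp K.subtype) (hX.comp K.subtype_injective) h2
    (fun h => cop (((ZMod.natCast_eq_zero_iff _ p).1 h).trans (card_subgroup_dvd_card K))) C.ns
  have hZ := (center H).index_mul_card
  have hZK := (center K).index_mul_card
  rw [hi] at hZ
  rw [hiK] at hZK
  -- `K = SL(2, 5)`
  obtain ⟨t, ht⟩ := exists_prime_orderOf_dvd_card' (G := K) 2 (hZK ▸ Dvd.dvd.mul_right (by norm_num) _)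
  have t1 : t ≠ 1 := fun e => by rw [e, orderOf_one] at ht; omega
  have tt : t * t = 1 := by rw [← sq, ← ht, pow_orderOf_eq_one]
  have fK := T.free.sub K
  have iK : Function.Injective (ρ.comp K.subtype) := T.inj.comp K.subtype_injective
  have hz : ∀ x, x ∈ center K ↔ x = 1 ∨ x = t := fun x =>
    ⟨fun hx => or_iff_not_imp_left.2 fun x1 => fK.invol_eq iK (by omega) (C.sq x hx) x1 tt t1,
      fun hx => hx.elim (fun e => e ▸ one_mem _) fun e => e ▸ fK.invol_center iK (by omega) tt⟩
  have c2 : Nat.card (center K) = 2 := by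
    rw [← ht, ← Nat.card_zpowers]
    congr 2
    ext x
    rw [hz]
    refine ⟨fun h => h.elim (fun e => e ▸ one_mem _) fun e => e ▸ mem_zpowers _, fun h => ?_⟩
    exact (hz x).1 (zpowers_le.2 ((hz t).2 (Or.inr rfl)) h)
  haveI := C.simple
  obtain ⟨e⟩ := psl25_of_simple_card_sixty (L := K ⧸ center K) (by
    rw [_root_.commutator_def, ← map_top_of_surjective _ (QuotientGroup.mk'_surjective (center K)),
      ← map_commutator, ← _root_.commutator_def, C.perfect]) hiK
  obtain ⟨eK⟩ := sl25_of_double_cover C.perfect (e.toMonoidHom.comp (QuotientGroup.mk' _))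
    (e.surjective.comp (QuotientGroup.mk'_surjective _))
    (by rw [← Nat.card_congr e.toEquiv, show Nat.card (K ⧸ center K) = 60 from hiK]; norm_num) t1
    fun x => by rw [← hz, ← QuotientGroup.eq_one_iff]; exact e.map_eq_one_iff
  rw [c2] at hZK
  -- the centre consists of scalars
  have sc : ∀ z ∈ center H, ∃ c : ZMod p, ρ z = c • 1 := by
    intro z hz
    by_contra hc
    push Not at hc
    refine T.ns (Group.isSolvable_of_comm fun x y => hX ?_)
    have hx : ∀ x, Commute (X z) (X x) := fun x => Commute.map (mem_center_iff.1 hz x).symm X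
    rw [map_mul, map_mul]
    refine mat2_commute_of_commute (fun c e => hc c ?_) (hx x) (hx y)
    refine (LinearMap.toMatrixAlgEquiv b).injective ?_
    rw [map_smul, map_one]
    exact e
  have hm : Nat.card (center H) ∣ p - 1 := by
    have := T.free.card_dvd (K := center H) (fun h => cop (h.trans (card_subgroup_dvd_card _)))
      (Submodule.span (ZMod p) {v}) fun z hz w hw => by
        obtain ⟨c, hc⟩ := sc z hz
        rw [hc]
        exact Submodule.smul_mem _ c hw
    rwa [Module.natCard_eq_pow_finrank (K := ZMod p) (V := Submodule.span (ZMod p) {v}),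
      finrank_span_singleton hv, Nat.card_zmod, pow_one] at this
  have h3 : ¬ 3 ∣ Nat.card (center H) := by
    intro hd
    obtain ⟨c, hc⟩ := exists_prime_orderOf_dvd_card' 3 hd
    obtain ⟨d, hd⟩ := exists_prime_orderOf_dvd_card' (G := K) 3 (hZK ▸ by norm_num)
    have key : ∀ x : H, orderOf x = 3 → ρ x * ρ x + ρ x + 1 = 0 := fun x hx => by
      have := T.free.sum_zero (c := x) (m := 3) (fun h => by
        rw [hx] at h; have := Nat.le_of_dvd (by norm_num) h; omega)
        (fun e => by rw [e, orderOf_one] at hx; omega) (by rw [← hx, pow_orderOf_eq_one])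
      simp only [Finset.sum_range_succ, Finset.sum_range_zero, pow_zero, pow_one, sq, map_mul,
        map_one, zero_add] at this
      rw [← this]; abel
    have k1 := key c (by rw [← hc, orderOf_coe])
    have k2 := key d (by rw [← hd, orderOf_coe])
    have k3 : ρ c * ρ d = ρ d * ρ c := by rw [← map_mul, ← map_mul, mem_center_iff.1 c.2 d]
    have k4 : (ρ c - ρ d) * (ρ d - ρ c * ρ c) = 0 := by
      have : ρ d - ρ c * ρ c = ρ d + ρ c + 1 := by
        rw [sub_eq_iff_eq_add]
        calc ρ d = ρ d + (ρ c * ρ c + ρ c + 1) := by rw [k1, add_zero]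
          _ = _ := by abel
      rw [this, mul_add, mul_add, sub_mul, sub_mul, k3, mul_one]
      have e1 : ρ d * ρ c - ρ d * ρ d + (ρ c * ρ c - ρ d * ρ c) + (ρ c - ρ d) =
        (ρ c * ρ c + ρ c + 1) - (ρ d * ρ d + ρ d + 1) := by abel
      rw [e1, k1, k2, sub_self]
    have hdc : (d : H) ∈ center H := by
      by_cases h0 : (ρ d - ρ c * ρ c) v = 0
      · have : ((c : H) * c)⁻¹ * d = 1 := by
          by_contra hne
          refine hv (free _ hne v ?_)
          rw [rho_mul, sub_eq_zero.1 h0, ← map_mul, rho_inv_self]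
        rw [← inv_mul_eq_one.1 this]
        exact mul_mem c.2 c.2
      · have : (c : H)⁻¹ * d = 1 := by
          by_contra hne
          refine h0 (free _ hne _ ?_)
          rw [rho_mul, ← sub_eq_zero.1 (congrArg (fun f : Module.End (ZMod p) V => f v) k4),
            rho_inv_self]
        rw [← inv_mul_eq_one.1 this]
        exact c.2
    have := C.sq d (mem_center_iff.2 fun g => Subtype.ext (mem_center_iff.1 hdc g))
    rw [← sq, ← orderOf_dvd_iff_pow_eq_one, hd] at this
    omega
  have fin : ∀ r : ℕ, r.Prime → ¬ r ∣ 120 → Nat.card (center H) = 2 * r →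
      Nonempty (H ≃* SL(2, ZMod 5) × Multiplicative (ZMod r)) := fun r hr h1 h2 => by
    haveI : Fact r.Prime := ⟨hr⟩
    obtain ⟨c, hc⟩ := exists_prime_orderOf_dvd_card' (G := center H) r (h2 ▸ dvd_mul_left _ _)
    obtain ⟨f⟩ := equiv_prod K hr c.2 (by rw [orderOf_coe, hc]) (hZK ▸ h1) (by
      rw [← hZ, ← hZK, h2]; ring)
    exact ⟨f.trans (MulEquiv.prodCongr eK (MulEquiv.refl _))⟩
  obtain ⟨j, hj⟩ := hm
  have hpos := Nat.card_pos (α := center H)
  generalize Nat.card (center H) = m at *
  have hp1 : p = m * j + 1 := by omega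
  have e60 : (p + 1) * j = 60 := by
    refine Nat.eq_of_mul_eq_mul_left hpos ?_
    have : 60 * m + 1 = p ^ 2 := by omega
    rw [hp1] at this ⊢
    nlinarith
  have hle : p + 1 ≤ 60 := Nat.le_of_dvd (by norm_num) ⟨j, e60.symm⟩
  have hpp := hp.out
  have : 60 * m + 1 = p ^ 2 := by omega
  have hp60 : p + 1 ∣ 60 := ⟨j, e60.symm⟩
  have hc : p = 11 ∨ p = 29 ∨ p = 59 := by
    clear * - this hp60 hle h5 h3
    have h59 : p ≤ 59 := by omega
    interval_cases p <;> omega
  rcases hc with rfl | rfl | rfl
  · refine .inr (.inr (.inr (.inl ⟨rfl, ?_⟩)))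
    have : K = ⊤ := eq_top_of_card_eq K (by omega)
    exact ⟨topEquiv.symm.trans ((MulEquiv.subgroupCongr this.symm).trans eK)⟩
  · exact .inr (.inr (.inr (.inr (.inl ⟨rfl, fin 7 (by norm_num) (by norm_num) (by omega)⟩))))
  · exact .inr (.inr (.inr (.inr (.inr ⟨rfl, fin 29 (by norm_num) (by norm_num) (by omega)⟩))))

end Cfsg.G41
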