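import Cfsg.Agent.G41.E3
import Cfsg.Agent.G41.Struct
import Cfsg.Agent.Grp.DoubleCover
import Cfsg.Agent.GW.L2Tor

/-! `p = 3`, cross characteristic: the final identifications. -/

set_option autoImplicit false

namespace Cfsg.G41

open Subgroup
open scoped MatrixGroups

universe u

variable {V : Type} [AddCommGroup V] [Module (ZMod 3) V] [Finite V] {H : Type u} [Group H]
  [Finite H] {ρ : H →* Module.End (ZMod 3) V} {K : Subgroup H}

/-- `SL₂` along a ring isomorphism -/
def sl2Congr {R S : Type*} [CommRing R] [CommRing S] (φ : R ≃+* S) : SL(2, R) ≃* SL(2, S) :=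
  MonoidHom.toMulEquiv (Matrix.SpecialLinearGroup.map φ.toRingHom)
    (Matrix.SpecialLinearGroup.map φ.symm.toRingHom) (by ext; simp) (by ext; simp)

omit [Finite V] in
theorem Cmp.exists_z (T : Tr ρ) (C : Cmp K) :
    ∃ z : K, z ≠ 1 ∧ z * z = 1 ∧ ∀ y : K, y ∈ center K ↔ y = 1 ∨ y = z := by
  have hd : 2 ∣ Nat.card K := by
    by_contra h
    exact C.ns (FT.FTthm.out K (Nat.odd_iff.2 (Nat.two_dvd_ne_zero.1 h)))
  obtain ⟨z, hz⟩ := exists_prime_orderOf_dvd_card' 2 hd
  have z1 : z ≠ 1 := fun e => by rw [e, orderOf_one] at hz; omega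
  have zz : z * z = 1 := by rw [← pow_two, ← hz, pow_orderOf_eq_one]
  have inj : Function.Injective (ρ.comp K.subtype) := T.inj.comp K.subtype_injective
  refine ⟨z, z1, zz, fun y => ⟨fun hy => (eq_or_ne y 1).imp_right fun y1 =>
    (T.free.sub K).invol_eq inj (by decide) (C.sq y hy) y1 zz z1, ?_⟩⟩
  rintro (rfl | rfl)
  · exact one_mem _
  · exact (T.free.sub K).invol_center inj (by decide) zz

omit [Finite V] in
theorem sl2_of_cmp (T : Tr ρ) (C : Cmp K) {F : Type} [Field F] [Fintype F]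
    (e : K ⧸ center K ≃* Matrix.ProjectiveSpecialLinearGroup (Fin 2) F) {l : ℕ} (hl : l.Prime)
    (hF : Fintype.card F = l) (h2 : (2 : ZMod l) ≠ 0) (h3 : (2 : ZMod l) ^ 2 ≠ 1)
    (h16 : ¬ (16 : ℤ) ∣ l * (l - 1) * (l + 1)) : Nonempty (K ≃* SL(2, ZMod l)) := by
  classical
  obtain ⟨z, z1, -, hz⟩ := C.exists_z T
  let φ := ZMod.ringEquivOfPrime F hl hF
  have a2 : (2 : F) ≠ 0 := fun h => h2 (φ.injective (by rw [map_ofNat, map_zero, h]))
  have a3 : (2 : F) ^ 2 ≠ 1 := fun h => h3 (φ.injective (by rw [map_pow, map_ofNat, map_one, h]))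
  have n1 : (-1 : SL(2, F)) ≠ 1 := fun h => a2 <| by
    have := congrArg (fun A : SL(2, F) => A 0 0) h
    simp only [Matrix.SpecialLinearGroup.coe_neg, Matrix.SpecialLinearGroup.coe_one,
      Matrix.neg_apply, Matrix.one_apply_eq] at this
    linear_combination -this
  have h8 : ¬ 8 ∣ Nat.card (Matrix.ProjectiveSpecialLinearGroup (Fin 2) F) := fun h => h16 <| by
    rw [← hF, ← GW.L2.card_SL]
    have b1 : 2 ∣ Nat.card (center SL(2, F)) := by
      have : orderOf (-1 : SL(2, F)) = 2 := orderOf_eq_prime (by simp) n1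
      exact this.symm.dvd.trans (Subgroup.orderOf_dvd_natCard _
        (mem_center_iff.2 fun g => by rw [mul_neg, neg_mul, mul_one, one_mul]))
    have b2 := mul_dvd_mul b1 h
    exact_mod_cast b2.trans (card_mul_index (center SL(2, F))).dvd
  obtain ⟨f⟩ := nonempty_mulEquiv_of_double_cover h8
    (e.toMonoidHom.comp (QuotientGroup.mk' _)) (QuotientGroup.mk' (center SL(2, F)))
    (e.surjective.comp (QuotientGroup.mk'_surjective _)) (QuotientGroup.mk'_surjective _)
    C.perfect (Matrix.SL2.commutator_eq_top a2 a3) z1 n1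
    (fun x => by
      rw [← hz, ← QuotientGroup.eq_one_iff]; exact e.map_eq_one_iff) mk_eq_one
  exact ⟨f.trans (sl2Congr φ).symm⟩

omit [Finite V] in
theorem exf13 (T : Tr ρ) (C : Cmp K) {F : Type} [Field F] [Fintype F]
    (e : K ⧸ center K ≃* Matrix.ProjectiveSpecialLinearGroup (Fin 2) F)
    (hF : Fintype.card F = 13) (hK : K = ⊤) : C3 H := by
  obtain ⟨f⟩ := sl2_of_cmp T C e (by decide) hF (by decide) (by decide) (by decide)
  subst hK
  exact ⟨topEquiv.symm.trans f⟩

omit [Finite V] in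
theorem exf5 (T : Tr ρ) (C : Cmp K) {F : Type} [Field F] [Fintype F]
    (e : K ⧸ center K ≃* Matrix.ProjectiveSpecialLinearGroup (Fin 2) F)
    (hF : Fintype.card F = 5) (hi : K.index = 2)
    (hc : Nat.card (centralizer (K : Set H)) = 2) : C2 H := by
  obtain ⟨z, z1, zz, hz⟩ := C.exists_z T
  have z1' : (z : H) ≠ 1 := fun h => z1 (Subtype.ext h)
  have zz' : (z : H) * z = 1 := congrArg Subtype.val zz
  refine ⟨K, C.normal, hi, sl2_of_cmp T C e (by decide) hF (by decide) (by decide) (by decide),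
    (eq_of_le_of_card_ge ?_ ?_).symm, fun L hL => ?_⟩
  · rintro _ ⟨y, hy, rfl⟩ g hg
    exact congrArg Subtype.val (mem_center_iff.1 hy ⟨g, hg⟩)
  · rw [hc, ← (orderOf_eq_prime (by rw [pow_two, zz']) z1' : orderOf (z : H) = 2)]
    exact Nat.le_of_dvd Nat.card_pos (Subgroup.orderOf_dvd_natCard _ ⟨z, (hz z).2 (.inr rfl), rfl⟩)
  · obtain ⟨t, ht, ho⟩ := exists_orderOf_eq_prime_of_dvd_card (p := 2) (H := L)
      (by rw [← hL.symm.index_eq_card, hi])
    have t1 : t ≠ 1 := fun e => by rw [e, orderOf_one] at ho; omega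
    have := T.free.invol_eq T.inj (by decide) (by rw [← pow_two, ← ho, pow_orderOf_eq_one]) t1 zz' z1'
    exact t1 (disjoint_def.1 hL.disjoint (this ▸ z.2) ht)

end Cfsg.G41
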