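import Cfsg.Agent.G41.Struct
import Cfsg.Agent.GW.L2Tor
import Cfsg.Agent.G41.E3

/-! S4841, `p = 3`, cross characteristic: the index of `K C(K)`. -/

set_option autoImplicit false
set_option linter.style.haveILetI false

namespace Cfsg.G41

open Subgroup Cfsg.FT
open scoped Pointwise MatrixGroups commutatorElement

universe u

variable {H : Type u} [Group H] [Finite H] {K : Subgroup H}

omit [Finite H] in
theorem Cmp.der (hK : Cmp K) : ⁅K, K⁆ = K := by
  have := congrArg (map K.subtype) hK.perfect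
  rwa [_root_.commutator_def, map_commutator, ← MonoidHom.range_eq_map, range_subtype] at this

omit [Finite H] in
/-- a proper normal subgroup of the component is central -/
theorem Cmp.le_cent (hK : Cmp K) {N : Subgroup H} (hN : N ⊴ K) (hn : ¬ K ≤ N) : N ≤ 𝐂[K] := by
  haveI := hK.simple
  haveI : (N.subgroupOf K).Normal := (normal_subgroupOf_iff_le_normalizer hN.1).2 hN.2
  rcases (Normal.map ‹_› (QuotientGroup.mk' (center K)) (QuotientGroup.mk'_surjective _)).eq_bot_or_eq_top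
    with h | h
  · intro x hx y hy
    have := (Subgroup.map_eq_bot_iff _).1 h (x := ⟨x, hN.1 hx⟩) hx
    rw [QuotientGroup.ker_mk'] at this
    exact congrArg Subtype.val (mem_center_iff.1 this ⟨y, hy⟩)
  · refine (hn ?_).elim
    have h1 : _root_.commutator K ≤ N.subgroupOf K := by
      rw [_root_.commutator_def, commutator_le]
      intro a _ b _
      obtain ⟨a', ha', e⟩ := h.ge (mem_top (QuotientGroup.mk' (center K) a))
      obtain ⟨b', hb', e'⟩ := h.ge (mem_top (QuotientGroup.mk' (center K) b))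
      obtain ⟨z, hz, rfl⟩ := (QuotientGroup.mk'_eq_mk' _).1 e
      obtain ⟨w, hw, rfl⟩ := (QuotientGroup.mk'_eq_mk' _).1 e'
      have : ⁅a' * z, b' * w⁆ = ⁅a', b'⁆ := by
        have hz' := mem_center_iff.1 hz
        have hw' := mem_center_iff.1 hw
        simp only [commutatorElement_def, mul_inv_rev]
        calc _ = a' * (z * (b' * w)) * z⁻¹ * (a'⁻¹ * w⁻¹) * b'⁻¹ := by group
          _ = a' * (b' * w * z) * z⁻¹ * (w⁻¹ * a'⁻¹) * b'⁻¹ := by
            rw [← hz', mem_center_iff.1 (inv_mem hw) a'⁻¹]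
          _ = _ := by group
      rw [this, commutatorElement_def]
      exact mul_mem (mul_mem (mul_mem ha' hb') (inv_mem ha')) (inv_mem hb')
    rw [hK.perfect] at h1
    exact fun x hx => h1 (mem_top ⟨x, hx⟩)

theorem exi_syl (hK : Cmp K) {l : ℕ} (hl : l.Prime) (l2 : l ≠ 2)
    (hc : Nat.card K = l * (l ^ 2 - 1)) : ∃ u ∈ K, orderOf u = l ∧
      𝐍[⟪u⟫].index = l + 1 ∧ 𝐍[⟪u⟫].relIndex K = l + 1 ∧ 𝐂[⟪u⟫] ≤ ⟪u⟫ ⊔ 𝐂[K] := by
  haveI := Fact.mk hl
  haveI := hK.normal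
  have nK : ∀ h : H, h ∈ 𝐍[K] := fun h => normalizer_eq_top K ▸ mem_top h
  obtain ⟨u, uK, ou⟩ := Cauchy hl (hc ▸ dvd_mul_right l _)
  have cu := (Nat.card_zpowers u).trans ou
  have UK := zpowers_le.2 uK
  have l1 := hl.two_le
  have i1 : ⟪u⟫.relIndex K = l ^ 2 - 1 := by
    have := card_mul_relIndex UK
    rw [cu, hc] at this
    exact Nat.eq_of_mul_eq_mul_left hl.pos this
  have nd : ¬ l ∣ l ^ 2 - 1 := fun h => hl.one_lt.ne' (Nat.dvd_one.1
    ((Nat.dvd_sub_iff_right (Nat.one_le_pow _ _ hl.pos) (dvd_pow_self l two_ne_zero)).1 h))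
  have hU : Syl l ⟪u⟫ K := ⟨UK, prime_pgroup cu, i1 ▸ nd⟩
  have uC : u ∉ 𝐂[K] := fun h => by
    have := hK.sq ⟨u, uK⟩ (mem_center_iff.2 fun g => Subtype.ext (h g g.2))
    have h2 : orderOf u ∣ 2 := orderOf_dvd_of_pow_eq_one (by
      rw [pow_two]; exact congrArg Subtype.val this)
    exact l2 ((Nat.prime_dvd_prime_iff_eq hl Nat.prime_two).1 (ou ▸ h2))
  have hn : 𝐍[⟪u⟫].relIndex K ≤ l + 1 := by
    obtain ⟨P, hP⟩ := hU.exists_sylow
    have h1 := card_sylow_modEq_one l K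
    rw [P.card_eq_index_normalizer] at h1
    change (𝐍[(P : Subgroup K)]).index ≡ 1 [MOD l] at h1
    rw [hP, norm_subgroupOf UK] at h1
    change 𝐍[⟪u⟫].relIndex K ≡ 1 [MOD l] at h1
    obtain ⟨m, hm⟩ := relIndex_dvd_of_le_left K (normG ⟪u⟫)
    rw [i1] at hm
    generalize 𝐍[⟪u⟫].relIndex K = n at *
    have h2 : l ∣ m + 1 := by
      have h3 : n * m + 1 = l ^ 2 := by have := Nat.one_le_pow 2 l hl.pos; omega
      have := ((h1.mul_right m).add_right 1).symm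
      rw [h3, one_mul] at this
      exact (this.dvd_iff dvd_rfl).2 (dvd_pow_self l two_ne_zero)
    have h4 := Nat.le_of_dvd m.succ_pos h2
    have h3 : n * m + 1 = l ^ 2 := by have := Nat.one_le_pow 2 l hl.pos; omega
    by_contra h5
    nlinarith
  obtain ⟨g, gK, gN⟩ : ∃ g ∈ K, g ∉ 𝐍[⟪u⟫] := by
    by_contra! h
    refine uC (hK.le_cent ⟨UK, h⟩ (fun e => hK.ns ?_) (mem_zpowers u))
    exact solvableS e (abelian_sol (cycle_abelian u))
  have fix : ∀ k ∈ K, u ∈ 𝐍[k •ᶜ ⟪u⟫] → k ∈ 𝐍[⟪u⟫] := fun k hk h => by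
    have h1 := hU.conj k
    rw [conj_eq_of_mem hk] at h1
    exact mem_norm_of_le_conj (h1.le_of_norms' hU.pgroup UK (zpowers_le.2 h))
  let f : Option ⟪u⟫ → K ⧸ 𝐍[⟪u⟫].subgroupOf K := fun a =>
    a.elim ((1 : K) : K ⧸ _) fun a => ((⟨a * g, mul_mem (UK a.2) gK⟩ : K) : K ⧸ _)
  have finj : Function.Injective f := by
    have k : ∀ a : ⟪u⟫, f none ≠ f (some a) := fun a h => gN (by
      have h1 : (1 : H)⁻¹ * (a * g) ∈ 𝐍[⟪u⟫] := (QuotientGroup.eq (α := K)).1 h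
      rwa [inv_one, one_mul, mul_mem_cancel_left (normG _ a.2)] at h1)
    rintro (_ | a) (_ | b) h
    · rfl
    · exact (k b h).elim
    · exact (k a h.symm).elim
    have h1 : (a.1 * g)⁻¹ * (b * g) ∈ 𝐍[⟪u⟫] := (QuotientGroup.eq (α := K)).1 h
    by_contra hab
    have h2 : (a.1)⁻¹ * b ≠ 1 := fun e => hab (congrArg some (Subtype.ext (inv_mul_eq_one.1 e)))
    have h3 : ⟪(a.1)⁻¹ * b⟫ = ⟪u⟫ := by
      refine card_eq_of_le (zpowers_le.2 (mul_mem (inv_mem a.2) b.2)) ?_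
      rw [cu, Nat.card_zpowers]
      exact (((Nat.dvd_prime hl).1 (cu ▸ orderOf_dvd_natCard _
        (mul_mem (inv_mem a.2) b.2))).resolve_left (mt orderOf_eq_one_iff.1 h2)).ge
    refine gN (fix g gK (zpowers_le.1 ?_))
    rw [← h3, zpowers_le, norm_conj, mem_conj, h3]
    simpa only [mul_inv_rev, mul_assoc] using h1
  have c1 : Nat.card (Option ⟪u⟫) = l + 1 := by rw [Finite.card_option, cu]
  have e : 𝐍[⟪u⟫].relIndex K = l + 1 :=
    le_antisymm hn (c1 ▸ Nat.card_le_card_of_injective f finj)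
  have fs := (finj.bijective_of_nat_card_le (c1 ▸ hn)).2
  have cov : ∀ k ∈ K, k ∈ 𝐍[⟪u⟫] ∨ ∃ a ∈ ⟪u⟫, k •ᶜ ⟪u⟫ = a •ᶜ g •ᶜ ⟪u⟫ := fun k hk => by
    obtain ⟨_ | a, h⟩ := fs ((⟨k, hk⟩ : K) : K ⧸ _)
    · have h1 : (1 : H)⁻¹ * k ∈ 𝐍[⟪u⟫] := (QuotientGroup.eq (α := K)).1 h
      exact .inl (by simpa using h1)
    · have h1 : (a.1 * g)⁻¹ * k ∈ 𝐍[⟪u⟫] := (QuotientGroup.eq (α := K)).1 h
      refine .inr ⟨a, a.2, ?_⟩
      have := congrArg ((a.1 * g) •ᶜ ·) (conj_eq_of_mem_norm h1)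
      simp only [conj_conj, mul_inv_cancel_left] at this ⊢
      exact this
  refine ⟨u, uK, ou, ?_, e, fun x hx => ?_⟩
  · have := (Frattini_arg (M := ⊤) ⟨le_top, fun h _ => nK h⟩ hU).symm.relIndex_eq
    rwa [top_inf_eq, relIndex_top_right, e] at this
  have xN := cent_sub _ hx
  obtain ⟨a, ha, e1⟩ := (cov (x * g * x⁻¹) ((mem_normalizer_iff.1 (nK x) g).1 gK)).resolve_left
    fun h => gN ((mul_mem_cancel_left xN).1 ((mul_mem_cancel_right (inv_mem xN)).1 h))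
  have yC : a⁻¹ * x ∈ 𝐂[⟪u⟫] := mul_mem (abelian_iff.1 (cycle_abelian u) (inv_mem ha)) hx
  have y1 : (a⁻¹ * x) •ᶜ g •ᶜ ⟪u⟫ = g •ᶜ ⟪u⟫ := by
    rw [← conj_conj, ← conj_conj, conj_eq_of_mem_norm (inv_mem xN)] at e1
    rw [← conj_conj, e1, inv_conj_conj]
  have yX : a⁻¹ * x ∈ ⨅ k : K, 𝐍[k.1 •ᶜ ⟪u⟫] := mem_iInf.2 fun k => by
    rcases cov k k.2 with h | ⟨b, hb, h⟩
    · rw [conj_eq_of_mem_norm h]; exact cent_sub _ yC
    · rw [h, ← conj_eq_iff_mem_norm, conj_conj, ← yC b hb, ← conj_conj, y1]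
  have hX : K ≤ 𝐍[⨅ k : K, 𝐍[k.1 •ᶜ ⟪u⟫]] := normsP.2 fun k hk y hy => mem_iInf.2 fun k' => by
    have := mem_iInf.1 hy ⟨k⁻¹ * k', mul_mem (inv_mem hk) k'.2⟩
    rwa [← conj_conj, norm_conj, mem_conj, inv_inv] at this
  have h5 : ⁅⨅ k : K, 𝐍[k.1 •ᶜ ⟪u⟫], K⁆ ≤ 𝐂[K] :=
    (le_inf (commg_subl.2 hX) (commg_subr.2 fun h _ => nK h)).trans
      (hK.le_cent ⟨inf_le_right, normsI hX (normG K)⟩ fun h =>
        gN (fix g gK (mem_iInf.1 (h uK).1 ⟨g, gK⟩)))
  have h6 := three_subgroup (X := K) (Y := ⨅ k : K, 𝐍[k.1 •ᶜ ⟪u⟫]) (Z := K)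
    (by rw [commGC K]; exact commG1P.2 h5) (commG1P.2 h5)
  rw [hK.der] at h6
  have := mul_mem (mem_sup_left ha) (mem_sup_right (S := ⟪u⟫) (commG1P'.1 h6 yX))
  rwa [mul_inv_cancel_left] at this

theorem exi0 (hK : Cmp K) {l : ℕ} (hl : l.Prime) (l2 : l ≠ 2)
    (hc : Nat.card K = l * (l ^ 2 - 1)) : Nat.card H ∣ Nat.card K * Nat.card 𝐂[K] := by
  obtain ⟨u, uK, ou, h1, -, h2⟩ := exi_syl hK hl l2 hc
  have cu := (Nat.card_zpowers u).trans ou
  have h3 := index_cent_dvd_card_aut (le_refl 𝐍[⟪u⟫])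
  rw [IsCyclic.card_mulAut, cu, Nat.totient_prime hl] at h3
  have h4 := (mulEq_of_norm (A := ⟪u⟫) (cents_norm (centS (zpowers_le.2 uK)))).card
  have h5 := (card_dvd_of_le h2).trans (Dvd.intro _ h4)
  rw [← 𝐍[⟪u⟫].card_mul_index, ← card_mul_relIndex (cent_sub ⟪u⟫), h1, hc,
    show l * (l ^ 2 - 1) * Nat.card 𝐂[K] = l * Nat.card 𝐂[K] * (l - 1) * (l + 1) by
      rw [← one_pow 2, Nat.sq_sub_sq, one_pow]; ring]
  exact Nat.mul_dvd_mul_right (Nat.mul_dvd_mul (cu ▸ h5) h3) _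

section
variable {p : ℕ} [Fact p.Prime] {V : Type} [AddCommGroup V] [Module (ZMod p) V] [Finite V]
  {ρ : H →* Module.End (ZMod p) V}

theorem Cmp.card_center (T : Tr ρ) (hK : Cmp K) (p2 : p ≠ 2) : Nat.card (center K) = 2 := by
  obtain ⟨t, ht⟩ := exists_prime_orderOf_dvd_card' (G := K) 2 (by
    by_contra h
    have := feit_thompson (G := K) (Nat.odd_iff.2 (by omega))
    exact hK.ns this)
  have tt : t * t = 1 := by rw [← pow_two, ← ht, pow_orderOf_eq_one]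
  have t1 : t ≠ 1 := fun e => by simp [e] at ht
  have inj : Function.Injective (ρ.comp K.subtype) := T.inj.comp K.subtype_injective
  rw [← ht, ← Nat.card_zpowers]
  congr 2
  refine le_antisymm (fun z hz => ?_)
    (zpowers_le.2 ((T.free.sub K).invol_center inj p2 tt))
  by_cases z1 : z = 1
  · exact z1 ▸ one_mem _
  · exact (T.free.sub K).invol_eq inj p2 (hK.sq z hz) z1 tt t1 ▸ mem_zpowers _

theorem Cmp.card_psl (T : Tr ρ) (hK : Cmp K) (p2 : p ≠ 2) {F : Type*} [Field F] [Fintype F]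
    (hF : Odd (Fintype.card F))
    (e : K ⧸ center K ≃* Matrix.ProjectiveSpecialLinearGroup (Fin 2) F) :
    Nat.card K = Fintype.card F * (Fintype.card F ^ 2 - 1) := by
  have h2 : (2 : F) ≠ 0 := Ring.two_ne_zero fun h => by
    have := FiniteField.even_card_of_char_two h
    rw [Nat.odd_iff] at hF
    omega
  have h1 : Nat.card (center SL(2, F)) = 2 := by
    refine Nat.card_eq_two_iff.2 ⟨1, ⟨-1, (QuotientGroup.eq_one_iff _).1
      ((mk_eq_one _).2 (.inr rfl))⟩, fun h => h2 ?_, ?_⟩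
    · have := congrArg (fun A : center SL(2, F) => A.1.1 0 0) h
      simp at this
      linear_combination this
    · refine Set.eq_univ_of_forall fun A => ?_
      exact ((mk_eq_one A.1).1 ((QuotientGroup.eq_one_iff _).2 A.2)).imp Subtype.ext Subtype.ext
  have h3 := card_eq_card_quotient_mul_card_subgroup (center SL(2, F))
  rw [h1, ← Nat.card_congr e.toEquiv] at h3
  rw [card_eq_card_quotient_mul_card_subgroup (center K), hK.card_center T p2, ← h3]
  have h4 := GW.L2.card_SL (F := F)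
  have h5 : 1 ≤ Fintype.card F ^ 2 := Nat.one_le_pow _ _ Fintype.card_pos
  zify [h5]
  rw [h4]
  ring

theorem exi (T : Tr ρ) (hK : Cmp K) (p2 : p ≠ 2) {F : Type*} [Field F] [Fintype F]
    (hF : Odd (Fintype.card F))
    (e : K ⧸ center K ≃* Matrix.ProjectiveSpecialLinearGroup (Fin 2) F)
    (hl : (Fintype.card F).Prime) : (K ⊔ 𝐂[K]).index ∣ 2 := by
  have h1 := exi0 hK hl (fun h => by rw [h] at hF; exact absurd hF (by decide))
    (hK.card_psl T p2 hF e)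
  have h2 := (mulEq_of_norm (cent_sub K)).card
  have h3 : Nat.card ↥(K ⊓ 𝐂[K]) = 2 := by
    rw [← hK.card_center T p2, ← center_top, ← (injM_subtype ⊤).card_map (A := 𝐙[⊤]) le_top,
      (injM_subtype ⊤).map_center, ← MonoidHom.range_eq_map, range_subtype]
  rw [← h2, h3, ← (K ⊔ 𝐂[K]).card_mul_index] at h1
  exact Nat.dvd_of_mul_dvd_mul_left Nat.card_pos h1

end

end Cfsg.G41
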