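import Cfsg.Agent.G41.Struct
import Cfsg.Agent.G41.Quad
import Cfsg.Agent.Grp.Zsigmondy

/-! Orders and Zsigmondy elements of transitive linear groups. -/

set_option autoImplicit false

namespace Cfsg.G41

open Module

universe u

variable {p : ℕ} [hp : Fact p.Prime] {V : Type} [AddCommGroup V] [Module (ZMod p) V] [Finite V]
  {H : Type u} [Group H] [Finite H] {ρ : H →* Module.End (ZMod p) V}

theorem Tr.index_stab (T : Tr ρ) {v : V} (hv : v ≠ 0) :
    (Qd.stab ρ v).index = p ^ finrank (ZMod p) V - 1 := by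
  let _ : MulAction H V := MulAction.compHom V ρ
  have h1 : Qd.stab ρ v = MulAction.stabilizer H v := Subgroup.ext fun g => Qd.mem_stab ρ
  have h2 : MulAction.orbit H v = {0}ᶜ := Set.ext fun w =>
    ⟨fun ⟨g, hg⟩ e => Pass.apply_ne_zero (ρ := ρ) g hv (hg.trans e), fun hw => T.trans v w hv hw⟩
  rw [h1, MulAction.index_stabilizer, h2, Set.ncard_compl, Set.ncard_singleton,
    Pass.card_eq_pow (p := p) V]

theorem Tr.card_eq (T : Tr ρ) : ∃ k, Nat.card H = p ^ k * (p ^ finrank (ZMod p) V - 1) := by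
  have := T.nt
  obtain ⟨v, hv⟩ := exists_ne (0 : V)
  obtain ⟨k, hk⟩ := IsPGroup.iff_card.1 (Qd.stab_pgroup T.free hv)
  exact ⟨k, by rw [← hk, ← T.index_stab hv, Subgroup.card_mul_index]⟩

theorem Tr.dvd_card (T : Tr ρ) : p ^ finrank (ZMod p) V - 1 ∣ Nat.card H := by
  obtain ⟨k, hk⟩ := T.card_eq
  exact hk ▸ dvd_mul_left _ _

theorem dvd_sub_one_of_primitive {n s : ℕ} (hn : 0 < n) (hs : s.Prime) (h1 : s ∣ p ^ n - 1)
    (h2 : ∀ i, 0 < i → i < n → ¬ s ∣ p ^ i - 1) : s ≠ p ∧ n ∣ s - 1 := by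
  have := Fact.mk hs
  have key : ∀ i, s ∣ p ^ i - 1 ↔ (p : ZMod s) ^ i = 1 := fun i => by
    rw [← ZMod.natCast_eq_zero_iff, Nat.cast_sub (Nat.one_le_pow _ _ hp.out.pos), sub_eq_zero]
    simp
  have h0 : (p : ZMod s) ≠ 0 := fun e => by
    have := (key n).1 h1
    rw [e, zero_pow hn.ne'] at this
    exact zero_ne_one this
  refine ⟨fun e => h0 (by subst e; simp), ?_⟩
  have h3 : orderOf (p : ZMod s) = n :=
    (orderOf_eq_iff hn).2 ⟨(key n).1 h1, fun i hi i0 e => h2 i i0 hi ((key i).2 e)⟩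
  exact h3 ▸ ZMod.orderOf_dvd_card_sub_one h0

/-- an irreducible element of Zsigmondy order -/
theorem Tr.zsig (T : Tr ρ) (h3 : 3 ≤ p) (hn : 3 ≤ finrank (ZMod p) V) :
    ∃ (s : ℕ) (y : H), s.Prime ∧ s ∣ p ^ finrank (ZMod p) V - 1 ∧
      (∀ i, 0 < i → i < finrank (ZMod p) V → ¬ s ∣ p ^ i - 1) ∧ s ≠ p ∧
      finrank (ZMod p) V ∣ s - 1 ∧ orderOf y = s ∧
      ∀ U : Submodule (ZMod p) V, (∀ w ∈ U, ρ y w ∈ U) → U = ⊥ ∨ U = ⊤ := by
  obtain ⟨s, hs, h1, h2⟩ := exists_primitive_prime_divisor h3 hn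
  have := Fact.mk hs
  obtain ⟨y, hy⟩ := exists_prime_orderOf_dvd_card' s (h1.trans T.dvd_card)
  obtain ⟨h4, h5⟩ := dvd_sub_one_of_primitive (by omega) hs h1 h2
  exact ⟨s, y, hs, h1, h2, h4, h5, hy, Pass.irreducible_of_primitive (ρ := ρ) T.inj hs h1 h2 hy⟩

/-- a Zsigmondy prime divides the order of every normal subgroup of order divisible by `p` -/
theorem Tr.zsig_dvd (T : Tr ρ) {s : ℕ} (hs : s.Prime) (h1 : s ∣ p ^ finrank (ZMod p) V - 1)
    (h2 : ∀ i, 0 < i → i < finrank (ZMod p) V → ¬ s ∣ p ^ i - 1) {K : Subgroup H} [K.Normal]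
    (hK : p ∣ Nat.card K) : s ∣ Nat.card K := by
  have := T.nt
  have := Fact.mk hs
  by_contra hsK
  obtain ⟨P⟩ : Nonempty (Sylow p K) := inferInstance
  set Q := (P : Subgroup K).map K.subtype with hQ
  have h3 : Subgroup.normalizer (Q : Set H) ⊔ K = ⊤ := Sylow.normalizer_sup_eq_top P
  have h4 : s ∣ Nat.card (Subgroup.normalizer (Q : Set H)) := by
    have h5 := h1.trans T.dvd_card
    rw [← K.card_mul_index, ← Subgroup.relIndex_top_right, ← h3, Subgroup.relIndex_sup_right] at h5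
    exact ((hs.dvd_mul.1 h5).resolve_left hsK).trans (Subgroup.relIndex_dvd_card _ _)
  obtain ⟨y, hy, ho⟩ := exists_orderOf_eq_prime_of_dvd_card h4
  let U : Submodule (ZMod p) V :=
    { carrier := {v | ∀ g ∈ Q, ρ g v = v}
      add_mem' := fun ha hb g hg => by rw [map_add, ha g hg, hb g hg]
      zero_mem' := fun g _ => map_zero _
      smul_mem' := fun c v hv g hg => by rw [map_smul, hv g hg] }
  rcases Pass.irreducible_of_primitive (ρ := ρ) T.inj hs h1 h2 ho U (fun w hw g hg => by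
    have h5 := hw _ ((Subgroup.mem_normalizer_iff.1 (inv_mem hy) g).1 hg)
    rw [← Module.End.mul_apply, ← map_mul, show g * y = y * (y⁻¹ * g * y⁻¹⁻¹) by group, map_mul,
      Module.End.mul_apply, h5]) with h | h
  · obtain ⟨v, hv, h5⟩ := exists_fixed_vec ρ (P.2.map K.subtype)
    exact hv ((Submodule.eq_bot_iff U).1 h v h5)
  · obtain ⟨x, hx, hxo⟩ := exists_orderOf_eq_prime_of_dvd_card (P.dvd_card_of_dvd_card hK)
    have h5 : (x : H) = 1 := T.inj (LinearMap.ext fun v => by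
      rw [map_one]; exact (h ▸ Submodule.mem_top : v ∈ U) x ⟨x, hx, rfl⟩)
    rw [← Subgroup.orderOf_coe, h5, orderOf_one] at hxo
    exact hp.out.one_lt.ne hxo

end Cfsg.G41
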