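import Cfsg.Agent.G41.EXa
import Cfsg.Agent.G41.EXf
import Cfsg.Agent.G41.EXi
import Cfsg.Agent.G41.EXn
import Cfsg.Agent.G41.Gam

/-! S4841, `p = 3`, cross characteristic: assembly. -/

set_option autoImplicit false

namespace Cfsg.G41

open Module Subgroup Cfsg.GW

universe u

variable {V : Type} [AddCommGroup V] [Module (ZMod 3) V] [Finite V] {H : Type u} [Group H]
  [Finite H] {ρ : H →* Module.End (ZMod 3) V} {K : Subgroup H}

theorem ex_cancel {a b x y : ℕ} (h : 3 ^ a * x = 3 ^ b * y) (hx : ¬ 3 ∣ x) (hy : ¬ 3 ∣ y) :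
    x = y :=
  Nat.dvd_antisymm
    ((((Nat.Prime.coprime_iff_not_dvd Nat.prime_three).2 hx).symm.pow_right b).dvd_of_dvd_mul_left
      (h ▸ dvd_mul_left _ _))
    ((((Nat.Prime.coprime_iff_not_dvd Nat.prime_three).2 hy).symm.pow_right a).dvd_of_dvd_mul_left
      (h ▸ dvd_mul_left _ _))

theorem ex_four {z : H} (hz : ∀ y : H, y * y = 1 → y = 1 ∨ y = z) {A : Subgroup H}
    (h : 4 ∣ Nat.card A) : ∃ i ∈ A, i * i = z ∧ i * i ≠ 1 := by
  have : Fact (Nat.Prime 2) := ⟨Nat.prime_two⟩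
  obtain ⟨R, hR⟩ := Sylow.exists_subgroup_card_pow_prime (G := A) 2 (n := 2) h
  by_contra hn
  push Not at hn
  have h1 : ∀ x : R, ((x : A) : H) = 1 ∨ ((x : A) : H) = z := fun x => by
    have h2 : x ^ 2 ^ 2 = 1 := by rw [← hR]; exact pow_card_eq_one'
    have h3 : ((x : A) : H) * x * (((x : A) : H) * x) = 1 := by
      have := congrArg (fun y : R => ((y : A) : H)) h2
      simpa [pow_succ, mul_assoc] using this
    exact hz _ ((hz _ h3).elim id (hn _ (x : A).2))
  have h2 : Nat.card R ≤ Nat.card ({1, z} : Set H) :=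
    Nat.card_le_card_of_injective (fun x : R => (⟨((x : A) : H), h1 x⟩ : ({1, z} : Set H)))
      fun x y e => Subtype.ext (Subtype.ext (Subtype.mk.inj e))
  have h3 : ({1, z} : Set H).ncard ≤ 2 := (Set.ncard_insert_le _ _).trans (by simp)
  rw [Nat.card_coe_set_eq] at h2
  omega

theorem ex_three (T : Tr ρ) [K.Normal] (h3 : 3 ∣ Nat.card K) (hn : 3 ≤ finrank (ZMod 3) V) :
    ¬ 3 ∣ Nat.card (centralizer (K : Set H)) := fun h => by
  have := T.nt
  obtain ⟨s, -, hs, h1, h2, -⟩ := T.zsig le_rfl hn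
  have := Fact.mk hs
  obtain ⟨y, hy, ho⟩ := exists_orderOf_eq_prime_of_dvd_card (T.zsig_dvd hs h1 h2 h3)
  obtain ⟨c, hc, hco⟩ := exists_orderOf_eq_prime_of_dvd_card h
  rcases Pass.irreducible_of_primitive (ρ := ρ) T.inj hs h1 h2 ho (Qd.ax ρ c) (fun w hw => by
    rw [Qd.mem_ax] at hw ⊢
    rw [← Module.End.mul_apply, ← map_mul, ← hc y hy, map_mul, Module.End.mul_apply, hw]) with
    e | e
  · obtain ⟨v, hv, h5⟩ := exists_fixed_vec ρ (Q := zpowers c)
      (IsPGroup.of_card (n := 1) (by rw [Nat.card_zpowers, hco, pow_one]))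
    exact hv ((Submodule.eq_bot_iff _).1 e v ((Qd.mem_ax ρ).2 (h5 c (mem_zpowers c))))
  · have h5 : c = 1 := T.inj (LinearMap.ext fun v => by
      rw [map_one]; exact (Qd.mem_ax ρ).1 (e ▸ Submodule.mem_top))
    rw [h5, orderOf_one] at hco
    omega

theorem ex_bound (T : Tr ρ) (h3 : 3 ∣ Nat.card K)
    (hC : ¬ 3 ∣ Nat.card (centralizer (K : Set H))) :
    (Nat.card (centralizer (K : Set H)) + 1) ^ 2 ≤ 3 ^ finrank (ZMod 3) V := by
  have := T.nt
  obtain ⟨x, hx, ho⟩ := exists_orderOf_eq_prime_of_dvd_card h3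
  have x1 : x ≠ 1 := fun h => by rw [h, orderOf_one] at ho; omega
  have h1 := T.free.card_dvd hC (Qd.ax ρ x) fun c hc w hw => by
    rw [Qd.mem_ax] at hw ⊢
    rw [← Module.End.mul_apply, ← map_mul, hc x hx, map_mul, Module.End.mul_apply, hw]
  have h2 := Qd.sq_card_le T.free (Qd.pCore_bot T.inj T.trans) x1
  obtain ⟨v, hv, h5⟩ := exists_fixed_vec ρ (Q := zpowers x)
    (IsPGroup.of_card (n := 1) (by rw [Nat.card_zpowers, ho, pow_one]))
  have h4 : 1 < Nat.card (Qd.ax ρ x) := Finite.one_lt_card_iff_nontrivial.2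
    ⟨⟨⟨v, (Qd.mem_ax ρ).2 (h5 x (mem_zpowers x))⟩, 0, fun e => hv (congrArg Subtype.val e)⟩⟩
  have h6 := Nat.le_of_dvd (by omega) h1
  rw [Pass.card_eq_pow (p := 3) V] at h2
  exact (Nat.pow_le_pow_left (by omega) 2).trans h2

theorem stEX : StEX.{u} := by
  intro V _ _ _ H _ _ ρ K F _ _ T hK hF hF3 ⟨e⟩
  have := hK.normal
  have := T.nt
  obtain ⟨⟨z, z1, zz, hz⟩, cZ, cK⟩ := exa_card T hK hF e
  obtain ⟨hl, u, hu, hc⟩ := exa_u T hK hF hF3 e
  have hi := exi T hK (by norm_num) hF e hl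
  have h13 := exf13 T hK e
  have h5 := exf5 T hK e
  generalize Fintype.card F = l at *
  have l2 : l ≠ 2 := by rintro rfl; exact absurd hF (by decide)
  have l3 : l ≠ 3 := by rintro rfl; exact hF3 dvd_rfl
  have l5 := hl.five_le_of_ne_two_of_ne_three l2 l3
  have hn := exn (T.free.sub K) hl l3 hu hc
  have n0 : 0 < finrank (ZMod 3) V := finrank_pos
  obtain ⟨a, cH⟩ := T.card_eq
  have h3 : 3 ∣ Nat.card K := by
    rw [cK]
    rcases (by omega : 3 ∣ l - 1 ∨ 3 ∣ l + 1) with h | h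
    exacts [(h.mul_left _).mul_right _, h.mul_left _]
  have h4 : 4 ∣ Nat.card K := by
    obtain ⟨j, rfl⟩ := hF
    rw [cK, Nat.add_sub_cancel]
    exact ⟨(2 * j + 1) * j * (j + 1), by ring⟩
  have n3 : 3 ≤ finrank (ZMod 3) V := by
    have h6 : l ∣ Nat.card H :=
      (cK ▸ (dvd_mul_right l _).mul_right _ : l ∣ Nat.card K).trans (card_subgroup_dvd_card K)
    rw [cH] at h6
    have h7 := (((Nat.coprime_primes hl Nat.prime_three).2 l3).pow_right a).dvd_of_dvd_mul_left h6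
    by_contra h
    rcases (by omega : finrank (ZMod 3) V = 1 ∨ finrank (ZMod 3) V = 2) with h | h <;> rw [h] at h7
    · exact absurd (Nat.le_of_dvd (by norm_num) h7) (by omega)
    · exact l2 ((Nat.prime_dvd_prime_iff_eq hl Nat.prime_two).1 (hl.dvd_of_dvd_pow (n := 3) h7))
  have C3' := ex_three T h3 n3
  have hb := ex_bound T h3 C3'
  set C := centralizer (K : Set H) with hC
  have hI : K ⊓ C = (center K).map K.subtype := by
    ext x
    exact ⟨fun h => ⟨⟨x, h.1⟩, mem_center_iff.2 fun g => Subtype.ext (h.2 g g.2), rfl⟩, by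
      rintro ⟨y, hy, rfl⟩
      exact ⟨y.2, fun g hg => congrArg Subtype.val (mem_center_iff.1 hy ⟨g, hg⟩)⟩⟩
  have cI : Nat.card (K ⊓ C : Subgroup H) = 2 := by rw [hI, card_subtype, cZ]
  obtain ⟨c, cC⟩ : 2 ∣ Nat.card C := cI ▸ card_dvd_of_le inf_le_right
  have zu : ∀ y : H, y * y = 1 → y = 1 ∨ y = z := fun y hy => (eq_or_ne y 1).imp id fun y1 =>
    T.free.invol_eq T.inj (by norm_num) hy y1 (congrArg Subtype.val zz)
      fun h => z1 (Subtype.ext h)
  have c2 : ¬ 2 ∣ c := fun h => by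
    obtain ⟨i, hi, i1, -⟩ := ex_four zu h4
    obtain ⟨j, hj, j1, j2⟩ := ex_four zu (A := C) (cC ▸ mul_dvd_mul_left 2 h)
    have h6 : i * j * (i * j) = 1 := by
      rw [mul_assoc, ← mul_assoc j, ← hj i hi, mul_assoc i, ← mul_assoc, i1, j1]
      exact congrArg Subtype.val zz
    have h7 : i * j ∈ K := by
      rcases zu _ h6 with h | h <;> rw [h]
      exacts [one_mem _, z.2]
    obtain ⟨y, hy, rfl⟩ : j ∈ (center K).map K.subtype :=
      hI ▸ ⟨(K.mul_mem_cancel_left hi).1 h7, hj⟩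
    exact j2 (congrArg Subtype.val (hK.sq y hy))
  have h6 := card_sup_mul_card_inf (N := K) (H := C) (le_normalizer_of_normal)
  rw [cI, cC, mul_left_comm, mul_comm 2, Nat.mul_left_inj two_ne_zero] at h6
  have h7 := (K ⊔ C).card_mul_index
  obtain ⟨b, k, k3, hk⟩ := Nat.exists_eq_pow_mul_and_not_dvd (Nat.card_pos (α := K)).ne' 3
    (by norm_num)
  have d2 : (K ⊔ C).index ≤ 2 := Nat.le_of_dvd two_pos hi
  have h8 : 3 ^ finrank (ZMod 3) V - 1 = (K ⊔ C).index * k * c :=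
    ex_cancel (a := a) (b := b) (by rw [← cH, ← h7, h6, hk]; ring) (fun h => by
      have := (Nat.dvd_sub_iff_right (Nat.one_le_pow _ _ (by norm_num))
        (dvd_pow_self 3 n0.ne')).1 h
      omega) fun h => by
      rcases Nat.prime_three.dvd_mul.1 h with h | h
      · rcases Nat.prime_three.dvd_mul.1 h with h | h
        · exact absurd (h.trans hi) (by norm_num)
        · exact k3 h
      · exact C3' (cC ▸ h.mul_left 2)
  have b0 : 0 < b := Nat.pos_of_ne_zero (by rintro rfl; exact k3 (by simpa [hk] using h3))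
  have key : c = 1 → K ⊔ C = K := fun h => sup_eq_left.2 (by
    rw [← inf_eq_right]
    exact eq_of_le_of_card_ge inf_le_right (by omega))
  rcases exa_num hl l2 l3 (hk.symm.trans cK) b0 k3 hn n0 h8 d2 (cC ▸ hb) with ⟨h, h9⟩ | ⟨h, h9⟩
  · have c1 : c = 1 :=
      ((Nat.dvd_prime Nat.prime_two).1 (h9 ▸ dvd_mul_left _ _)).resolve_right (by omega)
    rw [key c1, c1, mul_one] at h9
    exact Or.inl (h5 h h9 (by omega))
  · have c1 : c = 1 := Nat.eq_one_of_mul_eq_one_left h9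
    rw [key c1, c1, mul_one] at h9
    exact Or.inr (h13 h (index_eq_one.1 h9))

end Cfsg.G41
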