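import Cfsg.Agent.G41.E3
import Cfsg.Agent.GW.L2Mul
import Cfsg.Agent.GW.L2Tor

/-! S4841, `p = 3`, cross characteristic: the component and the numerics. -/

set_option autoImplicit false

namespace Cfsg.G41

open Module Subgroup Cfsg.GW Cfsg.GW.L2
open scoped MatrixGroups

universe u

theorem exa_pow (j : ℕ) (hj : 18 ≤ j) : (2 * j + 1) ^ 6 ≤ 9 * 3 ^ j := by
  induction j, hj using Nat.le_induction with
  | base => norm_num
  | succ j hj ih =>
    have h1 : 6 * (2 * (j + 1) + 1) ≤ 7 * (2 * j + 1) := by omega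
    have h2 := Nat.pow_le_pow_left h1 6
    rw [mul_pow, mul_pow] at h2
    rw [pow_succ 3 j]
    omega

theorem exa_num {l n k b δ c : ℕ} (hl : l.Prime) (l2 : l ≠ 2) (l3 : l ≠ 3)
    (hk : 3 ^ b * k = l * (l - 1) * (l + 1)) (hb : 0 < b) (k3 : ¬ 3 ∣ k) (hn : (l - 1) / 2 ≤ n)
    (n0 : 0 < n) (e : 3 ^ n - 1 = δ * k * c) (hδ : δ ≤ 2) (hc : (2 * c + 1) ^ 2 ≤ 3 ^ n) :
    (l = 5 ∧ δ * c = 2) ∨ (l = 13 ∧ δ * c = 1) := by
  have h1 : 3 ≤ 3 ^ n := by simpa using Nat.pow_le_pow_right (n := 3) (by norm_num) n0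
  have c0 : 0 < c := Nat.pos_of_ne_zero (by rintro rfl; omega)
  have h2 : 3 ^ n ≤ 2 * k * c + 1 := by
    have : δ * k * c ≤ 2 * k * c := by gcongr
    omega
  have h3 : 2 * c + 2 ≤ k := by
    have : c * (2 * (2 * c + 2)) ≤ c * (2 * k) := by nlinarith
    have := Nat.le_of_mul_le_mul_left this c0
    omega
  have h4 : 3 ^ n < k ^ 2 := by nlinarith
  have h5' : 3 * k ≤ l * (l - 1) * (l + 1) := by
    have : 3 ≤ 3 ^ b := by simpa using Nat.pow_le_pow_right (n := 3) (by norm_num) hb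
    rw [← hk]; gcongr
  have h5 : 3 * k < l ^ 3 := by
    obtain ⟨m, rfl⟩ : ∃ m, l = m + 1 := ⟨l - 1, by have := hl.pos; omega⟩
    rw [Nat.add_sub_cancel] at h5'
    nlinarith
  have h6 : l < 37 := by
    by_contra h
    obtain ⟨j, hj⟩ := hl.odd_of_ne_two l2
    have h7 := exa_pow j (by omega)
    have h8 : 3 ^ j ≤ 3 ^ n := Nat.pow_le_pow_right (by norm_num) (by omega)
    have h9 := Nat.pow_lt_pow_left h5 two_ne_zero
    rw [← pow_mul, mul_pow, hj, show 3 * 2 = 6 from rfl] at h9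
    omega
  have h7 : 3 ^ n - 1 = k * (δ * c) := by rw [e]; ring
  generalize δ * c = m at h7 ⊢
  have h8 : b = 1 ∨ b = 2 ∨ 27 ∣ 3 ^ b * k := by
    rcases Nat.lt_or_ge b 3 with h | h
    · omega
    · exact Or.inr (Or.inr ((pow_dvd_pow 3 h).mul_right k))
  have h9 : ∀ N, k ≤ N → N ^ 2 ≤ 3 ^ 17 → n < 17 := fun N h h' =>
    (Nat.pow_lt_pow_iff_right (by norm_num : 1 < 3)).1
      (h4.trans_le ((Nat.pow_le_pow_left h 2).trans h'))
  have h10 : k ≤ 9920 := by
    interval_cases l <;> first | omega | (exfalso; revert hl; decide)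
  have h11 := h9 9920 h10 (by norm_num)
  clear h9 e h2 h3 hc h5 hn h1 h5'
  rw [hk] at h8
  interval_cases l <;> first | omega | (exfalso; revert hl; decide) | skip
  all_goals
    rcases h8 with rfl | rfl | h8 <;> first | omega | skip
  all_goals
    norm_num at hk
    first | omega | skip
  all_goals
    obtain rfl : k = _ := by first | exact (Nat.eq_div_of_mul_eq_right (by norm_num) hk)
    interval_cases n <;> omega

variable {V : Type} [AddCommGroup V] [Module (ZMod 3) V] [Finite V] {H : Type u} [Group H]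
  [Finite H] {ρ : H →* Module.End (ZMod 3) V} {K : Subgroup H} {F : Type} [Field F] [Fintype F]

theorem exa_two (hF : Odd (Fintype.card F)) : (2 : F) ≠ 0 :=
  Ring.two_ne_zero fun h => by
    have := FiniteField.even_card_iff_char_two.1 h
    obtain ⟨k, hk⟩ := hF
    omega

theorem exa_card (T : Tr ρ) (hK : Cmp K) (hF : Odd (Fintype.card F))
    (e : K ⧸ center K ≃* Matrix.ProjectiveSpecialLinearGroup (Fin 2) F) :
    (∃ z : K, z ≠ 1 ∧ z * z = 1 ∧ ∀ x, x ∈ center K ↔ x = 1 ∨ x = z) ∧ Nat.card (center K) = 2 ∧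
      Nat.card K = Fintype.card F * (Fintype.card F - 1) * (Fintype.card F + 1) := by
  have h1 := card_map (π := QuotientGroup.mk' (center SL(2, F))) (exa_two hF) mk_eq_one
    (H := ⊤) (mem_top _)
  rw [map_top_of_surjective _ (QuotientGroup.mk'_surjective _), card_top, card_top] at h1
  have h2 : Nat.card SL(2, F) = Fintype.card F * (Fintype.card F - 1) * (Fintype.card F + 1) := by
    have := card_SL (F := F)
    zify [Fintype.card_pos (α := F)]
    exact this
  have h3 : Nat.card (K ⧸ center K) = Nat.card (SL(2, F) ⧸ center SL(2, F)) :=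
    Nat.card_congr e.toEquiv
  have h4 : 2 ∣ Nat.card (K ⧸ center K) := by
    obtain ⟨j, hj⟩ := hF
    refine ⟨(2 * j + 1) * j * (j + 1), ?_⟩
    rw [hj, Nat.add_sub_cancel] at h2
    nlinarith
  obtain ⟨z, hz⟩ := exists_prime_orderOf_dvd_card' (G := K) 2
    (h4.trans (card_quotient_dvd_card _))
  have z1 : z ≠ 1 := fun h => by rw [h, orderOf_one] at hz; omega
  have zz : z * z = 1 := by rw [← pow_two, ← hz, pow_orderOf_eq_one]
  have inj : Function.Injective (ρ.comp K.subtype) := T.inj.comp K.subtype_injective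
  have hc : ∀ x, x ∈ center K ↔ x = 1 ∨ x = z := fun x =>
    ⟨fun h => (eq_or_ne x 1).imp id fun x1 =>
      (T.free.sub K).invol_eq inj (by norm_num) (hK.sq x h) x1 zz z1, by
      rintro (rfl | rfl)
      exacts [one_mem _, (T.free.sub K).invol_center inj (by norm_num) zz]⟩
  have h5 : Nat.card (center K) = 2 := by
    rw [show center K = zpowers z from le_antisymm (fun x hx => by
      rcases (hc x).1 hx with rfl | rfl
      exacts [one_mem _, mem_zpowers _]) (zpowers_le.2 ((hc z).2 (Or.inr rfl))),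
      Nat.card_zpowers, hz]
  refine ⟨⟨z, z1, zz, hc⟩, h5, ?_⟩
  rw [card_eq_card_quotient_mul_card_subgroup (center K), h5, h3, ← h2, h1, mul_comm]

theorem exa_u (T : Tr ρ) (hK : Cmp K) (hF : Odd (Fintype.card F)) (h3 : ¬ 3 ∣ Fintype.card F)
    (e : K ⧸ center K ≃* Matrix.ProjectiveSpecialLinearGroup (Fin 2) F) :
    (Fintype.card F).Prime ∧ ∃ u : K, orderOf u = Fintype.card F ∧
      ∀ a : ℕ, ¬ Fintype.card F ∣ a → IsConj u (u ^ a ^ 2) := by
  have := T.nt
  have h2 := exa_two hF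
  let π := QuotientGroup.mk' (center SL(2, F))
  have hk : ∀ A, π A = 1 ↔ A = 1 ∨ A = -1 := mk_eq_one
  let ψ : K →* SL(2, F) ⧸ center SL(2, F) := e.toMonoidHom.comp (QuotientGroup.mk' _)
  have sψ : Function.Surjective ψ := e.surjective.comp (QuotientGroup.mk'_surjective _)
  have kψ : ∀ z, ψ z = 1 → z ∈ center K := fun z h =>
    (QuotientGroup.eq_one_iff z).1 (e.map_eq_one_iff.1 h)
  clear_value π ψ
  obtain ⟨r, hr⟩ := CharP.exists F
  obtain ⟨a, hp, ha⟩ := FiniteField.card F r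
  have := Fact.mk hp
  have r2 : r ≠ 2 := by
    rintro rfl
    exact h2 (by exact_mod_cast CharP.cast_eq_zero F 2)
  have r3 : r ≠ 3 := by
    rintro rfl
    exact h3 (ha ▸ dvd_pow_self 3 a.ne_zero)
  let Uh : Multiplicative F →* SL(2, F) :=
    MonoidHom.mk' (fun a => U a.toAdd) fun a b => (U_add _ _).symm
  have h4 : Nat.card (π.comp Uh).range = r ^ (a : ℕ) := by
    rw [← ha, ← Nat.card_eq_fintype_card, ← Nat.card_congr (MonoidHom.ofInjective (f := π.comp Uh)
      fun x y h => U_inj (a := x.toAdd) (b := y.toAdd) hk h2 h).toEquiv]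
    rfl
  set A := (π.comp Uh).range.comap ψ with hA
  have h5 : r ^ (a : ℕ) ∣ Nat.card A := by
    rw [← h4, ← map_comap_eq_self_of_surjective sψ (π.comp Uh).range]
    exact card_map_dvd _ _
  obtain ⟨R, hR⟩ := Sylow.exists_subgroup_card_pow_prime r h5
  have hc := (T.free.comp (K.subtype.comp A.subtype)
    (K.subtype_injective.comp A.subtype_injective)).cyclic_of_pgroup r2 r3 (IsPGroup.of_card hR)
  obtain ⟨g, hg⟩ := hc.exists_ofOrder_eq_natCard
  rw [hR, ← orderOf_coe, ← orderOf_coe] at hg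
  obtain ⟨b, hb⟩ := (g : A).2
  generalize ((g : A) : K) = u at hg hb
  have hb : π (U b.toAdd) = ψ u := hb
  have h6 : u ^ (r * 2) = 1 := by
    rw [pow_mul, pow_two]
    exact hK.sq _ (kψ _ (by
      rw [map_pow, ← hb, ← map_pow, U_pow, CharP.cast_eq_zero F r, zero_mul, U_zero, map_one]))
  have h7 : (a : ℕ) = 1 := by
    have h8 := orderOf_dvd_of_pow_eq_one h6
    rw [hg] at h8
    have h9 := (Nat.pow_dvd_pow_iff_le_right hp.one_lt).1
      (((((Nat.coprime_primes hp Nat.prime_two).2 r2).pow_left a).dvd_of_dvd_mul_right h8).trans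
        (pow_one r).symm.dvd)
    have := a.pos
    omega
  rw [h7, pow_one] at ha hg
  rw [ha]
  refine ⟨hp, u, hg, fun c hc => ?_⟩
  obtain ⟨d, hd⟩ := uu_conj (a := (c : F)) (mt (CharP.cast_eq_zero_iff F r c).1 hc)
  obtain ⟨d', hd'⟩ := sψ (π d)
  refine isConj_iff.2 ⟨d', ?_⟩
  have h8 := kψ (d' * u * d'⁻¹ * (u ^ c ^ 2)⁻¹) (by
    rw [map_mul, map_inv, mul_inv_eq_one, map_mul, map_inv, mul_inv_eq_iff_eq_mul, map_mul,
      map_pow, hd', ← hb, ← map_pow, ← map_mul, ← map_mul, U_pow, Nat.cast_pow]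
    exact congrArg π (hd _))
  have h9 : (d' * u * d'⁻¹ * (u ^ c ^ 2)⁻¹ * u ^ c ^ 2) ^ r = 1 := by
    rw [inv_mul_cancel_right, conj_pow, ← hg, pow_orderOf_eq_one]; group
  rw [Commute.mul_pow (mem_center_iff.1 h8 _).symm, ← pow_mul, mul_comm (c ^ 2), pow_mul u,
    show u ^ r = 1 by rw [← hg, pow_orderOf_eq_one], one_pow, mul_one] at h9
  obtain ⟨j, hj⟩ := hp.odd_of_ne_two r2
  rwa [hj, pow_succ, pow_mul, sq, hK.sq _ h8, one_pow, one_mul, mul_inv_eq_one] at h9

end Cfsg.G41
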