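import Cfsg.Agent.G41.E3

/-! Cross characteristic: the field is prime, and the unipotent element. -/

set_option autoImplicit false

namespace Cfsg.G41

open Subgroup
open scoped MatrixGroups

universe u

variable {p : ℕ} [hp : Fact p.Prime] {V : Type} [AddCommGroup V] [Module (ZMod p) V] [Finite V]
  {H : Type u} [Group H] [Finite H] {ρ : H →* Module.End (ZMod p) V}

open Cfsg.GW.L2 in
theorem exu (Tρ : Tr ρ) {K : Subgroup H} (C : Cmp K) {F : Type} [Field F] [Fintype F]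
    (hF : Odd (Fintype.card F)) (hp' : ¬ p ∣ Fintype.card F)
    (e : K ⧸ center K ≃* Matrix.ProjectiveSpecialLinearGroup (Fin 2) F) :
    (Fintype.card F).Prime ∧ ∃ u : K, orderOf u = Fintype.card F ∧
      ∀ a : ℕ, ¬ Fintype.card F ∣ a → IsConj u (u ^ (a ^ 2)) := by
  classical
  haveI := Tρ.nt
  let π := QuotientGroup.mk' (center SL(2, F))
  have hk : ∀ A, π A = 1 ↔ A = 1 ∨ A = -1 := mk_eq_one
  let ψ : K →* SL(2, F) ⧸ center SL(2, F) := e.toMonoidHom.comp (QuotientGroup.mk' _)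
  have sψ : Function.Surjective ψ := e.surjective.comp (QuotientGroup.mk'_surjective _)
  have kψ : ∀ z, ψ z = 1 → z ∈ center K := fun z h =>
    (QuotientGroup.eq_one_iff z).1 (e.map_eq_one_iff.1 h)
  clear_value π ψ
  obtain ⟨r, _, n, hr, hn⟩ := FiniteField.card' F
  haveI := Fact.mk hr
  have rF : r ∣ Fintype.card F := hn ▸ dvd_pow_self r n.ne_zero
  obtain ⟨j, hj⟩ : Odd r := hF.of_dvd_nat rF
  have h3 : (r : F) = 0 := CharP.cast_eq_zero F r
  have h2 : (2 : F) ≠ 0 := fun h => one_ne_zero (α := F) (by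
    rw [hj] at h3; push_cast at h3; linear_combination h3 - j * h)
  have inj3 : ∀ x x' : K, x ^ r = 1 → x' ^ r = 1 → ψ x = ψ x' → x = x' := by
    intro x x' h h' e
    have hz := kψ (x * x'⁻¹) (by rw [map_mul, map_inv, e, mul_inv_cancel])
    have h1 : (x * x'⁻¹ * x') ^ r = 1 := by rw [inv_mul_cancel_right]; exact h
    rw [Commute.mul_pow (mem_center_iff.1 hz x').symm, h', mul_one, hj, pow_succ, pow_mul, sq,
      C.sq _ hz, one_pow, one_mul, mul_inv_eq_one] at h1
    exact h1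
  have cj : ∀ x y : K, y ^ r = 1 → (x * y * x⁻¹) ^ r = 1 :=
    fun x y h => by rw [conj_pow, h]; group
  let E : Subgroup K :=
    { carrier := {x | x ^ r = 1 ∧ ∃ a, ψ x = π (U a)}
      one_mem' := ⟨by simp, 0, by rw [U_zero, map_one, map_one]⟩
      mul_mem' := by
        rintro x y ⟨hx, a, ha⟩ ⟨hy, b, hb⟩
        have : x * y * x⁻¹ = y := inj3 _ _ (cj x y hy) hy (by
          rw [map_mul, map_mul, map_inv, ha, hb, mul_inv_eq_iff_eq_mul, ← map_mul, ← map_mul,
            U_add, U_add, add_comm])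
        refine ⟨?_, a + b, by rw [map_mul, ha, hb, ← map_mul, U_add]⟩
        rw [Commute.mul_pow (mul_inv_eq_iff_eq_mul.1 this), hx, hy, mul_one]
      inv_mem' := by
        rintro x ⟨hx, a, ha⟩
        exact ⟨by rw [inv_pow, hx, inv_one], -a, by rw [map_inv, ha, ← map_inv, U_inv]⟩ }
  have hE : ∀ x : E, x ^ r = 1 := fun x => Subtype.ext x.2.1
  have lift : ∀ a, ∃ x ∈ E, ψ x = π (U a) := fun a => by
    obtain ⟨y, hy⟩ := sψ (π (U a))
    have h1 : ψ (y ^ (r + 1)) = π (U a) := by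
      rw [map_pow, hy, ← map_pow, U_pow]; congr 2; push_cast; linear_combination a * h3
    refine ⟨y ^ (r + 1), ⟨?_, a, h1⟩, h1⟩
    have := C.sq _ (kψ (y ^ r) (by
      rw [map_pow, hy, ← map_pow, U_pow, h3, zero_mul, U_zero, map_one]))
    rw [← pow_mul, mul_comm, pow_mul, show r + 1 = 2 * (j + 1) by omega, pow_mul, sq, this, one_pow]
  have cE : Nat.card E = Fintype.card F := by
    rw [← Nat.card_eq_fintype_card]
    refine Nat.card_eq_of_bijective (fun x : E => x.2.2.choose) ⟨fun x y h => ?_, fun a => ?_⟩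
    · refine Subtype.ext (inj3 _ _ x.2.1 y.2.1 ?_)
      rw [x.2.2.choose_spec, y.2.2.choose_spec]
      exact congrArg (fun a => π (U a)) h
    · obtain ⟨x, hx, h⟩ := lift a
      exact ⟨⟨x, hx⟩, U_inj hk h2 (hx.2.choose_spec.symm.trans h)⟩
  haveI := (Tρ.free.sub K).cyclic_of_pgroup (r := r) (by omega) (fun h => hp' (h ▸ rF)) (A := E)
    fun x => ⟨1, by rw [pow_one, hE]⟩
  have e1 : Fintype.card F = r := Nat.dvd_antisymm (by
    rw [← cE, ← IsCyclic.exponent_eq_card]; exact Monoid.exponent_dvd_of_forall_pow_eq_one hE) rF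
  rw [e1]
  obtain ⟨u, hu, h1⟩ := lift 1
  refine ⟨hr, u, orderOf_eq_prime hu.1 fun e => one_ne_zero (U_inj hk h2 (h1.symm.trans (by
    rw [e, U_zero, map_one, map_one]))), fun a ha => ?_⟩
  have a0 : (a : F) ≠ 0 := fun h => ha ((CharP.cast_eq_zero_iff F r a).1 h)
  obtain ⟨y, hy⟩ := sψ (π (mobMk (a : F) 0 0 (a : F)⁻¹ (by simp [a0])))
  refine isConj_iff.2 ⟨y, inj3 _ _ (cj _ _ hu.1) (by
    rw [← pow_mul, mul_comm, pow_mul, hu.1, one_pow]) ?_⟩
  rw [map_mul, map_mul, map_inv, hy, map_pow, h1, ← map_mul, ← map_inv, ← map_mul, ← map_pow, U_pow,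
    ]
  congr 1
  rw [mul_inv_eq_iff_eq_mul]
  simp [ext2, mul2, U, sq, a0]

end Cfsg.G41
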