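import Cfsg.Agent.G41.Defs
import Cfsg.Agent.G41.Red
import Cfsg.Agent.GW.All

/-!
# S4841: assembly
-/

set_option autoImplicit false

namespace Cfsg.G41

open Subgroup Cfsg.FT Cfsg.Gag Cfsg.GW

universe u

theorem concl3 (hC : StCmp.{u}) (hD : StDih.{u}) (h3 : StX3.{u}) (hB : StB3.{u}) (h7 : StE7.{u})
    (hE : StE3.{u}) (hX : StEX.{u}) {V : Type} [AddCommGroup V] [Module (ZMod 3) V] [Finite V]
    {H : Type u} [Group H] [Finite H] {ρ : H →* Module.End (ZMod 3) V} (h : Tr ρ) :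
    Concl 3 H := by
  obtain ⟨K, hK, -⟩ := hC 3 V H ρ h
  obtain ⟨S, σ, τ, m, hS, hm⟩ := hD V H ρ K h hK
  haveI := hK.simple
  have hL : IsL2 (K ⧸ center K) := by
    rcases hm with hm | ⟨f, x, hm⟩ | hm
    · exact (pieces stC1D).gwk _ S hS.syl hm
    · exact ((pieces stC1D).gwd _ S f x hS.syl hm).resolve_right (h7 V H ρ K h hK)
    · exact hB V H ρ K _ _ S σ τ m hS hm (h3 V H ρ K _ _ S σ τ m hS hm)
  obtain ⟨F, _, _, hF, e⟩ := hL
  by_cases h3 : 3 ∣ Fintype.card F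
  · obtain ⟨q, hq⟩ := CharP.exists F
    obtain ⟨n, hp, hn⟩ := FiniteField.card F q
    obtain rfl : 3 = q := by
      rw [hn] at h3
      exact (Nat.prime_dvd_prime_iff_eq Nat.prime_three hp).1 (Nat.prime_three.dvd_of_dvd_pow h3)
    exact Or.inl (hE V H ρ K F h hK e)
  · rcases hX V H ρ K F h hK hF h3 e with h | h
    · exact Or.inr (Or.inl ⟨rfl, h⟩)
    · exact Or.inr (Or.inr (Or.inl ⟨rfl, h⟩))

theorem concl (hS : StStar.{u}) (hC : StCmp.{u}) (h5 : StP5.{u}) (ha : StP2a.{u})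
    (hb : StP2b.{u}) (hD : StDih.{u}) (h3 : StX3.{u}) (hB : StB3.{u}) (h7 : StE7.{u})
    (hE : StE3.{u}) (hX : StEX.{u}) {p : ℕ} [hp : Fact p.Prime] {V : Type} [AddCommGroup V]
    [Module (ZMod p) V] [Finite V] {H : Type u} [Group H] [Finite H]
    {ρ : H →* Module.End (ZMod p) V} (h : Tr ρ) : Concl p H := by
  by_cases h2 : p = 2
  · subst h2
    obtain ⟨K, hK, hs⟩ := hC 2 V H ρ h
    have hs := hs rfl
    exact Or.inl (hb V H ρ K h hK hs (ha V K _ (hS 2 V H ρ K h hK.normal) inferInstance hK.perfect))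
  by_cases h3' : p = 3
  · subst h3'
    exact concl3 hC hD h3 hB h7 hE hX h
  exact h5 p V H ρ (hp.out.five_le_of_ne_two_of_ne_three h2 h3') h

theorem main (hS : StStar.{u}) (hC : StCmp.{u}) (h5 : StP5.{u}) (ha : StP2a.{u})
    (hb : StP2b.{u}) (hD : StDih.{u}) (h3 : StX3.{u}) (hB : StB3.{u}) (h7 : StE7.{u})
    (hE : StE3.{u}) (hX : StEX.{u}) {G : Type u} [Group G] [Finite G]
    (hns : ¬ Group.IsSolvable G) (χ : IrrCharacter G)
    (hχ : Nat.card {C : ConjClasses G // ∃ g ∈ C.carrier, (χ : G → ℂ) g ≠ 0} = 2) :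
    ∃ p : ℕ, p.Prime ∧ (∀ q : ℕ, q.Prime → (pCore q G ≠ ⊥ ↔ q = p)) ∧
      Concl p (G ⧸ pCore p G) := by
  obtain ⟨p, hp, h1, h2, n, ρ, inj, hn, tr, st⟩ := red hns χ hχ
  haveI : Fact p.Prime := ⟨hp⟩
  haveI : Nonempty (Fin n) := ⟨⟨0, hn⟩⟩
  exact ⟨p, hp, h1, concl hS hC h5 ha hb hD h3 hB h7 hE hX ⟨inj, st, inferInstance, tr, h2⟩⟩

end Cfsg.G41
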