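import Cfsg.Agent.GW.OrdA
import Cfsg.Agent.GW.Base

/-! Brauer's order formulas for an arbitrary dihedral Sylow 2-subgroup. -/

set_option autoImplicit false

namespace Cfsg.G41

open Subgroup Cfsg.FT Cfsg.Gag Cfsg.Gag.V Cfsg.GW
open scoped ComplexConjugate

universe u

variable {G : Type u} [Group G] [Finite G] {σ τ : G} {m : ℕ} {P : Sylow 2 G}

theorem sum_range_two_mul {A : Type*} [AddCommMonoid A] (f : ℕ → A) (m : ℕ) :
    ∑ a ∈ Finset.range (2 * m), f a = ∑ c ∈ Finset.range m, (f (2 * c) + f (2 * c + 1)) := by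
  induction m with
  | zero => simp
  | succ m ih =>
    rw [show 2 * (m + 1) = 2 * m + 1 + 1 by ring, Finset.sum_range_succ, Finset.sum_range_succ, ih,
      Finset.sum_range_succ, add_assoc]

theorem sum_zpowers [Fintype (zpowers σ)] {A : Type*} [AddCommMonoid A] (f : G → A) :
    ∑ s : zpowers σ, f s = ∑ a ∈ Finset.range (orderOf σ), f (σ ^ a) := by
  rw [← (finEquivZPowers (isOfFinOrder_of_finite σ)).sum_comp]
  simp only [finEquivZPowers_apply]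
  rw [Fin.sum_univ_eq_sum_range (fun i => f (σ ^ i))]

/-- the number of involutions of `C(σ ^ m)` above `σ ^ a * τ` -/
noncomputable def wt (σ τ : G) (m a : ℕ) : ℕ :=
  if a % 2 = 0 then kk (σ ^ m) τ else kk (σ ^ m) (σ * τ)

theorem invW_eq_wt (h : IsDih (P : Subgroup G) σ τ m) (a : ℕ) :
    invW 𝐂₁[σ ^ m] P (σ ^ a * τ) = wt σ τ m a := by
  set C := centralizer ({σ ^ m} : Set G) with hC
  have m0 : (m : ℂ) ≠ 0 := Nat.cast_ne_zero.2 h.pos.ne'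
  have hW : ∀ x ∈ (P : Subgroup G), x ∉ zpowers σ → invW C P x = kk (σ ^ m) x := fun x hx hx' => by
    rw [h.invW_eq C hx hx', ← card_inf_mul_relIndex 𝐂₁[x] C, dih_kk h hx hx', inf_comm]
    have : (Nat.card (C ⊓ 𝐂₁[x] : Subgroup G) : ℂ) ≠ 0 := Nat.cast_ne_zero.2 Nat.card_pos.ne'
    push_cast
    field_simp
  have hW2 : ∀ s ∈ zpowers σ, invW C P (σ * σ * s * τ) = invW C P (s * τ) := fun s hs => by
    have e := h.σ_conj hs 1
    simp only [pow_one, mul_one, zpow_ofNat, sq] at e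
    simp only [← e, invW, card_inf_centralizer_conj h.mem_σ,
      card_inf_centralizer_conj (h.le_centralizer_J h.mem_σ), hC]
  induction a using Nat.strong_induction_on with
  | _ a ih =>
    match a with
    | 0 => rw [pow_zero, one_mul, hW τ h.mem_τ h.notMem]; simp [wt]
    | 1 =>
      rw [pow_one, hW _ (mul_mem h.mem_σ h.mem_τ) (h.mul_τ_notMem (mem_zpowers σ))]; simp [wt]
    | a + 2 =>
      rw [show σ ^ (a + 2) = σ * σ * σ ^ a by rw [add_comm, pow_add, sq],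
        hW2 _ (pow_mem (mem_zpowers σ) a), ih a (by omega)]
      simp [wt]

open Classical in
theorem dih_pairsG [Fintype G] (h : IsDih (P : Subgroup G) σ τ m)
    (hinv : ∀ s, orderOf s = 2 → IsConj (σ ^ m) s) {Θ : G → ℂ} (t1 : IsClassFunction G Θ)
    (t2 : ∀ g, 2 ∣ orderOf g → Θ g = Θ (pPart 2 g)) (t3 : ∀ g, ¬ 2 ∣ orderOf g → Θ g = 0) :
    ∑ s : G with IsConj (σ ^ m) s, ∑ t : G with IsConj (σ ^ m) t, Θ (s * t) = ii (σ ^ m) *
      ∑ a ∈ Finset.range (2 * m), ∑ b ∈ Finset.range (2 * m),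
        wt σ τ m a * wt σ τ m b * Θ (σ ^ a * (σ ^ b)⁻¹) := by
  rw [h.sum_sum_isConj hinv rfl t1 t2 t3, sum_zpowers fun s => ∑ t : zpowers σ,
    invW 𝐂₁[σ ^ m] P (s * τ) * invW 𝐂₁[σ ^ m] P (t * τ) * Θ (s * (t : G)⁻¹), h.ord]
  congr 1
  refine Finset.sum_congr rfl fun a _ => ?_
  rw [sum_zpowers fun t => invW 𝐂₁[σ ^ m] P (σ ^ a * τ) * invW 𝐂₁[σ ^ m] P (t * τ) *
    Θ (σ ^ a * t⁻¹), h.ord]
  simp only [invW_eq_wt h]

omit [Finite G] in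
theorem sum_wt (w : ℂ) : ∑ a ∈ Finset.range (2 * m), (wt σ τ m a : ℂ) * w ^ a =
    (kk (σ ^ m) τ + kk (σ ^ m) (σ * τ) * w) * ∑ c ∈ Finset.range m, (w ^ 2) ^ c := by
  rw [sum_range_two_mul, Finset.mul_sum]
  refine Finset.sum_congr rfl fun c _ => ?_
  rw [wt, wt, if_pos (by omega), if_neg (by omega)]
  ring

open Classical in
theorem dih_pairsW [Fintype G] (h : IsDih (P : Subgroup G) σ τ m)
    (hinv : ∀ s, orderOf s = 2 → IsConj (σ ^ m) s) {Θ : G → ℂ} (t1 : IsClassFunction G Θ)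
    (t2 : ∀ g, 2 ∣ orderOf g → Θ g = Θ (pPart 2 g)) (t3 : ∀ g, ¬ 2 ∣ orderOf g → Θ g = 0)
    {w : ℂ} (hw : w ^ (2 * m) = 1)
    (hΘ : ∀ l, 0 < l → l < 2 * m → Θ (σ ^ l) = 2 - (w ^ l + (w ^ l)⁻¹)) :
    ∑ s : G with IsConj (σ ^ m) s, ∑ t : G with IsConj (σ ^ m) t, Θ (s * t) = ii (σ ^ m) *
      (2 * (m * (kk (σ ^ m) τ + kk (σ ^ m) (σ * τ))) ^ 2 -
        2 * ((kk (σ ^ m) τ + kk (σ ^ m) (σ * τ) * w) * ∑ c ∈ Finset.range m, (w ^ 2) ^ c) *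
          ((kk (σ ^ m) τ + kk (σ ^ m) (σ * τ) * w⁻¹) * ∑ c ∈ Finset.range m, (w⁻¹ ^ 2) ^ c)) := by
  have m0 : 0 < 2 * m := by have := h.pos; omega
  have w0 : w ≠ 0 := by rintro rfl; simp [m0.ne'] at hw
  have h1 : ∀ l, Θ (σ ^ l) = 2 - (w ^ l + (w ^ l)⁻¹) := fun l => by
    have e1 : σ ^ l = σ ^ (l % (2 * m)) := by rw [← h.ord, pow_mod_orderOf]
    have e2 : w ^ l = w ^ (l % (2 * m)) := by
      conv_lhs => rw [← Nat.div_add_mod l (2 * m), pow_add, pow_mul, hw, one_pow, one_mul]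
    rw [e1, e2]
    rcases Nat.eq_zero_or_pos (l % (2 * m)) with e | e
    · rw [e, pow_zero, t3 1 (by simp)]; norm_num
    · exact hΘ _ e (Nat.mod_lt _ m0)
  have h2 : ∀ a b, Θ (σ ^ a * (σ ^ b)⁻¹) = 2 - (w ^ a * w⁻¹ ^ b + w⁻¹ ^ a * w ^ b) := fun a b => by
    obtain ⟨n, hn⟩ : ∃ n, 2 * m = n + 1 := ⟨2 * m - 1, by omega⟩
    have e1 : σ⁻¹ = σ ^ n := inv_eq_of_mul_eq_one_left (by
      rw [← pow_succ, ← hn, ← h.ord, pow_orderOf_eq_one])
    have e2 : w⁻¹ = w ^ n := inv_eq_of_mul_eq_one_left (by rw [← pow_succ, ← hn, hw])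
    rw [← inv_pow, e1, ← pow_mul, ← pow_add, h1, pow_add, pow_mul, ← e2, mul_inv, inv_pow, inv_pow,
      inv_inv]
  have h3 := sum_wt (σ := σ) (τ := τ) (m := m) 1
  simp only [one_pow, mul_one, Finset.sum_const, Finset.card_range, nsmul_eq_mul] at h3
  rw [dih_pairsG h hinv t1 t2 t3, ← sum_wt, ← sum_wt, mul_comm (m : ℂ), ← h3, sq,
    Finset.sum_mul_sum]
  congr 1
  have h4 : ∑ a ∈ Finset.range (2 * m), ∑ b ∈ Finset.range (2 * m),
      (wt σ τ m a : ℂ) * w ^ a * (wt σ τ m b * w⁻¹ ^ b) = ∑ a ∈ Finset.range (2 * m),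
        ∑ b ∈ Finset.range (2 * m), (wt σ τ m a : ℂ) * w⁻¹ ^ a * (wt σ τ m b * w ^ b) := by
    rw [Finset.sum_comm]
    exact Finset.sum_congr rfl fun _ _ => Finset.sum_congr rfl fun _ _ => by ring
  rw [mul_assoc 2, Finset.sum_mul_sum, two_mul (∑ a ∈ _, ∑ b ∈ _, _ * w ^ a * _)]
  nth_rw 2 [h4]
  simp only [h2, Finset.mul_sum, ← Finset.sum_add_distrib, ← Finset.sum_sub_distrib]
  exact Finset.sum_congr rfl fun _ _ => Finset.sum_congr rfl fun _ _ => by ring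

theorem dih_even (h : IsDih (P : Subgroup G) σ τ m) (hm : 2 ≤ m) : 2 ∣ m := by
  obtain ⟨k, hk⟩ := IsPGroup.iff_card.1 P.isPGroup'
  rw [h.card] at hk
  obtain ⟨j, -, hj⟩ := (Nat.dvd_prime_pow Nat.prime_two).1 (hk ▸ Dvd.intro_left 4 rfl : m ∣ 2 ^ k)
  rcases j with _ | j
  · simp at hj; omega
  · exact hj ▸ dvd_pow_self 2 j.succ_ne_zero

theorem ordD_alg {I z a b J K : ℂ} (hz : z ≠ 0) (hy : 1 + z ≠ 0) (ha : a ≠ 0) (hb : b ≠ 0)
    (h : 1 + z = -a - b) (h1 : I * (1 + z⁻¹ - 4 * (1 + z)⁻¹) = J)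
    (h2 : I * (1 + z⁻¹ + a⁻¹ + b⁻¹) = J - K) :
    I * (1 + z - 2) ^ 2 = J * ((1 + z) * (1 + z - 1)) ∧
      I * (a - b) ^ 2 = K * (a * b * (1 + z)) := by
  have h3 : K = -I * (a⁻¹ + b⁻¹ + 4 * (1 + z)⁻¹) := by linear_combination h2 - h1
  rw [← h1, h3]
  constructor
  · field_simp; ring
  · rw [h] at hy ⊢; field_simp; ring

/-- Brauer's order formulas -/
theorem ordD (h : IsDih (P : Subgroup G) σ τ m) (hm : 2 ≤ m)
    (hinv : ∀ s, orderOf s = 2 → IsConj (σ ^ m) s) :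
    ∃ y a b : ℤ, (4 * m : ℤ) ∣ y - 2 ∧ (4 * m : ℤ) ∣ a + 1 - 2 * m ∧ (4 * m : ℤ) ∣ b + 1 - 2 * m ∧
      a + b = -y ∧
      ii (σ ^ m) * (y - 2) ^ 2 =
        2 * (m * (kk (σ ^ m) τ + kk (σ ^ m) (σ * τ)) : ℤ) ^ 2 * (y * (y - 1)) ∧
      ii (σ ^ m) * (a - b) ^ 2 =
        2 * (m * (kk (σ ^ m) τ - kk (σ ^ m) (σ * τ)) : ℤ) ^ 2 * (a * b * y) := by
  classical
  have := Fintype.ofFinite G
  obtain ⟨M, hM⟩ := exists_isPModular Nat.prime_two
  have hζ := Complex.isPrimitiveRoot_exp (2 * m) (by omega)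
  set ζ := Complex.exp (2 * Real.pi * Complex.I / (2 * m : ℕ))
  obtain ⟨χ₁, χ₂, χ₃, χ', δ₁, δ₂, δ₃, d1, d2, d3, -, -, -, -, -, -, -, -, hB, hv, hρ⟩ :=
    h.principalBlock_eq hM hm hζ
  set ψ := χ' ⟨0, by omega⟩
  have m1 := (hB χ₁).2 (by simp)
  have m2 := (hB χ₂).2 (by simp)
  have m3 := (hB χ₃).2 (by simp)
  have m4 : ψ ∈ principalBlock M G := (hB _).2 (Or.inr (Or.inr (Or.inr (Or.inr ⟨_, rfl⟩))))
  replace d1 := sq_eq_one_iff.2 d1
  replace d2 := sq_eq_one_iff.2 d2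
  replace d3 := sq_eq_one_iff.2 d3
  have e1 : (δ₁ : ℂ) ^ 2 = 1 := by exact_mod_cast d1
  have e2 : (δ₂ : ℂ) ^ 2 = 1 := by exact_mod_cast d2
  have e3 : (δ₃ : ℂ) ^ 2 = 1 := by exact_mod_cast d3
  have hme : Even m := even_iff_two_dvd.2 (dih_even h hm)
  obtain ⟨b1, b2, b3, b4⟩ := hv m (by omega) (by omega)
  replace b4 := b4 ⟨0, by omega⟩
  have hζm : ζ ^ m = -1 := (hζ.pow (by omega) (mul_comm _ _)).eq_neg_one_of_two_right
  change ψ.1 _ = _ at b4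
  simp only [zero_add, one_mul, hζm, pow_succ, hme.neg_one_pow] at b2 b3 b4
  have hsum : ∀ (χ : IrrCharacter G) (u v : ℤ), (∀ l, 0 < l → l < 2 * m →
      χ.1 (σ ^ l) = if l % 2 = 0 then v else u) →
      (4 * m : ℤ) ∣ charDegree χ.1 - v + m * (u + v) + 2 * m * v := fun χ u v h1 => by
    obtain ⟨n, hn⟩ := (χ.isCharacter.res P).exists_classInner_eq_nat (IrrCharacter.triv P).isCharacter
    rw [classInner_def, inv_mul_eq_iff_eq_mul₀ (Nat.cast_ne_zero.2 Nat.card_pos.ne'), h.card] at hn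
    simp only [IrrCharacter.triv_apply, map_one, mul_one] at hn
    have h2 : χ.1 (σ ^ m) = v := by rw [h1 m (by omega) (by omega), if_pos (Nat.even_iff.1 hme)]
    have h3 : ∑ a ∈ Finset.range (2 * m), χ.1 (σ ^ a) = charDegree χ.1 - v + m * (u + v) := by
      have h4 : ∑ a ∈ Finset.range (2 * m), (((if a % 2 = 0 then v else u : ℤ)) : ℂ) =
          m * (u + v) := by
        rw [sum_range_two_mul, Finset.sum_congr rfl (g := fun _ => (u + v : ℂ)) fun c _ => by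
          rw [if_pos (by omega), if_neg (by omega), add_comm]]
        simp [mul_add]
      obtain ⟨n, hn⟩ : ∃ n, 2 * m = n + 1 := ⟨2 * m - 1, by omega⟩
      rw [← h4, hn, Finset.sum_range_succ', Finset.sum_range_succ', Finset.sum_congr rfl
        fun a ha => h1 (a + 1) (by omega) (by have := Finset.mem_range.1 ha; omega), pow_zero,
        IrrCharacter.one_eq_charDegree, if_pos (Nat.zero_mod 2)]
      ring
    rw [dih_sumP h χ.1, sum_zpowers, h.ord, h3, Finset.sum_congr rfl (g := fun _ => (v : ℂ))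
      fun s _ => by
        obtain ⟨c, hc⟩ := isConj_iff.1 (hinv _ (h.orderOf_of_notMem
          (mul_mem (h.zpowers_le s.2) h.mem_τ) (h.mul_τ_notMem s.2)))
        rw [← hc, χ.isClassFunction, h2], Finset.sum_const, Finset.card_univ,
      ← Nat.card_eq_fintype_card, Nat.card_zpowers, h.ord] at hn
    refine ⟨n, Int.cast_injective (α := ℂ) ?_⟩
    rw [nsmul_eq_mul] at hn
    push_cast at hn ⊢
    linear_combination hn
  have hs : ∀ (δ : ℤ) (l : ℕ), (δ : ℂ) * (-1) ^ (l + 1) = (if l % 2 = 0 then -δ else δ : ℤ) :=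
    fun δ l => by
      rcases Nat.even_or_odd l with e | e
      · rw [if_pos (Nat.even_iff.1 e), e.add_one.neg_one_pow]; simp
      · rw [if_neg (by have := Nat.odd_iff.1 e; omega), e.add_one.neg_one_pow]; simp
  have s1 := hsum χ₁ δ₁ δ₁ fun l h1 h2 => by rw [(hv l h1 h2).1, ite_self]
  have s2 := hsum χ₂ δ₂ (-δ₂) fun l h1 h2 => by rw [(hv l h1 h2).2.1, hs]
  have s3 := hsum χ₃ δ₃ (-δ₃) fun l h1 h2 => by rw [(hv l h1 h2).2.2.1, hs]
  have k1 := dih_pairsW h hinv (Θ := fun g => 1 + δ₁ * χ₁.1 g - δ₁ * ψ.1 g)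
    (fun a b => by simp only [χ₁.isClassFunction a b, ψ.isClassFunction a b])
    (fun g hg => by simp only [← h.apply_pPart hM m1 hg, ← h.apply_pPart hM m4 hg])
    (fun g hg => sub_eq_zero.2 (hρ g hg _).2) hζ.pow_eq_one fun l h1 h2 => by
      obtain ⟨a1, -, -, a4⟩ := hv l h1 h2
      replace a4 := a4 ⟨0, by omega⟩
      change ψ.1 _ = _ at a4
      simp only [zero_add, one_mul] at a4
      simp only [a1, a4]
      linear_combination (1 - (ζ ^ l + (ζ ^ l)⁻¹)) * e1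
  have k2 := dih_pairsW h hinv (Θ := fun g => 1 + δ₁ * χ₁.1 g + δ₂ * χ₂.1 g + δ₃ * χ₃.1 g)
    (fun a b => by simp only [χ₁.isClassFunction a b, χ₂.isClassFunction a b, χ₃.isClassFunction a b])
    (fun g hg => by
      simp only [← h.apply_pPart hM m1 hg, ← h.apply_pPart hM m2 hg, ← h.apply_pPart hM m3 hg])
    (fun g hg => by linear_combination (hρ g hg ⟨0, by omega⟩).1) (w := -1) (by simp)
    fun l h1 h2 => by
      obtain ⟨a1, a2, a3, -⟩ := hv l h1 h2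
      simp only [a1, a2, a3, ← inv_pow, inv_neg, inv_one, pow_succ]
      linear_combination e1 - (-1) ^ l * e2 - (-1) ^ l * e3
  rw [geom_sum_eq_zero_of_pow_eq_one (w := ζ ^ 2) (by rw [← pow_mul, hζ.pow_eq_one])
    (hζ.pow_ne_one_of_pos_of_lt (by omega) (by omega))] at k1
  have t0 := (IrrCharacter.triv G).sum_sum_isConj (σ ^ m)
  simp only [IrrCharacter.triv_apply, IrrCharacter.charDegree_triv] at t0
  simp only [Finset.sum_add_distrib, Finset.sum_sub_distrib, ← Finset.mul_sum, t0,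
    IrrCharacter.sum_sum_isConj, b1, b2, b3, b4, inv_neg, inv_one] at k1 k2
  simp only [neg_one_sq, one_pow, Finset.sum_const, Finset.card_range, nsmul_eq_mul] at k2
  obtain ⟨t1, t2⟩ := hρ 1 (by simp) ⟨0, by omega⟩
  simp only [IrrCharacter.one_eq_charDegree] at t1 t2
  have x1 : (charDegree χ₁.1 : ℂ) ≠ 0 := Nat.cast_ne_zero.2 χ₁.charDegree_pos.ne'
  have x2 : (charDegree χ₂.1 : ℂ) ≠ 0 := Nat.cast_ne_zero.2 χ₂.charDegree_pos.ne'
  have x3 : (charDegree χ₃.1 : ℂ) ≠ 0 := Nat.cast_ne_zero.2 χ₃.charDegree_pos.ne'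
  have x4 : (charDegree ψ.1 : ℂ) ≠ 0 := Nat.cast_ne_zero.2 ψ.charDegree_pos.ne'
  have i0 : (ii (σ ^ m) : ℂ) ≠ 0 := Nat.cast_ne_zero.2 index_ne_zero_of_finite
  have t3 : 1 + δ₁ * charDegree χ₁.1 = -δ₂ * charDegree χ₂.1 - δ₃ * charDegree χ₃.1 := by
    exact_mod_cast t1
  have nz : ∀ {δ x : ℂ}, δ ^ 2 = 1 → x ≠ 0 → δ * x ≠ 0 := fun h hx =>
    mul_ne_zero (by rintro rfl; simp at h) hx
  have iv : ∀ {δ : ℂ} (x : ℂ), δ ^ 2 = 1 → (δ * x)⁻¹ = δ * x⁻¹ := fun x h => by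
    rw [mul_inv, inv_eq_of_mul_eq_one_right ((sq _).symm.trans h)]
  change _ = δ₁ * (charDegree ψ.1 : ℂ) at t2
  obtain ⟨f1, f2⟩ := ordD_alg (I := ii (σ ^ m))
    (J := 2 * (m * (kk (σ ^ m) τ + kk (σ ^ m) (σ * τ))) ^ 2)
    (K := 2 * (m * (kk (σ ^ m) τ - kk (σ ^ m) (σ * τ))) ^ 2)
    (nz e1 x1) (t2 ▸ nz e1 x4) (nz e2 x2) (nz e3 x3) (by linear_combination t1)
    (mul_left_cancel₀ i0 (by
      rw [t2, iv _ e1, iv _ e1]
      linear_combination k1 - (ii (σ ^ m) : ℂ) ^ 2 * δ₁ *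
        ((charDegree χ₁.1 : ℂ)⁻¹ - 4 * (charDegree ψ.1 : ℂ)⁻¹) * e1))
    (mul_left_cancel₀ i0 (by
      rw [iv _ e1, iv _ e2, iv _ e3]
      linear_combination k2 - (ii (σ ^ m) : ℂ) ^ 2 * (δ₁ * (charDegree χ₁.1 : ℂ)⁻¹ * e1 +
        δ₂ * (charDegree χ₂.1 : ℂ)⁻¹ * e2 + δ₃ * (charDegree χ₃.1 : ℂ)⁻¹ * e3)))
  refine ⟨1 + δ₁ * charDegree χ₁.1, δ₂ * charDegree χ₂.1, δ₃ * charDegree χ₃.1, ?_, ?_, ?_,
    by linear_combination t3, by exact_mod_cast f1, by exact_mod_cast f2⟩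
  · obtain ⟨c, hc⟩ := s1
    exact ⟨δ₁ * c - 1, by linear_combination δ₁ * hc + (1 - 4 * m) * d1⟩
  · obtain ⟨c, hc⟩ := s2
    exact ⟨δ₂ * c, by linear_combination δ₂ * hc + (2 * m - 1) * d2⟩
  · obtain ⟨c, hc⟩ := s3
    exact ⟨δ₃ * c, by linear_combination δ₃ * hc + (2 * m - 1) * d3⟩

omit [Finite G] in
theorem IsDih.sub {S M : Subgroup G} (h : IsDih S σ τ m) (hM : S ≤ M) :
    IsDih (S.subgroupOf M) ⟨σ, hM h.mem_σ⟩ ⟨τ, hM h.mem_τ⟩ m := by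
  have z : ∀ x : M, x ∈ zpowers (⟨σ, hM h.mem_σ⟩ : M) ↔ (x : G) ∈ zpowers σ := fun x =>
    ⟨fun ⟨k, hk⟩ => ⟨k, congrArg Subtype.val hk⟩, fun ⟨k, hk⟩ => ⟨k, Subtype.ext hk⟩⟩
  exact ⟨h.pos, by rw [← h.ord, ← orderOf_coe], h.mem_σ, h.mem_τ, Subtype.ext h.sq,
    Subtype.ext h.rel, fun e => h.notMem ((z _).1 e), fun x hx => by
      rw [z, z]; exact h.cases x hx⟩

theorem ord_bounds {i J y : ℤ} (hy : (8 : ℤ) ∣ y - 2) (hJ : 0 < J)
    (h : i * (y - 2) ^ 2 = J * (y * (y - 1))) : 21 * J ≤ 32 * i ∧ 32 * i ≤ 45 * J := by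
  have y2 : y ≠ 2 := by rintro rfl; omega
  have p : 0 < (y - 2) ^ 2 := by have : y - 2 ≠ 0 := by omega
                                 positivity
  rcases (show 10 ≤ y ∨ y ≤ -6 by omega) with e | e
  · refine ⟨le_of_mul_le_mul_right ?_ p, le_of_mul_le_mul_right ?_ p⟩
    · rw [mul_assoc 32, h]; nlinarith [mul_pos hJ (show 0 < 11 * y ^ 2 + 52 * y - 84 by nlinarith)]
    · rw [mul_assoc 32, h]
      nlinarith [mul_nonneg hJ.le (show 0 ≤ 13 * y ^ 2 - 148 * y + 180 by nlinarith)]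
  · refine ⟨le_of_mul_le_mul_right ?_ p, le_of_mul_le_mul_right ?_ p⟩
    · rw [mul_assoc 32, h]
      nlinarith [mul_nonneg hJ.le (show 0 ≤ 11 * y ^ 2 + 52 * y - 84 by nlinarith)]
    · rw [mul_assoc 32, h]
      nlinarith [mul_nonneg hJ.le (show 0 ≤ 13 * y ^ 2 - 148 * y + 180 by nlinarith)]

theorem ordD_bounds (h : IsDih (P : Subgroup G) σ τ m) (hm : 2 ≤ m)
    (hinv : ∀ s, orderOf s = 2 → IsConj (σ ^ m) s) :
    21 * (m * (kk (σ ^ m) τ + kk (σ ^ m) (σ * τ))) ^ 2 ≤ 16 * ii (σ ^ m) ∧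
      16 * ii (σ ^ m) ≤ 45 * (m * (kk (σ ^ m) τ + kk (σ ^ m) (σ * τ))) ^ 2 := by
  obtain ⟨y, a, b, h1, -, -, -, h2, -⟩ := ordD h hm hinv
  obtain ⟨c, hc⟩ := dih_even h hm
  have := Fr.kk_pos (σ ^ m) τ
  obtain ⟨h3, h4⟩ := ord_bounds ((show (8 : ℤ) ∣ 4 * m from ⟨c, by rw [hc]; push_cast; ring⟩).trans
    h1) (by positivity) h2
  constructor <;> zify <;> linarith

/-- a subgroup containing the centralizer of an involution, with one class of involutions -/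
theorem i1 {S M : Subgroup G} (hS : Syl 2 S ⊤) (h : IsDih S σ τ m) (hm : 2 ≤ m)
    (hc : ∀ s, orderOf s = 2 → IsConj (σ ^ m) s) (hl : 𝐂₁[σ ^ m] ≤ M)
    (h1 : ∃ g ∈ M, g * σ ^ m * g⁻¹ = τ) (h2 : ∃ g ∈ M, g * σ ^ m * g⁻¹ = σ * τ) : M = ⊤ := by
  have hSM : S ≤ M := h.le_centralizer_J.trans hl
  obtain ⟨Q, hQ⟩ := syl_top_iff.1 (Fr.syl_sub hS hSM)
  obtain ⟨P, rfl⟩ := syl_top_iff.1 hS
  have h' := hQ ▸ IsDih.sub h hSM
  have u := (ordD_bounds h hm hc).2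
  obtain ⟨g, hg, e⟩ := h1
  obtain ⟨g', hg', e'⟩ := h2
  have l := (ordD_bounds h' hm (h'.isConj_J (isConj_iff.2 ⟨⟨g, hg⟩, Subtype.ext e⟩)
    (isConj_iff.2 ⟨⟨g', hg'⟩, Subtype.ext e'⟩))).1
  rw [Fr.kk_sub _ _ hl, Fr.kk_sub _ _ hl] at l
  have c := Fr.ii_sub ((⟨σ, hSM h.mem_σ⟩ : M) ^ m) hl
  have p : 0 < (m * (kk (σ ^ m) τ + kk (σ ^ m) (σ * τ))) ^ 2 := by
    have := Fr.kk_pos (σ ^ m) τ
    have := h.pos
    positivity
  simp only [SubmonoidClass.coe_pow, coe_mul] at c l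
  have n3 : M.index < 3 := by nlinarith
  have n0 : M.index ≠ 0 := index_ne_zero_of_finite
  have n2 : ¬ 2 ∣ M.index := fun e => P.not_dvd_index (e.trans (index_dvd_of_le hSM))
  exact index_eq_one.1 (by omega)

end Cfsg.G41
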