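import Cfsg.Agent.G41.P2TI
import Cfsg.Agent.G41.P2MX
import Cfsg.Agent.G41.P2QB
import Cfsg.Agent.GW.L2Tor
import Cfsg.Agent.Grp.Frobenius

/-! S4841, `p = 2`: part (β) of `StWC`. -/

set_option autoImplicit false
set_option linter.style.haveILetI false
set_option linter.unusedSectionVars false

namespace Cfsg.G41.P2

open Subgroup
open scoped commutatorElement Pointwise

universe u

variable {V : Type} [AddCommGroup V] [Module (ZMod 2) V] [Finite V] {L : Type u} [Group L]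
  [Finite L] {ρ : L →* Module.End (ZMod 2) V} {U : Submodule (ZMod 2) V}

theorem conj3 (cyc : ∀ Y : Subgroup L, Odd (Nat.card Y) → IsCyclic Y) {N : Subgroup L} {x y : L}
    (hx : x ∈ N) (hy : y ∈ N) (ox : orderOf x = 3) (oy : orderOf y = 3) :
    ∃ c ∈ N, c * y * c⁻¹ = x ∨ c * y * c⁻¹ = x⁻¹ := by
  haveI : Fact (Nat.Prime 3) := ⟨Nat.prime_three⟩
  obtain ⟨c, k, hc⟩ := MX.conj_mem_zpowers (G := N) (r := 3) (fun P => cyc_sub cyc N _ (by
    obtain ⟨n, hn⟩ := P.isPGroup'.exists_card_eq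
    rw [hn]; exact Odd.pow (by decide))) (x := ⟨x, hx⟩) (y := ⟨y, hy⟩)
    (by rw [← ox, ← Subgroup.orderOf_coe]) (by rw [← oy, ← Subgroup.orderOf_coe])
  refine ⟨c, c.2, ?_⟩
  rcases QB.three_cases ox (x := c * y * (c : L)⁻¹) ⟨k, congrArg Subtype.val hc⟩ with e | e | e
  · rw [show y = 1 by simpa using e] at oy; simp at oy
  · exact Or.inl e
  · exact Or.inr (e.trans (QB.inv_eq ox).symm)

namespace Sp

variable (h : Sp ρ U)
include h

/-- a spread whose elation group has order `|U|` in a perfect group -/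
theorem ti_of_card (hp : _root_.commutator L = ⊤) (hc : Nat.card (pw ρ U) = Nat.card U) :
    TI L := by
  have hS : Spr ρ U (pw ρ U) := by
    refine ⟨h.base.inj, fun e he => he, fun e he => h.base.sub_mem h.cV he, fun e he v hv =>
      or_iff_not_imp_left.2 fun e1 => (h.base.fix_iff h.cV he e1).1 hv, hc, h.cV,
      fun g w hw w0 hg w' hw' => (h.sp g w hw w0 hg w').2 hw', ?_⟩
    obtain ⟨g, hg⟩ := h.exists_not_mem
    by_contra hn
    push Not at hn
    exact hg (mem_st_of_le (hn g))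
  obtain ⟨F, _, _, -, hF, S, -, hN, ⟨e⟩, -, ⟨g, hg⟩, -⟩ := hS.shape h.base.free
  have hT : S = ⊤ := by
    haveI : IsCyclic (L ⧸ S) := by
      refine ⟨(g : L ⧸ S), fun x => ?_⟩
      obtain ⟨x, rfl⟩ := QuotientGroup.mk_surjective x
      have hx : x ∈ S ⊔ zpowers g := hg ▸ mem_top x
      rw [← SetLike.mem_coe, normal_mul] at hx
      obtain ⟨s, hs, _, ⟨k, rfl⟩, rfl⟩ := hx
      refine ⟨k, ?_⟩
      simp only [QuotientGroup.mk_mul, (QuotientGroup.eq_one_iff s).2 hs, one_mul,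
        QuotientGroup.mk_zpow]
    rw [eq_top_iff, ← hp]
    exact Normal.quotient_commutative_iff_commutator_le.1 inferInstance
  have hL : (Nat.card L : ℤ) = Nat.card U * (Nat.card U - 1) * (Nat.card U + 1) := by
    rw [← hF, ← GW.L2.card_SL, ← Nat.card_congr e.toEquiv, hT, card_top]
  have hi : ¬ 2 ∣ (pw ρ U).index := by
    have h1 := (pw ρ U).card_mul_index
    have h2 := two_le_card (h.base.U_ne h.cV)
    obtain ⟨n, hn⟩ := card_two_pow U
    have h3 : ((pw ρ U).index : ℤ) = (Nat.card U - 1) * (Nat.card U + 1) := by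
      refine mul_left_cancel₀ (a := (Nat.card U : ℤ)) (by omega) ?_
      rw [← mul_assoc, ← hL, ← h1, hc]; push_cast; rfl
    have h4 : Even (Nat.card U : ℤ) := by
      rcases n with _ | n
      · omega
      · rw [hn]; push_cast; exact (even_two.pow_of_ne_zero n.succ_ne_zero)
    intro hd
    have : Even ((pw ρ U).index : ℤ) := by exact_mod_cast even_iff_two_dvd.2 hd
    rw [h3, ← Int.not_odd_iff_even] at this
    exact this ((h4.sub_odd odd_one).mul h4.add_one)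
  let T := (pw_pgroup h.base.free (h.base.U_ne h.cV)).toSylow hi
  have key : ∀ P : Sylow 2 L, T ≠ P → (T : Subgroup L) ⊓ P = ⊥ := by
    intro P hP
    obtain ⟨a, rfl⟩ := MulAction.exists_smul_eq L T P
    rw [eq_bot_iff_forall]
    rintro x ⟨hx, hx'⟩
    by_contra x1
    have := h.base.mem_st_of_conj h.cV hx x1 (g := a⁻¹)
      (by rw [inv_inv]; exact MX.mem_smul.1 hx')
    exact hP (Sylow.smul_eq_iff_mem_normalizer.2
      (st_le_normalizer U (inv_mem_iff.1 this))).symm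
  intro P Q hPQ
  obtain ⟨a, rfl⟩ := MulAction.exists_smul_eq L T P
  obtain ⟨Q, rfl⟩ : ∃ Q', Q = a • Q' := ⟨a⁻¹ • Q, (smul_inv_smul a Q).symm⟩
  rw [eq_bot_iff_forall]
  rintro x ⟨hx, hx'⟩
  have : a⁻¹ * x * a ∈ (T : Subgroup L) ⊓ Q := ⟨MX.mem_smul.1 hx, MX.mem_smul.1 hx'⟩
  rw [key Q fun e => hPQ (by rw [e])] at this
  exact (MX.conj_one _ _).1 this

theorem alpha {d d' : L} (hd : d ∈ st ρ U) (od : orderOf d = 3)
    (hα : ∀ t ∈ pw ρ U, Commute d t → t = 1) (hd' : d' ∈ st ρ U) (od' : orderOf d' = 3) :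
    ∀ t ∈ pw ρ U, Commute d' t → t = 1 := by
  intro t ht hc
  obtain ⟨c, hcM, e⟩ := conj3 h.base.cyc hd hd' od od'
  have h1 : Commute (c * d' * c⁻¹) (c * t * c⁻¹) := hc.conj c
  have := hα _ (conj_mem_pw hcM ht) (by
    rcases e with e | e <;> rw [e] at h1
    exacts [h1, Commute.inv_left_iff.1 h1])
  simpa using this

theorem anti (hQ : StQ.{u}) {d : L} (hd : d ∈ st ρ U) (od : orderOf d = 3)
    (hα : ∀ t ∈ pw ρ U, Commute d t → t = 1) {t : L} (ht : t ∈ pw ρ U) :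
    ρ d * (ρ t - 1) = (ρ t - 1) * ρ d⁻¹ := by
  have hle : pw ρ U ≤ ⁅pw ρ U, zpowers d⁆ := fun t ht => by
    obtain ⟨s, hs, e⟩ := h.conj_of_coset hd hα (k := t * d)
      (by simpa [mul_assoc] using conj_mem_pw (inv_mem hd) ht)
    have : t = ⁅s, d⁆ := by rw [commutatorElement_def, e, mul_inv_cancel_right]
    exact this ▸ commutator_mem_commutator hs (mem_zpowers d)
  obtain ⟨_, -, -, h3⟩ := hQ V L ρ (pw ρ U) d h.base od (pw_pgroup h.base.free (h.base.U_ne h.cV))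
    (st_le_normalizer U hd) fun e => h.ne (le_bot_iff.1 (e ▸ hle))
  exact h3 t (hle ht)

/-- all elements of order `3` of `M` are `T`-conjugate up to inversion -/
theorem conj_three (hQ : StQ.{u}) {d d' : L} (hd : d ∈ st ρ U) (od : orderOf d = 3)
    (hα : ∀ t ∈ pw ρ U, Commute d t → t = 1) (hd' : d' ∈ st ρ U) (od' : orderOf d' = 3) :
    d⁻¹ * d' ∈ pw ρ U ∨ d * d' ∈ pw ρ U := by
  have hα' := h.alpha hd od hα hd' od'
  obtain ⟨⟨t, ht⟩, t1⟩ := (ne_bot_iff_exists_ne_one).1 h.ne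
  have t1 : t ≠ 1 := fun e => t1 (Subtype.ext e)
  have a1 := h.anti hQ hd od hα ht
  have a2 := h.anti hQ hd' od' hα' ht
  have a3 := h.anti hQ hd' od' hα' (conj_mem_pw (inv_mem hd) ht)
  have hc : d⁻¹ * (d' * d * d'⁻¹) ∈ pw ρ U := by
    have e1 : ρ (d⁻¹ * t * d⁻¹⁻¹) - 1 = ρ d * (ρ t - 1) := by
      have : ρ (d⁻¹ * t * d⁻¹⁻¹) - 1 = ρ d⁻¹ * ((ρ t - 1) * ρ d) := by
        rw [inv_inv, map_mul, map_mul, sub_mul, mul_sub, one_mul, ← map_mul ρ d⁻¹ d,
          inv_mul_cancel, map_one, mul_assoc]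
      have h2 : (ρ t - 1) * ρ d = ρ d⁻¹ * (ρ t - 1) := by
        calc _ = ρ d⁻¹ * (ρ d * (ρ t - 1)) * ρ d := by
              rw [← mul_assoc, ← map_mul, inv_mul_cancel, map_one, one_mul]
          _ = _ := by rw [a1, mul_assoc, mul_assoc, ← map_mul, inv_mul_cancel, map_one, mul_one]
      rw [this, h2, ← mul_assoc, ← map_mul, ← mul_inv_rev, ← QB.inv_eq od, inv_inv]
    rw [e1, mul_assoc, ← a2, ← mul_assoc, ← mul_assoc] at a3
    intro w hw
    obtain ⟨v, hv⟩ := h.base.onto h.cV ht t1 (((st ρ U).inv_mem hd' w).2 hw)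
    have := LinearMap.congr_fun a3 v
    simp only [Module.End.mul_apply, LinearMap.sub_apply, Module.End.one_apply, hv] at this
    rw [rho_mul, rho_mul, rho_mul, this, rho_inv_self, rho_self_inv]
  obtain ⟨s, hs, e⟩ := h.conj_of_coset hd hα hc
  have hcd : (s⁻¹ * d') * d = d * (s⁻¹ * d') := by
    calc _ = s⁻¹ * (d' * d * d'⁻¹) * d' := by group
      _ = _ := by rw [← e]; group
  have c3 : orderOf (s⁻¹ * d') = 3 := by
    haveI : Fact (Nat.Prime 3) := ⟨Nat.prime_three⟩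
    refine orderOf_eq_prime (hα _ ?_ ((Commute.symm hcd).pow_right 3)) fun e1 => ?_
    · have d3 : d' * d' * d' = 1 := by rw [← pow_three', ← od', pow_orderOf_eq_one]
      have : (s⁻¹ * d') ^ 3 = s⁻¹ * (d' * s⁻¹ * d'⁻¹) *
          (d' * d' * s⁻¹ * (d' * d')⁻¹) * (d' * d' * d') := by rw [pow_three]; group
      rw [this, d3, mul_one]
      exact mul_mem (mul_mem (inv_mem hs) (conj_mem_pw hd' (inv_mem hs)))
        (conj_mem_pw (mul_mem hd' hd') (inv_mem hs))
    · rw [inv_mul_eq_one] at e1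
      have := hα' d' (e1 ▸ hs) (Commute.refl _)
      rw [this] at od'; simp at od'
  obtain ⟨c, hc, e'⟩ := conj3 h.base.cyc (N := centralizer {d})
    (mem_centralizer_singleton_iff.2 hcd) (mem_centralizer_singleton_iff.2 rfl) c3 od
  rw [mem_centralizer_singleton_iff.1 hc, mul_inv_cancel_right] at e'
  rcases e' with e' | e'
  · left
    have := conj_mem_pw (inv_mem hd) hs
    rwa [inv_inv, mul_assoc, show s * d = d' by rw [e']; group] at this
  · right
    have := conj_mem_pw hd hs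
    rwa [mul_assoc, show s * d⁻¹ = d' by rw [e']; group] at this

theorem three_kg {d g : L} (hd : d ∈ st ρ U) (od : orderOf d = 3)
    (hα : ∀ t ∈ pw ρ U, Commute d t → t = 1) (hg : g ∉ st ρ U) :
    ∃ x ∈ kg ρ U g, orderOf x = 3 := by
  haveI : Fact (Nat.Prime 3) := ⟨Nat.prime_three⟩
  have h3 : 3 ∣ Nat.card (pw ρ U) - 1 := by
    have := card_modEq_one_of_fixedPointFree (zpowers_le.2 (st_le_normalizer U hd))
      fun a ha a1 t ht e => h.alpha hd od hα (zpowers_le.2 hd ha) (orderOf_eq_prime (by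
        obtain ⟨k, rfl⟩ := ha
        rw [← zpow_natCast, ← zpow_mul, mul_comm, zpow_mul, zpow_natCast, ← od,
          pow_orderOf_eq_one, one_zpow]) a1) t ht e
    rw [Nat.card_zpowers, od] at this
    exact (Nat.modEq_iff_dvd' Nat.card_pos).1 this.symm
  obtain ⟨x, hx⟩ := exists_prime_orderOf_dvd_card' (G := kg ρ U g) 3 (h3.trans (h.dvd_kg hg))
  exact ⟨x, x.2, by rw [Subgroup.orderOf_coe, hx]⟩

theorem wc_beta (hQ : StQ.{u}) (hp : _root_.commutator L = ⊤) {d : L} (hd : d ∈ st ρ U)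
    (od : orderOf d = 3) (hα : ∀ t ∈ pw ρ U, Commute d t → t = 1) : TI L := by
  obtain ⟨⟨t, ht⟩, t1⟩ := (ne_bot_iff_exists_ne_one).1 h.ne
  have t1 : t ≠ 1 := fun e => t1 (Subtype.ext e)
  obtain ⟨g₀, hg₀⟩ := h.exists_not_mem
  obtain ⟨j, cj, jj, -, hj⟩ := h.swap' hg₀ ht t1 ht t1
  have hjM : j ∉ st ρ U := fun e => hg₀ (by simpa using mul_mem e (inv_mem hj))
  have ji := inv_eq_of_mul_eq_one_right jj
  obtain ⟨x, hx, ox⟩ := h.three_kg hd od hα hjM
  have hx' : j * x * j ∈ kg ρ U j := ⟨by have := hx.2; rwa [ji] at this, by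
    have : j⁻¹ * (j * x * j) * j = x * (j * j) := by group
    rw [this, jj, mul_one]; exact hx.1⟩
  have ox' : orderOf (j * x * j) = 3 := by
    have := QB.order_conj ox j
    rwa [ji] at this
  have αx := h.alpha hd od hα hx.1 ox
  have hi : j * x * j = x⁻¹ := by
    rcases h.conj_three hQ hx.1 ox αx hx'.1 ox' with e | e
    · exfalso
      have e1 := inv_mul_eq_one.1 (h.kg_inf hjM e (mul_mem (inv_mem hx) hx'))
      obtain ⟨g, rfl⟩ := isConj_iff.1 cj
      have hc : Commute (g⁻¹ * x * g⁻¹⁻¹) t := by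
        calc _ = g⁻¹ * (x * (g * t * g⁻¹)) * g := by group
          _ = g⁻¹ * (g * t * g⁻¹ * x * (g * t * g⁻¹ * (g * t * g⁻¹))) * g := by
            rw [← mul_assoc _ (g * t * g⁻¹) (g * t * g⁻¹), ← e1]
          _ = _ := by rw [jj]; group
      exact t1 (h.alpha hd od hα (h.base.mem_st_of_comm h.cV ht t1 hc) (QB.order_conj ox _) t ht hc)
    · exact eq_inv_of_mul_eq_one_right (h.kg_inf hjM e (mul_mem hx hx'))
  refine h.ti_of_card hp (h.core hx.1 (by rw [ox]; decide) (by rintro rfl; simp at ox)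
    ⟨t, ht, t1, cj⟩ hi fun g hg => ?_)
  obtain ⟨y, hy, oy⟩ := h.three_kg hd od hα hg
  rcases h.conj_three hQ hx.1 ox αx hy.1 oy with e | e
  · obtain ⟨s, hs, e⟩ := h.conj_of_coset hx.1 αx e
    exact ⟨s, hs, e ▸ hy.2⟩
  · obtain ⟨s, hs, e⟩ := h.conj_of_coset hx.1 αx (k := y⁻¹) (by
      have := inv_mem (conj_mem_pw (inv_mem hx.1) e)
      simpa [mul_assoc] using this)
    exact ⟨s, hs, e ▸ (inv_mem hy).2⟩

end Sp

end Cfsg.G41.P2
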