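import Cfsg.Agent.G41.PhiA
import Cfsg.Agent.G41.Ord
import Cfsg.Agent.GW.C1c

/-! A set of characters that behaves like a block with large dihedral defect group. -/

set_option autoImplicit false

namespace Cfsg.G41.Phi

open Subgroup Cfsg.FT Cfsg.Gag Cfsg.Gag.V Cfsg.GW
open scoped ComplexConjugate

universe u

variable {G : Type u} [Group G] [Finite G] {σ τ : G} {m : ℕ}

open Classical in
theorem fourier {P : Subgroup G} (h : IsDih P σ τ m) (B : Finset (IrrCharacter G))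
    (hB : ∀ s t : zpowers σ, s ≠ 1 → ∑ χ ∈ B, χ.1 t * conj (χ.1 s) =
      Nat.card (zpowers σ) * ((if t = s then 1 else 0) + if t = s⁻¹ then 1 else 0))
    {ζ : ℂ} (hζ : IsPrimitiveRoot ζ (2 * m)) :
    ∃ b : ℕ → IrrCharacter G → ℤ, (∀ j, 0 < j → j ≤ m → b j (IrrCharacter.triv G) = -1) ∧
      (∀ i j, 0 < i → i ≤ m → 0 < j → j ≤ m → ∑ χ ∈ B, b i χ * b j χ =
          2 + (if i = j then 1 else 0) + if i + j = 2 * m then 1 else 0) ∧
      (∀ ρ : G, (∀ s ∈ zpowers σ, s ≠ 1 → ∑ χ ∈ B, χ.1 ρ * conj (χ.1 s) = 0) → ∀ j,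
        ∑ χ ∈ B, b j χ * χ.1 ρ = 0) ∧
      (∀ j l, 0 < l → l < 2 * m →
        ∑ χ ∈ B, b j χ * χ.1 (σ ^ l) = ζ ^ (j * l) + (ζ ^ (j * l))⁻¹ - 2) ∧
      ∀ (χ : IrrCharacter G) (l : ℕ), 0 < l → l < 2 * m → χ.1 (σ ^ l) =
        ∑ i : Fin (m - 1), b (i + 1) χ * (ζ ^ (((i : ℕ) + 1) * l) + (ζ ^ (((i : ℕ) + 1) * l))⁻¹) +
          b m χ * (-1) ^ l := by
  have := Fintype.ofFinite (zpowers σ)
  have hm := h.pos
  have hm0 : 2 * m ≠ 0 := by omega
  have hcard : Nat.card (zpowers σ) = 2 * m := by rw [Nat.card_zpowers, h.ord]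
  set σ' : zpowers σ := ⟨σ, mem_zpowers σ⟩
  have hgen : ∀ x, x ∈ zpowers σ' := fun ⟨_, k, rfl⟩ => ⟨k, rfl⟩
  have hu : orderOf (hζ.isUnit hm0).unit = 2 * m := by
    rw [← orderOf_units, IsUnit.unit_spec, ← hζ.eq_orderOf]
  obtain ⟨μ, hμ1⟩ : ∃ μ : zpowers σ →* ℂˣ, ∀ l : ℕ, (μ (σ' ^ l) : ℂ) = ζ ^ l :=
    ⟨monoidHomOfForallMemZpowers hgen (g' := (hζ.isUnit hm0).unit) (by
      rw [hu, orderOf_mk, h.ord]), fun l => by
      rw [map_pow, monoidHomOfForallMemZpowers_apply_gen, Units.val_pow_eq_pow_val,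
        IsUnit.unit_spec]⟩
  have hμ2 : Function.Injective μ := (injective_iff_map_eq_one μ).2 fun s hs => by
    obtain ⟨k, rfl⟩ := mem_powers_iff_mem_zpowers.2 (hgen s)
    have := hμ1 k
    rw [hs, Units.val_one, eq_comm, hζ.pow_eq_one_iff_dvd, ← h.ord] at this
    exact Subtype.ext (orderOf_dvd_iff_pow_eq_one.1 this)
  have hμ3 : orderOf μ = 2 * m := by
    refine Nat.dvd_antisymm (orderOf_dvd_of_pow_eq_one (MonoidHom.ext fun s => ?_)) ?_
    · rw [MonoidHom.pow_apply, ← map_pow, ← hcard, pow_card_eq_one', map_one, MonoidHom.one_apply]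
    · have := congrArg (fun f : _ →* ℂˣ => (f σ' : ℂ)) (pow_orderOf_eq_one μ)
      simp only [MonoidHom.pow_apply, ← map_pow, hμ1] at this
      exact (hζ.pow_eq_one_iff_dvd _).1 this
  have hinv : ∀ i j : ℕ, μ ^ i = (μ ^ j)⁻¹ ↔ 2 * m ∣ i + j := fun i j =>
    (@eq_inv_iff_mul_eq_one (_ →* ℂˣ) _ (μ ^ i) (μ ^ j)).trans (by
      rw [← hμ3, orderOf_dvd_iff_pow_eq_one, pow_add])
  have heq : ∀ i j : ℕ, i < 2 * m → j < 2 * m → (μ ^ i = μ ^ j ↔ i = j) := fun i j hi hj =>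
    (pow_injOn_Iio_orderOf (x := μ)).eq_iff (by rwa [hμ3]) (by rwa [hμ3])
  choose b hb using fun (j : ℕ) (χ : IrrCharacter G) => χ.isCharacter.exists_fourB_eq_int (μ ^ j)
  have hne : ∀ j, 0 < j → j ≤ m → μ ^ j ≠ 1 := fun j h1 h2 =>
    @pow_ne_one_of_lt_orderOf _ _ μ j h1.ne' (by omega)
  have hs1 : ∀ l, 0 < l → l < 2 * m → σ' ^ l ≠ 1 := fun l a1 a2 e =>
    pow_ne_one_of_lt_orderOf a1.ne' (h.ord ▸ a2) (congrArg Subtype.val e)
  refine ⟨b, fun j h1 h2 => ?_, ?_, ?_, ?_, ?_⟩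
  · have : ((b j (IrrCharacter.triv G) : ℤ) : ℂ) = ((-1 : ℤ) : ℂ) := by
      rw [← hb, Int.cast_neg, Int.cast_one, ← fourB_const (hne j h1 h2)]; rfl
    exact Int.cast_injective this
  · intro i j a1 a2 a3 a4
    have := sum_fourB_mul_conj _ _ hB (hne i a1 a2) (hne j a3 a4)
    rw [if_congr (heq i j (by omega) (by omega)) rfl rfl,
      if_congr ((hinv i j).trans (show _ ↔ i + j = 2 * m from
        ⟨fun e => le_antisymm (by omega) (Nat.le_of_dvd (by omega) e), fun e => e ▸ dvd_rfl⟩))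
        rfl rfl] at this
    simp only [hb, map_intCast] at this
    exact_mod_cast this
  · intro ρ hρ j
    have := sum_mul_conj_fourB B (fun χ => χ.1) (fun χ => χ.1 ρ) (μ ^ j)
    rw [Finset.sum_eq_zero (s := Finset.univ) fun s _ => ?_, mul_zero] at this
    · simpa only [hb, map_intCast, mul_comm] using this
    by_cases hs : s = 1
    · simp [hs]
    rw [hρ s s.2 fun e => hs (Subtype.ext e), mul_zero]
  · intro j l a1 a2
    have h0 : (Nat.card (zpowers σ) : ℂ) ≠ 0 := Nat.cast_ne_zero.2 Nat.card_pos.ne'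
    have := sum_mul_conj_fourB B (fun χ => χ.1) (fun χ => χ.1 (σ' ^ l : zpowers σ)) (μ ^ j)
    rw [Finset.sum_congr rfl (s₁ := Finset.univ) (g := fun s => Nat.card (zpowers σ) *
      ((if s = σ' ^ l then ((μ ^ j) s⁻¹ : ℂ) - 1 else 0) +
        if s = (σ' ^ l)⁻¹ then ((μ ^ j) s⁻¹ : ℂ) - 1 else 0)) fun s _ => ?_, ← Finset.mul_sum,
      inv_mul_cancel_left₀ h0, Finset.sum_add_distrib] at this
    · simp only [hb, map_intCast, Finset.sum_ite_eq', Finset.mem_univ, if_true, map_inv,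
        Units.val_inv_eq_inv_val, MonoidHom.pow_apply, Units.val_pow_eq_pow_val, hμ1,
        ← pow_mul, mul_comm l] at this
      rw [Finset.sum_congr rfl fun χ _ => mul_comm _ _]
      exact this.trans (by rw [inv_pow, inv_inv, ← pow_mul, mul_comm l]; ring)
    by_cases hs : s = 1
    · simp [hs]
    rw [hB s _ hs]
    simp only [eq_comm (a := s), inv_eq_iff_eq_inv]
    split_ifs <;> ring
  · intro χ l a1 a2
    have hi : ∀ s ∈ zpowers σ, χ.1 s⁻¹ = χ.1 s := fun s hs => by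
      rw [← h.τ_conj hs, χ.isClassFunction]
    have h1 := sum_fourB_pow χ.1 hμ2 (s := σ' ^ l) (hs1 l a1 a2)
    rw [hi _ (σ' ^ l).2, hcard, hμ1, sum_range_two_mul_symm h.pos (b := fun j => fourB _ χ.1 (μ ^ j))
      (fourB_one _) (fun j hj => by
        rw [← fourB_inv hi (μ ^ j), (hinv (2 * m - j) j).2 (by rw [Nat.sub_add_cancel hj])])
      (by rw [← pow_mul, mul_comm, pow_mul, hζ.pow_eq_one, one_pow])] at h1
    simp only [hb, ← pow_mul, mul_comm l] at h1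
    rw [pow_mul ζ m, (hζ.pow (by omega) (mul_comm 2 m)).eq_neg_one_of_two_right] at h1
    exact h1.symm

variable {P : Sylow 2 G}

theorem exists_pow (h : IsDih (P : Subgroup G) σ τ m)
    (hinv : ∀ s, orderOf s = 2 → IsConj (σ ^ m) s) {g : G} (hg : 2 ∣ orderOf g) :
    ∃ l, 0 < l ∧ l < 2 * m ∧ IsConj (σ ^ l) (pPart 2 g) := by
  classical
  obtain ⟨c, hc⟩ := exists_conj_mem_sylow P (exists_orderOf_pPart (p := 2) g)
  have h1 : IsConj (c * pPart 2 g * c⁻¹) (pPart 2 g) := (isConj_iff.2 ⟨c, rfl⟩).symm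
  by_cases e : c * pPart 2 g * c⁻¹ ∈ zpowers σ
  · obtain ⟨k, hk, e⟩ := Finset.mem_image.1 (mem_zpowers_iff_mem_range_orderOf.1 e)
    rw [h.ord, Finset.mem_range] at hk
    refine ⟨k, Nat.pos_of_ne_zero ?_, hk, e ▸ h1⟩
    rintro rfl
    rw [← e, pow_zero, isConj_one_right] at h1
    exact pPart_ne_one_iff.2 hg h1
  · exact ⟨m, h.pos, by have := h.pos; omega, (hinv _ (h.orderOf_of_notMem hc e)).trans h1⟩

theorem cong (h : IsDih (P : Subgroup G) σ τ m)
    (hinv : ∀ s, orderOf s = 2 → IsConj (σ ^ m) s) (hG : commutator G = ⊤) {χ : IrrCharacter G}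
    (h1 : χ ≠ .triv G) {ε : ℤ} (hε : ε = 1 ∨ ε = -1)
    (hχ : ∀ l, 0 < l → l < 2 * m → χ.1 (σ ^ l) = ε) :
    ∃ c : ℤ, c ≠ 0 ∧ ε * charDegree χ.1 = 1 + 4 * m * c := by
  obtain ⟨c, hc⟩ := (ord_cong χ P (ε := ε) fun g hg g1 => by
    have ho := exists_orderOf_eq_pow_of_mem P.isPGroup' hg
    obtain ⟨l, a1, a2, e⟩ := exists_pow h hinv (g := g) (by
      rwa [← pPart_ne_one_iff, pPart_eq_self_iff.2 ho])
    rw [pPart_eq_self_iff.2 ho] at e
    rw [← χ.isClassFunction.eq_of_isConj e, hχ l a1 a2]).symm.dvd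
  rw [h.card] at hc
  push_cast at hc
  refine ⟨ε * c, fun e => h1 (IrrCharacter.eq_triv_of_perfect hG ?_), ?_⟩
  · have : c = 0 := by rcases hε with rfl | rfl <;> simpa using e
    rw [this, mul_zero] at hc
    omega
  · rcases hε with rfl | rfl <;> linarith

theorem big {m : ℕ} {c : ℤ} (hm : 4 ≤ m) (hc : c ≠ 0) :
    17 ≤ 1 + 4 * m * c ∨ 1 + 4 * m * c ≤ -15 := by
  have : (4 : ℤ) ≤ m := by exact_mod_cast hm
  rcases hc.lt_or_gt with h | h
  · exact .inr (by nlinarith)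
  · exact .inl (by nlinarith)

open Classical in
theorem no_block (h : IsDih (P : Subgroup G) σ τ m) (hm : 4 ≤ m)
    (hinv : ∀ s, orderOf s = 2 → IsConj (σ ^ m) s) (hG : commutator G = ⊤)
    (B : Finset (IrrCharacter G))
    (hB : ∀ s t : zpowers σ, s ≠ 1 → ∑ χ ∈ B, χ.1 t * conj (χ.1 s) =
      Nat.card (zpowers σ) * ((if t = s then 1 else 0) + if t = s⁻¹ then 1 else 0))
    (h0 : ∀ ρ s : G, ¬ 2 ∣ orderOf ρ → 2 ∣ orderOf s → ∑ χ ∈ B, χ.1 ρ * conj (χ.1 s) = 0)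
    (h2 : ∀ χ ∈ B, ∀ a b : G, a * a = 1 → b * b = 1 → 2 ∣ orderOf (a * b) →
      χ.1 (a * b) = χ.1 (pPart 2 (a * b)))
    (h3 : ∀ χ ∈ B, χ.1 (σ ^ m) ≠ 0) : IrrCharacter.triv G ∈ B := by
  by_contra h1
  have := Fintype.ofFinite G
  have m0 : 2 * m ≠ 0 := by omega
  have hζ := Complex.isPrimitiveRoot_exp (2 * m) m0
  generalize Complex.exp _ = ζ at hζ
  have zm : ζ ^ m = -1 := (hζ.pow (by omega) (mul_comm 2 m)).eq_neg_one_of_two_right
  have me : Even m := even_iff_two_dvd.2 (dih_even h (by omega))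
  obtain ⟨b, b1, b2, b3, b4, b5⟩ := fourier h B hB hζ
  obtain ⟨M, hM⟩ := exists_isPModular Nat.prime_two
  obtain ⟨χ₁, χ₂, χ₃, ψ, δ, δ₂, δ₃, d1, -, -, -, n1, -, -, -, -, -, -, hB0, hv, hρ⟩ :=
    h.principalBlock_eq hM (by omega) hζ
  have tt := inv_sq h.orderOf_J
  choose T hT using fun χ : IrrCharacter G => χ.exists_int_apply_of_mul_self tt
  replace hT := fun χ => (hT χ).1
  have odd : ∀ ρ : G, ¬ 2 ∣ orderOf ρ → ∀ j, ∑ χ ∈ B, b j χ * χ.1 ρ = 0 := fun ρ hρ =>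
    b3 ρ fun s hs s1 => h0 ρ s hρ
      (h.orderOf_J ▸ orderOf_dvd_of_mem_zpowers (h.J_mem_zpowers P.isPGroup' hs s1))
  obtain ⟨c₀, c0, e0⟩ := cong h hinv hG n1 d1 fun l a1 a2 => (hv l a1 a2).1
  have dd : (δ : ℂ) * δ = 1 := by rcases d1 with rfl | rfl <;> simp
  have hF : ∀ j, 0 < j → j < m → ∑ χ ∈ B, (b j χ : ℚ) * ((T χ : ℚ) ^ 2 / (charDegree χ.1 : ℤ)) =
      -(1 + ((1 + 4 * m * c₀ : ℤ) : ℚ)⁻¹ - 4 * ((1 + (1 + 4 * m * c₀) : ℤ) : ℚ)⁻¹) := by
    intro j j1 j2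
    set i : Fin (m - 1) := ⟨j - 1, by omega⟩
    have ij : (i : ℕ) + 1 = j := by simp only [i]; omega
    have key : ∑ x : G with IsConj (σ ^ m) x, ∑ y : G with IsConj (σ ^ m) y,
        (∑ χ ∈ B, b j χ * χ.1 (x * y) + (1 + δ * χ₁.1 (x * y) - δ * (ψ i).1 (x * y))) = 0 := by
      refine Finset.sum_eq_zero fun x hx => Finset.sum_eq_zero fun y hy => ?_
      by_cases ho : 2 ∣ orderOf (x * y)
      · obtain ⟨l, a1, a2, e⟩ := exists_pow h hinv ho
        have sq : ∀ {a}, IsConj (σ ^ m) a → a * a = 1 := fun ha =>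
          inv_sq ((orderOf_eq_of_isConj ha).trans h.orderOf_J)
        rw [Finset.sum_congr rfl fun χ hχ => by
          rw [h2 χ hχ x y (sq (Finset.mem_filter.1 hx).2) (sq (Finset.mem_filter.1 hy).2) ho,
            ← χ.isClassFunction.eq_of_isConj e], b4 j l a1 a2,
          h.apply_pPart hM ((hB0 χ₁).2 (by simp)) ho, h.apply_pPart hM ((hB0 (ψ i)).2 (by simp)) ho,
          ← χ₁.isClassFunction.eq_of_isConj e, ← (ψ i).isClassFunction.eq_of_isConj e,
          (hv l a1 a2).1, (hv l a1 a2).2.2.2 i, ij, ← mul_assoc, dd]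
        ring
      · rw [odd _ ho, (hρ _ ho i).2, sub_self, add_zero]
    have t0 := (IrrCharacter.triv G).sum_sum_isConj (σ ^ m)
    simp only [IrrCharacter.triv_apply, IrrCharacter.charDegree_triv] at t0
    simp only [Finset.sum_add_distrib, Finset.sum_sub_distrib] at key
    rw [Finset.sum_congr rfl fun s _ => Finset.sum_comm, Finset.sum_comm] at key
    simp only [← Finset.mul_sum, IrrCharacter.sum_sum_isConj, t0, (hv m h.pos (by omega)).1,
      (hv m h.pos (by omega)).2.2.2 i, mul_left_comm _ ((ii (σ ^ m) : ℂ) ^ 2)] at key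
    have t2 := (hρ 1 (by simp) i).2
    simp only [IrrCharacter.one_eq_charDegree] at t2
    have i0 : (ii (σ ^ m) : ℂ) ^ 2 ≠ 0 := pow_ne_zero _ (Nat.cast_ne_zero.2 index_ne_zero_of_finite)
    have z4 : (δ * (ζ ^ (((i : ℕ) + 1) * m) + (ζ ^ (((i : ℕ) + 1) * m))⁻¹)) ^ 2 = 4 := by
      rw [mul_comm _ m, pow_mul, zm, mul_pow, sq (δ : ℂ), dd]
      rcases neg_one_pow_eq_or ℂ ((i : ℕ) + 1) with e | e <;> rw [e] <;> norm_num
    apply Rat.cast_injective (α := ℂ)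
    rw [← e0]
    push_cast
    rw [t2, mul_inv, mul_inv, inv_eq_of_mul_eq_one_right dd]
    apply mul_left_cancel₀ i0
    rw [z4, sq (δ : ℂ), dd] at key
    simp only [← hT]
    linear_combination key
  have ct : ∀ χ : IrrCharacter G, ∀ ε : ℤ, (∀ j, 0 < j → j < m → b j χ = ε) → ∀ l, 0 < l →
      l < 2 * m → χ.1 (σ ^ l) = (b m χ - ε) * (-1) ^ l - ε := fun χ ε hε l a1 a2 => by
    have e := b5 (.triv G) l a1 a2
    rw [b1 m h.pos le_rfl, Finset.sum_congr rfl fun i _ => by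
      rw [b1 _ (by omega) (by have := i.2; omega)], ← Finset.mul_sum, IrrCharacter.triv_apply] at e
    rw [b5 χ l a1 a2, Finset.sum_congr rfl fun i _ => by
      rw [hε _ (by omega) (by have := i.2; omega)], ← Finset.mul_sum]
    push_cast at e
    linear_combination (ε : ℂ) * e
  have g2 := (arith (z := 17) (x := 17) (by omega) (by omega) (big hm c0) (by omega)).2
  generalize 1 + ((1 + 4 * m * c₀ : ℤ) : ℚ)⁻¹ - 4 * ((1 + (1 + 4 * m * c₀) : ℤ) : ℚ)⁻¹ = F at hF g2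
  obtain ⟨x, hx, y, hy, ε, ε', e1, e2, e3, e4⟩ := comb (T := T) (d := fun χ => charDegree χ.1) hm b
    (F := -F) (by linarith [show (0 : ℚ) < 1 / 2 by norm_num] : -F < 0).ne
    (fun χ _ => by exact_mod_cast χ.charDegree_pos)
    (fun χ hχ e => h3 χ hχ (by rw [hT, e, Int.cast_zero])) b2
    (fun j _ _ => by
      have := odd 1 (by simp) j
      simp only [IrrCharacter.one_eq_charDegree] at this
      exact_mod_cast this)
    (fun j _ _ => by
      have := b4 j m h.pos (by omega)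
      simp only [hT, mul_comm j, pow_mul, zm] at this
      apply Int.cast_injective (α := ℂ)
      push_cast
      rw [this]
      rcases neg_one_pow_eq_or ℂ j with e | e <;> rw [e] <;> norm_num)
    (fun χ _ ε hε => by
      have := ct χ ε hε m h.pos (by omega)
      rw [hT, me.neg_one_pow] at this
      apply Int.cast_injective (α := ℂ)
      push_cast
      linear_combination this) hF
  obtain ⟨c₁, c1, f1⟩ := cong h hinv hG (χ := x) (fun e => h1 (e ▸ hx)) (ε := -ε) (by omega)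
    fun l a1 a2 => by
      rw [ct x ε (fun j a b => (e3 j a b.le).1) l a1 a2, (e3 m h.pos le_rfl).1]; simp
  obtain ⟨c₂, c2, f2⟩ := cong h hinv hG (χ := y) (fun e => h1 (e ▸ hy)) (ε := -ε') (by omega)
    fun l a1 a2 => by
      rw [ct y ε' (fun j a b => (e3 j a b.le).2) l a1 a2, (e3 m h.pos le_rfl).2]; simp
  obtain ⟨g1, -⟩ := arith (big hm c1) (big hm c2) (big hm c0) (by
    have : (4 : ℤ) ≤ m := by exact_mod_cast hm
    rcases le_or_gt 0 (c₁ + c₂) with e | e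
    · exact .inl (by nlinarith)
    · exact .inr (by nlinarith))
  rw [← f1, ← f2, neg_mul, neg_mul, ← neg_add] at g1
  simp only [Int.cast_neg, inv_neg] at g1
  linarith

end Cfsg.G41.Phi
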