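import Cfsg.Agent.G41.Ico
import Cfsg.Agent.G41.E2
import Cfsg.Agent.G41.Gam
import Cfsg.Agent.G41.ODL
import Cfsg.Agent.Pass.Lin
import Cfsg.Agent.Pass.NT
import Cfsg.Agent.Grp.SmallAut
import Cfsg.Agent.FT.Main

/-! S4841, `p ≥ 5`. -/

set_option autoImplicit false

namespace Cfsg.G41

open Module

universe u

namespace PR

variable {G : Type u} [Group G] [Finite G]

theorem cent_cyc {z : G} (hz : ∀ y : G, y * y = 1 → y = 1 ∨ y = z) {P : Subgroup G}
    (hP : IsPGroup 2 P) (hc : IsCyclic P) {x : G} (hx : x ∈ Subgroup.normalizer (P : Set G))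
    (ho : ¬ 2 ∣ orderOf x) : x ∈ Subgroup.centralizer (P : Set G) := by
  rcases eq_or_ne P ⊥ with rfl | h0
  · intro y hy
    rw [Subgroup.mem_bot.1 hy, one_mul, mul_one]
  obtain ⟨w, hw, hw2⟩ := exists_orderOf_eq_prime_of_dvd_card (dvd_card_of_isPGroup_of_ne_bot hP h0)
  have w1 : w ≠ 1 := fun e => by rw [e, orderOf_one] at hw2; omega
  have w2 : w * w = 1 := by rw [← sq, ← hw2, pow_orderOf_eq_one]
  refine mem_centralizer_of_cyclic_of_fixed hP hc (Subgroup.zpowers_le.2 hx) (fun h => ho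
    (Nat.card_zpowers x ▸ h.trans (Subgroup.relIndex_dvd_card _ _))) (Subgroup.mem_zpowers x) hw w1 ?_
  rw [(hz (x * w * x⁻¹) (by rw [conj_mul, w2]; simp)).resolve_left (by simpa using w1),
    (hz w w2).resolve_left w1]

theorem two_nil {z : G} (hz : ∀ y : G, y * y = 1 → y = 1 ∨ y = z) (h3 : ¬ 3 ∣ Nat.card G) :
    HasNormalPComplement 2 G := by
  refine hasNormalPComplement_of_forall_mem_centralizer' fun Q hQ _ x hx q k hq q2 ho => ?_
  have ho2 : ¬ 2 ∣ orderOf x := fun h =>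
    q2 ((Nat.prime_dvd_prime_iff_eq Nat.prime_two hq).1 (Nat.prime_two.dvd_of_dvd_pow (ho ▸ h))).symm
  rcases quat_or_cyclic hQ (fun y _ => hz y) with h | ⟨a, y, h⟩
  · exact cent_cyc hz hQ h hx ho2
  have hR : Subgroup.zpowers a ≤ Q := Subgroup.zpowers_le.2 h.aT
  have hi : (Subgroup.zpowers a).relIndex Q = 2 := by
    refine Subgroup.index_eq_two_iff.2 ⟨⟨y, h.xT⟩, fun b => ?_⟩
    simp only [Subgroup.mem_subgroupOf, Subgroup.coe_mul]
    rcases h.cases b b.2 with e | e
    · exact .inr ⟨e, fun e' => h.notMem ((Subgroup.mul_mem_cancel_left _ e).1 e')⟩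
    · exact .inl ⟨e, fun e' => h.notMem ((Subgroup.mul_mem_cancel_left _ e').1 e)⟩
  rcases h.cases _ ((Subgroup.mem_normalizer_iff.1 hx a).1 h.aT) with e | e
  · exact mem_centralizer_of_relIndex_le_two hQ hR hi.le hx
      (cent_cyc hz (hQ.to_le hR) inferInstance (PFree.norm_of_conj e) ho2) ho2
  rcases k.eq_zero_or_pos with rfl | hk
  · rw [orderOf_eq_one_iff.1 ho]; exact one_mem _
  have := Fact.mk hq
  have q3 : q ≠ 3 := by
    rintro rfl
    exact h3 ((dvd_pow_self 3 hk.ne').trans (ho ▸ orderOf_dvd_natCard x))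
  have h4 : orderOf a ∣ 4 := by
    obtain ⟨m, hm⟩ := Subgroup.mem_zpowers_iff.1 e
    have e1 : y * a ^ m * y⁻¹ = (a ^ m)⁻¹ := by rw [← conj_zpow, h.inv, inv_zpow]
    have e2 : x * a * x⁻¹ = a ^ m * y⁻¹ := by rw [hm]; group
    have e3 : x * a * x⁻¹ * (x * a * x⁻¹) = (y * y)⁻¹ := by
      rw [e2]
      calc _ = y⁻¹ * (y * a ^ m * y⁻¹) * (a ^ m * y⁻¹) := by group
        _ = _ := by rw [e1]; group
    rw [← (MulAut.conj x).orderOf_eq a]
    refine orderOf_dvd_of_pow_eq_one ?_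
    rw [show 4 = 2 * 2 from rfl, pow_mul, sq (MulAut.conj x a), MulAut.conj_apply, e3, h.sq, sq,
      ← mul_inv_rev, h.zz, inv_one]
  have h8 : Nat.card Q = 8 := by
    rw [← card_mul_relIndex hR, Nat.card_zpowers, Nat.dvd_antisymm h4 h.four, hi]
  have h5 := card_modEq_card_fixed (σ := Q.normalizerMonoidHom ⟨x, hx⟩) (r := q) (k := k) (by
    rw [← map_pow, show (⟨x, hx⟩ : Subgroup.normalizer (Q : Set G)) ^ q ^ k = 1 from
      Subtype.ext (ho ▸ pow_orderOf_eq_one x), map_one])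
  set F := (Q.normalizerMonoidHom ⟨x, hx⟩).toMonoidHom.eqLocus (MonoidHom.id Q)
  obtain ⟨i, hi3, h6⟩ := (Nat.dvd_prime_pow Nat.prime_two).1
    ((show Nat.card Q = 2 ^ 3 from h8) ▸ F.card_subgroup_dvd_card)
  have z1 : z ≠ 1 := fun e => by
    rcases hz y (h.sq.trans e) with e' | e' <;> exact h.notMem (by rw [e']; simp [e])
  have h7 : F ≠ ⊥ := fun e => by
    have : (⟨z, hR h.za⟩ : Q) ∈ F := Subtype.ext
      ((hz (x * z * x⁻¹) (by rw [conj_mul, h.zz]; simp)).resolve_left (by simpa using z1))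
    rw [e, Subgroup.mem_bot] at this
    exact z1 (congrArg Subtype.val this)
  have h9 : F = ⊤ := by
    rw [h8, h6] at h5
    refine Subgroup.eq_top_of_card_eq _ ?_
    rw [h6, h8]
    have q5 := hq.five_le_of_ne_two_of_ne_three q2 q3
    have := (Nat.modEq_iff_dvd' (Nat.pow_le_pow_right two_pos hi3)).1 h5.symm
    interval_cases i
    · exact absurd (Subgroup.card_eq_one.1 h6) h7
    · have := Nat.le_of_dvd (by norm_num) this
      interval_cases q <;> simp_all (config := {decide := true})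
    · have := Nat.le_of_dvd (by norm_num) this
      omega
    · rfl
  intro w hw
  have h10 : (⟨w, hw⟩ : Q) ∈ F := h9 ▸ Subgroup.mem_top _
  have : x * w * x⁻¹ = w := congrArg Subtype.val h10
  exact (mul_inv_eq_iff_eq_mul.1 this).symm

/-- conjugation on the elements of order three -/
@[reducible] def conjT (G : Type u) [Group G] : MulAction G {g : G // orderOf g = 3} where
  smul x g := ⟨x * g * x⁻¹, ((MulAut.conj x).orderOf_eq g).trans g.2⟩
  one_smul g := Subtype.ext (show 1 * g.1 * 1⁻¹ = g by simp)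
  mul_smul x y g := Subtype.ext (show x * y * g.1 * (x * y)⁻¹ = x * (y * g * y⁻¹) * x⁻¹ by group)

theorem count {y : G} {r : ℕ} (hr : r.Prime) (hy : orderOf y = r)
    (h : ∀ a b : G, orderOf a = 3 → orderOf b = 3 → Commute y a → Commute y b → b = a ∨ b = a⁻¹) :
    ((∀ a, orderOf a = 3 → ¬ Commute y a) ∧ r ∣ {g : G | orderOf g = 3}.ncard) ∨
      {g : G | orderOf g = 3}.ncard ≡ 2 [MOD r] := by
  let _ := conjT G
  have := Fact.mk hr
  have h1 := (IsPGroup.of_card (n := 1) (by rw [Nat.card_zpowers, pow_one, hy]) :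
    IsPGroup r (Subgroup.zpowers y)).card_modEq_card_fixedPoints {g : G // orderOf g = 3}
  have h2 : ∀ g : {g : G // orderOf g = 3},
      g ∈ MulAction.fixedPoints (Subgroup.zpowers y) _ ↔ Commute y g := fun g => by
    refine ⟨fun e => mul_inv_eq_iff_eq_mul.1 (congrArg Subtype.val
      (e ⟨y, Subgroup.mem_zpowers y⟩)), fun e ⟨w, hw⟩ => Subtype.ext ?_⟩
    obtain ⟨k, rfl⟩ := hw
    exact mul_inv_eq_iff_eq_mul.2 (e.zpow_left k)
  by_cases h0 : ∃ a, orderOf a = 3 ∧ Commute y a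
  · obtain ⟨a, a3, ha⟩ := h0
    refine .inr (h1.trans ?_)
    suffices h3 : (MulAction.fixedPoints (Subgroup.zpowers y) {g : G // orderOf g = 3}).ncard = 2 from
      congrArg (· % r) h3
    refine Set.ncard_eq_two.2 ⟨⟨a, a3⟩, ⟨a⁻¹, (orderOf_inv a).trans a3⟩, fun e => ?_, ?_⟩
    · have := orderOf_dvd_of_pow_eq_one (show a ^ 2 = 1 by
        rw [sq]; exact mul_eq_one_iff_eq_inv.2 (congrArg Subtype.val e))
      rw [a3] at this
      omega
    · ext g
      simp only [h2, Set.mem_insert_iff, Set.mem_singleton_iff, Subtype.ext_iff]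
      exact ⟨h a g a3 g.2 ha, fun e => e.elim (fun e => e ▸ ha) fun e => e ▸ ha.inv_right⟩
  · refine .inl ⟨fun a a3 ha => h0 ⟨a, a3, ha⟩, Nat.modEq_zero_iff_dvd.1 (h1.trans ?_)⟩
    rw [show Nat.card (MulAction.fixedPoints (Subgroup.zpowers y) {g : G // orderOf g = 3}) = 0 from
      (Set.ncard_eq_zero (Set.toFinite _)).2 (Set.eq_empty_of_forall_notMem fun g hg =>
        h0 ⟨g, g.2, (h2 g).1 hg⟩)]

theorem exists_five (h : {g : G | orderOf g = 3}.ncard ≤ 20) (h25 : 25 ∣ Nat.card G) {a : G}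
    (a3 : orderOf a = 3) : ∃ y, orderOf y = 5 ∧ Commute y a := by
  let _ := conjT G
  have := Fact.mk Nat.prime_five
  have h1 := MulAction.index_stabilizer G (⟨a, a3⟩ : {g : G // orderOf g = 3})
  have h2 : (MulAction.stabilizer G (⟨a, a3⟩ : {g : G // orderOf g = 3})).index ≤ 20 :=
    h1 ▸ (Set.ncard_le_card _).trans h
  set S := MulAction.stabilizer G (⟨a, a3⟩ : {g : G // orderOf g = 3})
  have h3 : 5 ∣ Nat.card S := by
    by_contra h4
    rw [← S.index_mul_card] at h25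
    have := Nat.le_of_dvd (Nat.pos_of_ne_zero S.index_ne_zero_of_finite)
      (((Nat.prime_five.coprime_iff_not_dvd.2 h4).pow_left 2).dvd_of_dvd_mul_right h25)
    omega
  obtain ⟨y, hy, hy5⟩ := exists_orderOf_eq_prime_of_dvd_card h3
  exact ⟨y, hy5, mul_inv_eq_iff_eq_mul.1 (congrArg Subtype.val hy)⟩

end PR

variable {p : ℕ} [hp : Fact p.Prime] {V : Type} [AddCommGroup V] [Module (ZMod p) V] [Finite V]
  {H : Type u} [Group H] [Finite H] {ρ : H →* Module.End (ZMod p) V}

theorem Tr.exists_three (T : Tr ρ) (h5 : 5 ≤ p) :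
    ∃ f e : H, orderOf f = 3 ∧ orderOf e = 3 ∧ ¬ Commute f e := by
  obtain ⟨K, hK, -⟩ := stCmp p V H ρ T
  have S := stStar p V H ρ K T hK.normal
  have := T.nt
  have := Fact.mk Nat.prime_three
  obtain ⟨z, hz⟩ := S.free.exists_invol S.inj (by omega)
  have h3 : 3 ∣ Nat.card K := by
    by_contra h3
    refine PFree.not_nil_of_perfect hK.perfect Nat.prime_two ?_ (PR.two_nil hz h3)
    by_contra h2
    exact hK.ns (FT.feit_thompson (Nat.odd_iff.2 (by omega)))
  obtain ⟨d, hd⟩ := exists_prime_orderOf_dvd_card' 3 h3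
  by_contra h0
  push Not at h0
  let N := Subgroup.normalClosure ({d} : Set K)
  have h4 : IsMulCommutative N := by
    refine Subgroup.isMulCommutative_closure fun a ha b hb => ?_
    have o : ∀ a ∈ Group.conjugatesOfSet ({d} : Set K), orderOf (a : H) = 3 := fun a ha => by
      obtain ⟨_, rfl, hc⟩ := Group.mem_conjugatesOfSet_iff.1 ha
      obtain ⟨c, rfl⟩ := isConj_iff.1 hc
      rw [Subgroup.orderOf_coe, ← hd]
      exact (MulAut.conj c).orderOf_eq _
    exact Subtype.ext (h0 a b (o a ha) (o b hb))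
  have h6 := (S.center_sq hK.perfect (S.sol_le_center hK.perfect (N := N)
    (Group.isSolvable_of_comm fun a b => h4.is_comm.comm a b)
    (Subgroup.subset_normalClosure rfl))).1
  have := orderOf_dvd_of_pow_eq_one (show d ^ 2 = 1 by rw [sq, h6])
  rw [hd] at this
  omega

theorem Tr.finrank_eq_two (T : Tr ρ) (h5 : 5 ≤ p) (hq : ∀ u, ¬ Qd.Quad ρ u) :
    finrank (ZMod p) V = 2 := by
  have := T.nt
  have := Fintype.ofFinite H
  have : CharP (Module.End (ZMod p) V) p := charP_of_injective_algebraMap' (ZMod p) p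
  have h := PR.QA.of_rep ρ h5 T.free fun u hu => by_contra fun u1 => hq u ⟨u1, by rwa [← sq]⟩
  obtain ⟨f, e, f3, e3, hc⟩ := T.exists_three h5
  obtain ⟨k1, k2⟩ := h.card_three f3 e3 hc
  by_contra h2
  have h3 : 3 ≤ finrank (ZMod p) V := by
    have h0 : 0 < finrank (ZMod p) V := finrank_pos
    by_contra h1
    have h1 : finrank (ZMod p) V = 1 := by omega
    obtain ⟨c, hc', -⟩ := LinearMap.existsUnique_eq_smul_id_of_finrank_eq_one h1 (ρ f)
    refine hc (T.inj ?_)
    rw [map_mul, map_mul, hc']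
    ext v
    simp
  have k3 := (PR.count Nat.prime_three f3 fun a b a3 b3 ha hb => h.eq_or_inv a3 b3 (by
    rcases h.eq_or_inv f3 a3 ha with rfl | rfl
    · exact hb
    · exact hb.inv_left)).resolve_left fun e => e.1 f f3 (Commute.refl f)
  have key : ∀ s : ℕ, s.Prime → s ∣ p ^ finrank (ZMod p) V - 1 →
      (∀ i, 0 < i → i < finrank (ZMod p) V → ¬ s ∣ p ^ i - 1) →
      s = 5 ∧ ¬ s ^ 2 ∣ p ^ finrank (ZMod p) V - 1 := fun s hs h1 h4 => by
    have s5 : 5 ≤ s := by
      have := Nat.le_of_dvd (by have := hs.two_le; omega)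
        (dvd_sub_one_of_primitive (by omega) hs h1 h4).2
      have : s ≠ 4 := by rintro rfl; exact absurd hs (by decide)
      omega
    have k4 : ∀ y : H, orderOf y = s → s = 5 ∧ ∀ a, orderOf a = 3 → ¬ Commute y a := fun y hy => by
      have k5 := PR.count hs hy fun a b a3 b3 ha hb => h.eq_or_inv a3 b3
        ((Pass.centralizer_of_irreducible ρ T.inj
          (Pass.irreducible_of_primitive (ρ := ρ) T.inj hs h1 h4 hy)).1 a b ha hb)
      generalize {g : H | orderOf g = 3}.ncard = N at k1 k2 k3 k5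
      have k6 : N = 8 ∨ N = 20 := by unfold Nat.ModEq at k3; omega
      rcases k5 with ⟨k7, k8⟩ | k7
      · refine ⟨?_, k7⟩
        rcases k6 with rfl | rfl <;> have := Nat.le_of_dvd (by norm_num) k8 <;>
          interval_cases s <;> simp_all (config := {decide := true})
      · exfalso
        rcases k6 with rfl | rfl <;> have k8 := (Nat.modEq_iff_dvd' (by norm_num)).1 k7.symm <;>
          have := Nat.le_of_dvd (by norm_num) k8 <;>
          interval_cases s <;> simp_all (config := {decide := true})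
    have := Fact.mk hs
    obtain ⟨y, hy⟩ := exists_prime_orderOf_dvd_card' s (h1.trans T.dvd_card)
    obtain rfl := (k4 y hy).1
    refine ⟨rfl, fun h25 => ?_⟩
    obtain ⟨w, hw, hw2⟩ := PR.exists_five k1 (h25.trans T.dvd_card) f3
    exact (k4 w hw).2 f f3 hw2
  have h6 := (Pass.eq_six_of_small_primitive h5 h3 fun s hs h1 h4 =>
    ⟨by rw [(key s hs h1 h4).1]; omega, (key s hs h1 h4).2⟩).1
  obtain ⟨s, y, hs, h1, h4, -, h7, -⟩ := T.zsig (by omega) h3
  rw [(key s hs h1 h4).1, h6] at h7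
  omega

theorem stP5 : StP5.{u} := fun p _ V _ _ _ H _ _ ρ h5 T => by
  by_cases hq : ∃ u, Qd.Quad ρ u
  · obtain ⟨u, hu⟩ := hq
    exact .inl (Qd.q1 h5 T (inv_of_tr h5 T) hu)
  · push Not at hq
    exact e2 h5 T (by rw [Pass.card_eq_pow (p := p), T.finrank_eq_two h5 hq]) hq

end Cfsg.G41
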